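import Cfsg.Agent.Omega.IId.Cv.CvLine
import Cfsg.Agent.Omega.IId.ThmCD.Cor

/-!
# II.d, `V_P = V × D`: the cut of `CvBig` (more than two factors; head: helper958)

`CvBigN K` : `CvBig K` for `D = cv S P`, `D' = cv S' P'`; `wrCvN_of'` : `WrCvN K` with `CvBigN` for `CvBig`.

Sockets (`k > 2`, `R = line M i`, `QL M i = O₂(N_G(R))`, `T = stab M i`):

* `ThmCD` : THEOREM C with arbitrary `D`: `QL M i ≤ S`;
* `BigMix` : neither `V_i` nor `V'_{i'}` is unmixed (`k > 2`, `k'` arbitrary);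
* `Big2A2`, `Big2A4` : a 2-group `T₁ ≥ T` normalises `V_i` and is Sylow in `N_G(R)` (`OverT M i T₁`) (`q = 2`, `q ≥ 4`);
* `BigU2`, `BigU4` : `V_i` unmixed, `D ≠ 1`, `OverT M i T₁`, `T₁` not Sylow in `G`;
* `BigUS2`, `BigUS4` : the same, `T₁` Sylow in `G`;
* `BigOne2`, `BigOne4` : `k' = 1`, `V'` unmixed.
-/

set_option autoImplicit false
set_option linter.unusedSectionVars false

namespace Cfsg.Agent.Omega.IId.Cv

open Subgroup Pointwise Cfsg Cfsg.Agent.ZN Cfsg.Agent.ZN.ChoiceBase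
open Cfsg.Agent.Omega.MinPar Cfsg.Agent.Omega.Frame Cfsg.Agent.Omega.FFThm Cfsg.Agent.Omega.FrameMulti
open Cfsg.Agent.Omega.FrameLE (AllIn)
open Cfsg.Agent.Omega.FrameFF (cv Free)
open Cfsg.Agent.Omega.HOne.Main (vx SplitPar)
open Cfsg.Agent.Omega.IId.NV

universe u

/-- `T₁ ≥ stab M i` is a 2-group which normalises `fac M i` and is a Sylow 2-subgroup of `N_G(line M i)`. -/
structure OverT {G : Type u} [Group G] [Finite G] {F : Type} [Field F] {S : Sylow 2 G} {P V D : Subgroup G} {k : ℕ}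
    (M : NatD F S P V D k) (i : Fin k) (T₁ : Subgroup G) : Prop where
  two : IsPGroup 2 T₁
  le : NV.stab M.toNatV i ≤ T₁
  fac : T₁ ≤ normalizer (NV.fac M.toNatV i : Set G)
  line : T₁ ≤ normalizer (NV.line M.toNatV i : Set G)
  syl : ¬ 2 ∣ T₁.relIndex (normalizer (NV.line M.toNatV i : Set G))

/-- `C_G(R) ∩ {[O₂(N_G(R)), x] ≤ R}` does not centralise `V_i`. -/
def Mv {G : Type u} [Group G] [Finite G] {F : Type} [Field F] {S : Sylow 2 G} {P V D : Subgroup G} {k : ℕ}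
    (M : NatD F S P V D k) (i : Fin k) : Prop :=
  ∃ x ∈ KX (NV.line M.toNatV i), ∃ v ∈ NV.fac M.toNatV i, x * v ≠ v * x

/-! ### The sockets -/

/-- **THEOREM C with arbitrary `D`** -/
def ThmCD : Prop :=
  ∀ (G : Type u) [Group G] [Finite G] (S : Sylow 2 G) (P : Subgroup G) (F : Type) [Field F] [Finite F] [CharP F 2]
    (V D : Subgroup G) (k : ℕ) (M : NatD F S P V D k), 2 ≤ k → ∀ i, QL M i ≤ (S : Subgroup G)

section sockets

variable (K : Cls.{u})

/-- `CvBig` for `D = cv S P`, `D' = cv S' P'`. -/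
def CvBigN : Prop :=
  ∀ (G : Type u) [Group G] [Finite G] (S S' : Sylow 2 G), HypN K S → ∀ (P P' : Subgroup G), Pair S S' P P' →
    ∀ (F F' : Type) [Field F] [Finite F] [CharP F 2] [Field F'] [Finite F'] [CharP F' 2] (V V' : Subgroup G)
      (k k' : ℕ) (_ : NatD F S P V (cv (S : Subgroup G) P) k) (_ : NatD F' S' P' V' (cv (S' : Subgroup G) P') k'),
      2 ≤ k → 1 ≤ k' → IsNat (S : Subgroup G) P k → IsNat (S' : Subgroup G) P' k' →
      cv (S : Subgroup G) P ≠ ⊥ ∨ cv (S' : Subgroup G) P' ≠ ⊥ → 2 < k ∨ 2 < k' → IsKnownSimple' G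

/-- Neither `V_i` nor `V'_{i'}` is unmixed; `k > 2`. -/
def BigMix : Prop :=
  ∀ (G : Type u) [Group G] [Finite G] (S S' : Sylow 2 G), HypN K S → ∀ (P P' : Subgroup G), Pair S S' P P' →
    ∀ (F F' : Type) [Field F] [Finite F] [CharP F 2] [Field F'] [Finite F'] [CharP F' 2]
      (V V' D D' : Subgroup G) (k k' : ℕ) (M : NatD F S P V D k) (M' : NatD F' S' P' V' D' k'), 2 < k → 1 ≤ k' →
      (∀ l, QL M l ≤ (S : Subgroup G)) → (∀ l, QL M' l ≤ (S' : Subgroup G)) → D ≠ ⊥ ∨ D' ≠ ⊥ →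
      ∀ i i', Ent M M' i i' → ¬ UnM M i → ¬ UnM M' i' → IsKnownSimple' G

/-- CASE 2a does not occur, `q = 2`. (helper963, 165, 932) -/
def Big2A2 : Prop :=
  ∀ (G : Type u) [Group G] [Finite G] (S : Sylow 2 G), HypN K S → ∀ (P : Subgroup G)
    (F : Type) [Field F] [Finite F] [CharP F 2] (V D : Subgroup G) (k : ℕ) (M : NatD F S P V D k), 2 < k →
      (∀ l, QL M l ≤ (S : Subgroup G)) → D ≠ ⊥ → ∀ i, Mv M i → Nat.card F = 2 → ∃ T₁, OverT M i T₁

/-- CASE 2a does not occur, `q ≥ 4`, `V_i` unmixed. (helper796) -/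
def Big2A4 : Prop :=
  ∀ (G : Type u) [Group G] [Finite G] (S : Sylow 2 G), HypN K S → ∀ (P : Subgroup G)
    (F : Type) [Field F] [Finite F] [CharP F 2] (V D : Subgroup G) (k : ℕ) (M : NatD F S P V D k), 2 < k →
      (∀ l, QL M l ≤ (S : Subgroup G)) → D ≠ ⊥ → ∀ i, UnM M i → 4 ≤ Nat.card F → ∃ T₁, OverT M i T₁

/-- `T₁` is not a Sylow 2-subgroup of `G`, `q = 2`. (helper730) -/
def BigU2 : Prop :=
  ∀ (G : Type u) [Group G] [Finite G] (S : Sylow 2 G), HypN K S → ∀ (P : Subgroup G)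
    (F : Type) [Field F] [Finite F] [CharP F 2] (V D : Subgroup G) (k : ℕ) (M : NatD F S P V D k), 2 < k →
      (∀ l, QL M l ≤ (S : Subgroup G)) → D ≠ ⊥ → ∀ i, UnM M i → ∀ T₁, OverT M i T₁ →
        (∀ S₁ : Sylow 2 G, (S₁ : Subgroup G) ≠ T₁) → Nat.card F = 2 → False

/-- `T₁` is not a Sylow 2-subgroup of `G`, `q ≥ 4`. -/
def BigU4 : Prop :=
  ∀ (G : Type u) [Group G] [Finite G] (S : Sylow 2 G), HypN K S → ∀ (P : Subgroup G)
    (F : Type) [Field F] [Finite F] [CharP F 2] (V D : Subgroup G) (k : ℕ) (M : NatD F S P V D k), 2 < k →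
      (∀ l, QL M l ≤ (S : Subgroup G)) → D ≠ ⊥ → ∀ i, UnM M i → ∀ T₁, OverT M i T₁ →
        (∀ S₁ : Sylow 2 G, (S₁ : Subgroup G) ≠ T₁) → 4 ≤ Nat.card F → False

/-- `T₁` is a Sylow 2-subgroup of `G`, `q = 2`. -/
def BigUS2 : Prop :=
  ∀ (G : Type u) [Group G] [Finite G] (S : Sylow 2 G), HypN K S → ∀ (P : Subgroup G)
    (F : Type) [Field F] [Finite F] [CharP F 2] (V D : Subgroup G) (k : ℕ) (M : NatD F S P V D k), 2 < k →
      (∀ l, QL M l ≤ (S : Subgroup G)) → D ≠ ⊥ → ∀ i, UnM M i → ∀ S₁ : Sylow 2 G, OverT M i S₁ →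
        Nat.card F = 2 → IsKnownSimple' G

/-- `T₁` is a Sylow 2-subgroup of `G`, `q ≥ 4`. -/
def BigUS4 : Prop :=
  ∀ (G : Type u) [Group G] [Finite G] (S : Sylow 2 G), HypN K S → ∀ (P : Subgroup G)
    (F : Type) [Field F] [Finite F] [CharP F 2] (V D : Subgroup G) (k : ℕ) (M : NatD F S P V D k), 2 < k →
      (∀ l, QL M l ≤ (S : Subgroup G)) → D ≠ ⊥ → ∀ i, UnM M i → ∀ S₁ : Sylow 2 G, OverT M i S₁ →
        4 ≤ Nat.card F → IsKnownSimple' G

/-- `k' = 1`, `V'` unmixed, `q = 2`. -/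
def BigOne2 : Prop :=
  ∀ (G : Type u) [Group G] [Finite G] (S S' : Sylow 2 G), HypN K S → ∀ (P P' : Subgroup G), Pair S S' P P' →
    ∀ (F F' : Type) [Field F] [Finite F] [CharP F 2] [Field F'] [Finite F'] [CharP F' 2]
      (V V' D D' : Subgroup G) (k : ℕ) (M : NatD F S P V D k) (M' : NatD F' S' P' V' D' 1), 2 < k →
      (∀ l, QL M l ≤ (S : Subgroup G)) → D ≠ ⊥ ∨ D' ≠ ⊥ → ∀ i i', Ent M M' i i' → UnM M' i' →
        Nat.card F = 2 → IsKnownSimple' G

/-- `k' = 1`, `V'` unmixed, `q ≥ 4`. -/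
def BigOne4 : Prop :=
  ∀ (G : Type u) [Group G] [Finite G] (S S' : Sylow 2 G), HypN K S → ∀ (P P' : Subgroup G), Pair S S' P P' →
    ∀ (F F' : Type) [Field F] [Finite F] [CharP F 2] [Field F'] [Finite F'] [CharP F' 2]
      (V V' D D' : Subgroup G) (k : ℕ) (M : NatD F S P V D k) (M' : NatD F' S' P' V' D' 1), 2 < k →
      (∀ l, QL M l ≤ (S : Subgroup G)) → D ≠ ⊥ ∨ D' ≠ ⊥ → ∀ i i', Ent M M' i i' → UnM M' i' →
        4 ≤ Nat.card F → IsKnownSimple' G

/-- The sockets of `CvBigN K`. -/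
structure BigIn : Prop where
  mix : BigMix K
  a2 : Big2A2 K
  a4 : Big2A4 K
  u2 : BigU2 K
  u4 : BigU4 K
  us2 : BigUS2 K
  us4 : BigUS4 K
  one2 : BigOne2 K
  one4 : BigOne4 K

end sockets

/-! ### The cut -/

section cut

variable {G : Type u} [Group G] [Finite G] {F : Type} [Field F] [Finite F] [CharP F 2] {S : Sylow 2 G}
  {P V D : Subgroup G} {k : ℕ} (M : NatD F S P V D k) (hC : ∀ l, QL M l ≤ (S : Subgroup G)) {i : Fin k}
include hC

/-- An unmixed `V_i` gives a mutual pair `(V_P, V_P^g)`. -/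
theorem mutual_big (hu : UnM M i) : ∃ g, Mutual (S : Subgroup G) P P g := by
  obtain ⟨g, hg, v, hv, w, hw, hne⟩ := hu
  have hle' := zl_le_QL M hC i
  have hz : P ≤ normalizer (zl (S : Subgroup G) P : Set G) := MinSimple.VModule.le_normalizer_zl _ _
  have hQP := QL_le_P M hC i
  have hgQ : cj g (QL M i) = QL M i :=
    cj_eq_of_mem_normalizer (MinSimple.VModule.le_normalizer_o2 _ hg)
  refine ⟨g, M.star, M.star, ?_, ?_, ?_⟩
  · change _ ≤ normalizer ((cj g (zl (S : Subgroup G) P) : Subgroup G) : Set G)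
    rw [← cj_normalizer]
    refine hle'.trans ?_
    rw [← hgQ]
    exact cj_mono g (hQP.trans hz)
  · change cj g (zl (S : Subgroup G) P) ≤ _
    have := cj_mono g hle'
    rw [hgQ] at this
    exact this.trans (hQP.trans hz)
  · intro h0
    rw [commutator_eq_bot_iff_le_centralizer] at h0
    have h1 : g * w * g⁻¹ ∈ cj g (zl (S : Subgroup G) P) := by
      rw [mem_cj_iff]
      have e : g⁻¹ * (g * w * g⁻¹) * g = w := by group
      rw [e]
      exact M.V_le (NV.fac_le _ _ hw)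
    exact hne (mem_centralizer_iff.1 (h0 (M.V_le (NV.fac_le _ _ hv))) _ h1).symm

/-- An unmixed `V_i` is moved by `KX (line M i)`. -/
theorem mv_of_unM (hu : UnM M i) : Mv M i := by
  obtain ⟨g, hg, v, hv, w, hw, hne⟩ := hu
  refine ⟨g * w * g⁻¹, ?_, v, hv, Ne.symm hne⟩
  exact (mem_normalizer_iff.1 (normalizer_le_normalizer_KX _ hg) w).1 (fac_le_KX_self M hC i hw)

end cut

theorem cv_ne_bot_big {K : Cls.{u}} {G : Type u} [Group G] [Finite G] {F : Type} [Field F] [Finite F] [CharP F 2]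
    {S : Sylow 2 G} {P V : Subgroup G} {k : ℕ} (hH : HypN K S) (hk : 2 ≤ k) (hN : IsNat (S : Subgroup G) P k)
    (M : NatD F S P V (cv (S : Subgroup G) P) k) (hC : ∀ l, QL M l ≤ (S : Subgroup G)) {i : Fin k}
    (hu : UnM M i) : cv (S : Subgroup G) P ≠ ⊥ := by
  obtain ⟨g, hg⟩ := mutual_big M hC hu
  exact fun h0 => hH.nf P P g hg k hk hN ⟨h0, h0⟩

/-- The unmixed case, `k > 2`. -/
theorem unM_big {K : Cls.{u}} (I : BigIn K) {G : Type u} [Group G] [Finite G] {S : Sylow 2 G} (hH : HypN K S)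
    {P : Subgroup G} {F : Type} [Field F] [Finite F] [CharP F 2] {V D : Subgroup G} {k : ℕ}
    (M : NatD F S P V D k) (hk : 2 < k) (hC : ∀ l, QL M l ≤ (S : Subgroup G)) (i : Fin k) (hD : D ≠ ⊥)
    (hu : UnM M i) : IsKnownSimple' G := by
  have hm := mv_of_unM M hC hu
  rcases FrameFF.two_le_card (F := F) with hq | hq
  · obtain ⟨T₁, hT⟩ := I.a2 G S hH P F V D k M hk hC hD i hm hq
    by_cases hS : ∀ S₁ : Sylow 2 G, (S₁ : Subgroup G) ≠ T₁
    · exact (I.u2 G S hH P F V D k M hk hC hD i hu T₁ hT hS hq).elim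
    · push Not at hS
      obtain ⟨S₁, rfl⟩ := hS
      exact I.us2 G S hH P F V D k M hk hC hD i hu S₁ hT hq
  · obtain ⟨T₁, hT⟩ := I.a4 G S hH P F V D k M hk hC hD i hu hq
    by_cases hS : ∀ S₁ : Sylow 2 G, (S₁ : Subgroup G) ≠ T₁
    · exact (I.u4 G S hH P F V D k M hk hC hD i hu T₁ hT hS hq).elim
    · push Not at hS
      obtain ⟨S₁, rfl⟩ := hS
      exact I.us4 G S hH P F V D k M hk hC hD i hu S₁ hT hq

/-- `hC` for every number of factors -/
theorem hC_all (hT : ThmCD.{u}) {G : Type u} [Group G] [Finite G] {S : Sylow 2 G} {P : Subgroup G} {F : Type}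
    [Field F] [Finite F] [CharP F 2] {V D : Subgroup G} {k : ℕ} (M : NatD F S P V D k) :
    ∀ l, QL M l ≤ (S : Subgroup G) := by
  rcases (show k = 0 ∨ k = 1 ∨ 2 ≤ k by omega) with rfl | rfl | hk
  · exact fun l => l.elim0
  · exact hC_one M
  · exact hT G S P F V D k M hk

/-- **`CvBigN` from its sockets.** -/
theorem cvBigN_of {K : Cls.{u}} (hT : ThmCD.{u}) (I : BigIn K) (h1 : CvOneA2 K) (h2 : CvOneA4 K) (h3 : CvTwoA K)
    (h4 : CvTwoB K) : CvBigN K := by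
  intro G _ _ S S' hH P P' hp F F' _ _ _ _ _ _ V V' k k' M M' hk hk' hN hN' hD hb
  have hC := hC_all hT M
  have hC' := hC_all hT M'
  obtain ⟨i, i', L⟩ := exists_entry_of hp (hH.toHyp.typed' hp).1.noOver (hH.toHyp.typed' hp).2.noOver M M' hC hC'
  by_cases hu : UnM M i
  · have hD0 := cv_ne_bot_big hH hk hN M hC hu
    rcases (show k = 2 ∨ 2 < k by omega) with rfl | hk2
    · exact unM_known h1 h2 h3 h4 hH M i hD0 hu
    · exact unM_big I hH M hk2 hC i hD0 hu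
  by_cases hu' : UnM M' i'
  · rcases (show k' = 1 ∨ k' = 2 ∨ 2 < k' by omega) with rfl | rfl | hk2
    · have hk2 : 2 < k := by omega
      rcases FrameFF.two_le_card (F := F) with hq | hq
      · exact I.one2 G S S' hH P P' hp F F' V V' _ _ k M M' hk2 hC hD i i' L hu' hq
      · exact I.one4 G S S' hH P P' hp F F' V V' _ _ k M M' hk2 hC hD i i' L hu' hq
    · have hD0 := cv_ne_bot_big (hH.conj S') le_rfl hN' M' hC' hu'
      exact unM_known h1 h2 h3 h4 (hH.conj S') M' i' hD0 hu'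
    · have hD0 := cv_ne_bot_big (hH.conj S') (by omega) hN' M' hC' hu'
      exact unM_big I (hH.conj S') M' hk2 hC' i' hD0 hu'
  rcases hb with hb | hb
  · exact I.mix G S S' hH P P' hp F F' V V' _ _ k k' M M' hb hk' hC hC' hD i i' L hu hu'
  · exact I.mix G S' S (hH.conj S') P' P hp.symm F' F V' V _ _ k' k M' M hb (by omega) hC' hC hD.symm i' i L.symm
      hu' hu

/-- **`WrCvN` from its sockets**, with `CvBigN`. -/
theorem wrCvN_of' {K : Cls.{u}} (hS : CvSym K) (hN : CvNonsplit K) (hB : CvBigN K) (hL : CvLine K) (hM : CvMix K)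
    (h1 : CvOneA2 K) (h2 : CvOneA4 K) (h3 : CvTwoA K) (h4 : CvTwoB K) (hO : CvOne K) : WrCvN K := by
  intro G _ _ S S' hH P P' hp k hk hk2 hf
  obtain ⟨t, t'⟩ := hH.toHyp.typed' hp
  rcases t'.cases with ⟨k', hk', hN'⟩ | ⟨k', m', hk', hm', hS'⟩
  · by_cases hs : SplitPar (S : Subgroup G) P ∧ SplitPar (S' : Subgroup G) P'
    · have hkN := hk2
      have hkN' := hN'
      obtain ⟨F, _, _, _, ⟨M₀⟩⟩ := hk2
      obtain ⟨F', _, _, _, ⟨M₀'⟩⟩ := hN'
      have hc := hH.ctx.char2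
      have M := NatD.ofSplit hc hp.star M₀ hs.1
      have M' := NatD.ofSplit hc hp.star' M₀' hs.2
      have hD : cv (S : Subgroup G) P ≠ ⊥ ∨ cv (S' : Subgroup G) P' ≠ ⊥ := by
        by_contra hcon
        push Not at hcon
        exact hf hcon
      by_cases hb : 2 < k ∨ 2 < k'
      · exact hB G S S' hH P P' hp F F' _ _ k k' M M' hk hk' hkN hkN' hD hb
      push Not at hb
      obtain rfl : k = 2 := le_antisymm hb.1 hk
      obtain ⟨i, i', L⟩ := hL G S S' hH P P' hp F F' _ _ _ _ k' M M' hk' hb.2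
      by_cases hu : UnM M i
      · exact unM_known h1 h2 h3 h4 hH M i (cv_ne_bot hH hkN M L.le hu) hu
      by_cases hu' : UnM M' i'
      · rcases (show k' = 1 ∨ k' = 2 by omega) with rfl | rfl
        · exact hO G S S' hH P P' hp F F' _ _ _ _ M M' hD i i' L hu'
        · have hle' := L.le'
          rw [L.eq'] at hle'
          exact unM_known h1 h2 h3 h4 (hH.conj S') M' i' (cv_ne_bot (hH.conj S') hkN' M' hle' hu') hu'
      exact hM G S S' hH P P' hp F F' _ _ _ _ k' M M' hk' hb.2 hD i i' L hu hu'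
    · exact hN G S S' hH P P' hp k k' hk hk' hk2 hN' hs
  · exact hS G S S' hH P P' hp k hk hk2 hf k' m' hk' hm' hS'

end Cfsg.Agent.Omega.IId.Cv
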