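import Cfsg.Agent.Omega.ThmC.Of
import Cfsg.Agent.Omega.IId.ThmCD.Cor
import Cfsg.Agent.Omega.IId.ThmCD.Of
import Cfsg.Agent.Omega.IId.ThmCQ.Fix
import Cfsg.Agent.Omega.IId.ThmCQ.SpMk
import Cfsg.Agent.Omega.IId.Cv.CvLine
import Cfsg.Agent.Omega.IId.CvBig.Cut

/-!
# CvBig: THEOREM C with `D` for all `q`, all `k`, and the entry

* `QL_le_zc_cent` : `|F| ≥ 4`: `O₂(N_G(line M i))` centralises `Ω₁ Z(S^L)`;
* `hC_all` : `O₂(N_G(line M i)) ≤ S`, any finite `F` of characteristic 2, any `k`, any `D`;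
* `exists_ent_all` : the entry data of a mutual pair of `HypN K S`, any `k`, `k'`;
* `lineBig` : the same as `LineD`.
-/

set_option autoImplicit false
set_option linter.unusedSectionVars false

namespace Cfsg.Agent.Omega.IId.CvBig

open Subgroup Pointwise Cfsg Cfsg.Agent.ZN Cfsg.Agent.ZN.ChoiceBase
open Cfsg.Agent.Omega.MinPar Cfsg.Agent.Omega.Frame Cfsg.Agent.Omega.FFThm Cfsg.Agent.Omega.FrameMulti
open Cfsg.Agent.MinSimple
open Cfsg.Agent.Omega.IId.NV Cfsg.Agent.Omega.IId.Cv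
open Cfsg.Agent.MinSimple.VModule (zc_le o2_isPGroup o2_le le_normalizer_o2)

universe u

section one

variable {G : Type u} [Group G] [Finite G] {F : Type} [Field F] [Finite F] [CharP F 2] {S : Sylow 2 G}
  {P V D : Subgroup G} {k : ℕ} (M : NatD F S P V D k)

/-- **THEOREM C with `D`, `q ≥ 4`**: `O₂(N_G(line M i))` centralises `E = Ω₁ Z(S^L)`. -/
theorem QL_le_cent_E (hF : 4 ≤ Nat.card F) (i : Fin k) :
    QL M i ≤ centralizer (zc (ThmCQ.Sp.LS M) : Set G) := by
  obtain ⟨t, p, h, T⟩ := ThmCQ.Sp.exists_tor (M := M) hF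
  exact T.dat.main i

/-- `O₂(N_G(line M i)) ≤ S`, `q ≥ 4` -/
theorem hC_four (hF : 4 ≤ Nat.card F) (i : Fin k) : QL M i ≤ (S : Subgroup G) := by
  obtain ⟨t, p, h, T⟩ := ThmCQ.Sp.exists_tor (M := M) hF
  have hD := T.dat
  set E : Subgroup G := zc (ThmCQ.Sp.LS M) with hE
  have h1 : QL M i ≤ centralizer (E : Set G) := hD.main i
  have h2 : centralizer (E : Set G) ≤ normalizer (NV.line M.toNatV i : Set G) :=
    (centralizer_le (hD.ZE i)).trans (centralizer_le_normalizer _)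
  have h3 : QL M i ≤ o2 (centralizer (E : Set G)) :=
    MinSimple.VModule.le_o2 h1 (QL_two M i) (h2.trans (nor_line_le M i))
  have h4 : (S : Subgroup G) ≤ normalizer (centralizer (E : Set G) : Set G) := by
    intro s hs
    have h5 : s ∈ normalizer (E : Set G) := hD.S_le hs
    rw [mem_normalizer_iff_cj, cj_centralizer, cj_eq_of_mem_normalizer h5]
  exact h3.trans (ThmCD.le_sylow_of_normalized S (o2_isPGroup _) fun s hs => ThmCD.nor_o2 (h4 hs))

/-- **`O₂(N_G(line M i)) ≤ S`**, all `q`, `k`, `D`. -/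
theorem hC_all (i : Fin k) : QL M i ≤ (S : Subgroup G) := by
  rcases Cfsg.Agent.Omega.ThmC.Of.card_cases (F := F) with hF | hF
  · have hex : ∀ j : Fin k, ∃ z ∈ NV.line M.toNatV j, z ≠ 1 := fun j => ThmCQ.Sp.exists_line M j
    choose z hz hz1 using hex
    exact hC_of M hF hz hz1 (fun j => (thmCD M hF (hz j) (hz1 j)).1) i
  · exact hC_four M hF i

end one

/-- The socket `Cv.ThmCD` of `CvBig/Cut.lean`. -/
theorem thmCD : Cv.ThmCD.{u} := fun _ _ _ _ _ _ _ _ _ _ _ _ M _ i => hC_all M i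

/-- **The entry for all `k`, `k'`.** -/
theorem exists_ent_all {K : Cls.{u}} {G : Type u} [Group G] [Finite G] {S S' : Sylow 2 G} (hH : HypN K S)
    {P P' : Subgroup G} (hp : Pair S S' P P') {F F' : Type} [Field F] [Finite F] [CharP F 2] [Field F'] [Finite F']
    [CharP F' 2] {V V' D D' : Subgroup G} {k k' : ℕ} (M : NatD F S P V D k) (M' : NatD F' S' P' V' D' k') :
    ∃ i i', Ent M M' i i' :=
  exists_entry_of hp (hH.toHyp.typed' hp).1.noOver (hH.toHyp.typed' hp).2.noOver M M' (hC_all M) (hC_all M')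

/-- `|I| = 1`, the line and the entry, all `k`, `k'`. -/
theorem lineBig {K : Cls.{u}} {G : Type u} [Group G] [Finite G] {S S' : Sylow 2 G} (hH : HypN K S)
    {P P' : Subgroup G} (hp : Pair S S' P P') {F F' : Type} [Field F] [Finite F] [CharP F 2] [Field F'] [Finite F']
    [CharP F' 2] {V V' D D' : Subgroup G} {k k' : ℕ} (M : NatD F S P V D k) (M' : NatD F' S' P' V' D' k') :
    ∃ i i', LineD M M' i i' := by
  obtain ⟨i, i', h⟩ := exists_ent_all hH hp M M'
  exact ⟨i, i', lineD_of_ent h⟩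

end Cfsg.Agent.Omega.IId.CvBig
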