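import Cfsg.Agent.Omega.IId.Cv.Bts
import Cfsg.Agent.Omega.IId.ThmCD.Cor
import Cfsg.Agent.Omega.IId.NLFree

/-!
# II.d, `V_P = V × D`, any number of factors: `BTS (fac M i)` for an unmixed factor (helper540)

`M : NatD F S P V D k`, THEOREM C: `hC : ∀ l, QL M l ≤ S`.

* `o2_up_big` : the elements of `O₂(N_G(R))` act on `V_i` as `up b`;
* `nonLoc_big` : `⟨N_G(V_i), N_G(R)⟩` is nonlocal (LEMMA NL);
* `BtsK M i N` : `N : NatMod F (fac M i)` has the coordinates of `M`, `BTS (fac M i) (pt N)`, and `fac M l` (`l ≠ i`), `D`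
  centralise `X`; `BtsK.le_CenX`;
* `bts_big` : `N_G(V_i)` normalises the `SL₂(F)` and `V_i` unmixed imply `BtsK`; `bts_big_two` (`|F| = 2`).
-/

set_option autoImplicit false
set_option linter.unusedSectionVars false

namespace Cfsg.Agent.Omega.IId.NV

open Subgroup Pointwise Cfsg Cfsg.Agent.ZN Cfsg.Agent.ZN.ChoiceBase
open Cfsg.Agent.Omega.MinPar Cfsg.Agent.Omega.FFThm
open Cfsg.Agent.Lib.SL2Mat
open Cfsg.Agent.MinSimple
open Cfsg.Agent.Omega.NatPair (ap ap_mul ap_one ap_inv_ap ap_ap_inv exists_ap ap_add NatMod PreMod)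
open Cfsg.Agent.MinSimple.VModule (zc_le zc_comm zc_sq zc_le_zl le_normalizer_o2 o2_isPGroup o2_le
  normalizer_le_normalizer_zc le_normalizer_zl)
open scoped commutatorElement

universe u

section big

variable {G : Type u} [Group G] [Finite G] {F : Type} [Field F] [CharP F 2] {S : Sylow 2 G} {P V D : Subgroup G}
  {k : ℕ} (M : NatD F S P V D k) (hC : ∀ l, QL M l ≤ (S : Subgroup G))

include hC

/-- **The elements of `O₂(N_G(R))` act on `V_i` as `up b`.** -/
theorem o2_up_big {i : Fin k} {w : G} (hw : w ∈ o2 (normalizer (line M.toNatV i : Set G))) :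
    ∃ b : F, ∀ v ∈ fac M.toNatV i, M.e (w * v * w⁻¹) i = ap (up b) (M.e v i) := by
  have hws := QL_le_stab M hC i hw
  have hwc : ∀ r ∈ line M.toNatV i, w * r = r * w := fun r hr =>
    (mem_centralizer_iff.1 (o2_cent_line' M i hw) r hr).symm
  refine exists_up (SP M (stab_le _ _ hws)) (fun r hr => ?_) fun v hv => ?_
  · rw [hwc r hr, mul_inv_cancel_right]
  · obtain ⟨n, hn⟩ := o2_isPGroup (normalizer (line M.toNatV i : Set G)) ⟨w, hw⟩
    exact comm_line M.toNatV (SP M) hws ⟨n, congrArg Subtype.val hn⟩ hwc hv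

/-- The data of LEMMA NL. -/
theorem cor_big (i : Fin k) : NLFree.Cor (line M.toNatV i) (fac M.toNatV i) (normalizer (line M.toNatV i : Set G))
    (normalizer (fac M.toNatV i : Set G)) where
  RA := line_le _ i
  R1 := line_ne_bot' (M := M.toNatV) i
  pA := (V_two M).to_le (fac_le _ _)
  cH := centralizer_le_normalizer _
  HR := le_rfl
  AQ := fac_le_QL_self M hC i
  com := fun v hv x hx => by
    have h1 := comm_QL M hC (i := i) hx (M.V_le (fac_le _ _ hv))
    have e : v * x * v⁻¹ * x⁻¹ = (x * v * x⁻¹ * v⁻¹)⁻¹ := by group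
    rw [e]
    exact inv_mem h1
  DA := le_rfl
  irr X hX hne := by
    obtain ⟨a, ha, ha1⟩ := (Subgroup.bot_or_exists_ne_one _).resolve_left hne
    intro b hb
    by_cases hb1 : b = 1
    · rw [hb1]; exact one_mem _
    obtain ⟨g, hg, rfl⟩ := exists_grp M.toNatV (mem_inf.1 ha).1 hb ha1 hb1
    exact (mem_normalizer_iff.1 (hX (grp_normalizes M.toNatV {i} {i} hg)) a).1 (mem_inf.1 ha).2

/-- **Nonlocality.** -/
theorem nonLoc_big {i : Fin k} {c : G} (hc : c ∈ normalizer (line M.toNatV i : Set G))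
    (hne : ∃ v ∈ fac M.toNatV i, ∃ w ∈ fac M.toNatV i, v * (c * w * c⁻¹) ≠ c * w * c⁻¹ * v) :
    NonLoc (normalizer (line M.toNatV i : Set G)) (normalizer (fac M.toNatV i : Set G)) := by
  refine (cor_big M hC i).nonLoc M.hG hc fun r hr => ?_
  obtain ⟨v, hv, w, hw, hvw⟩ := hne
  have hcw : c * w * c⁻¹ ∈ o2 (normalizer (line M.toNatV i : Set G)) :=
    (mem_normalizer_iff.1 (ZN.le_normalizer_o2 _ hc) w).1 (fac_le_QL_self M hC i hw)
  obtain ⟨v', hv', e⟩ := line_le_comm (M := M.toNatV) (i := i) (o2_up_big M hC hcw)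
    (stab_normalizes _ i (QL_le_stab M hC i hcw)) ⟨v, hv, hvw⟩ hr
  refine subset_closure ⟨v', hv', w, hw, ?_⟩
  rw [← e, commutatorElement_def]

end big

section main

variable {G : Type u} [Group G] [Finite G] {F : Type} [Field F] [Finite F] [CharP F 2] {S : Sylow 2 G}
  {P V D : Subgroup G} {k : ℕ}

/-- The data of an unmixed factor. -/
structure BtsK (M : NatD F S P V D k) (i : Fin k) (N : NatMod F (fac M.toNatV i)) : Prop where
  /-- the coordinates -/
  e : ∀ x, M.e (N.e x) i = x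
  line : N.line ![1, 0] = NV.line M.toNatV i
  bts : BTwo.BTS (fac M.toNatV i) (BTwo.pt N)
  cen : ∀ l, l ≠ i → fac M.toNatV l ≤ BTwo.CenX (fac M.toNatV i) (BTwo.pt N)
  cenD : D ≤ BTwo.CenX (fac M.toNatV i) (BTwo.pt N)

variable {M : NatD F S P V D k} {i : Fin k}

/-- A subgroup centralised by `O₂(N_G(R))` and by `grp M {i}` centralises `X`. -/
theorem le_CenX_of {N : NatMod F (fac M.toNatV i)} (hNe : ∀ x, M.e (N.e x) i = x)
    (hline : N.line ![1, 0] = NV.line M.toNatV i) (hb : BTwo.BT (fac M.toNatV i) (BTwo.pt N)) {A : Subgroup G}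
    (h1 : ∀ y ∈ QL M i, ∀ a ∈ A, y * a = a * y) (h2 : ∀ l ∈ grp M.toNatV {i}, ∀ a ∈ A, l * a = a * l) :
    A ≤ BTwo.CenX (fac M.toNatV i) (BTwo.pt N) := by
  refine BtsOf.le_CenX N FourSide.vec_ne hb ?_ ?_
  · rw [hline]
    intro a ha
    exact mem_centralizer_iff.2 fun y hy => h1 y hy a ha
  · intro B
    obtain ⟨l, hl, hlB⟩ := exists_lift M.toNatV i B
    refine ⟨l, fun x => ?_, fun a ha => h2 l hl a ha⟩
    refine ext_fac M.toNatV (grp_conj_fac hl (N.e_mem x)) (N.e_mem _) ?_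
    rw [hlB _ (N.e_mem x).1, hNe, hNe]

theorem BtsK.le_CenX {N : NatMod F (fac M.toNatV i)} (h : BtsK M i N) {A : Subgroup G}
    (h1 : ∀ y ∈ QL M i, ∀ a ∈ A, y * a = a * y) (h2 : ∀ l ∈ grp M.toNatV {i}, ∀ a ∈ A, l * a = a * l) :
    A ≤ BTwo.CenX (fac M.toNatV i) (BTwo.pt N) := le_CenX_of h.e h.line h.bts.toBT h1 h2

variable (M) (hC : ∀ l, QL M l ≤ (S : Subgroup G))

include hC

/-- **`BTS (fac M i)`** for an unmixed factor such that `N_G(V_i)` normalises `SL₂(F)`, any number of factors -/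
theorem bts_big (hall : ∀ g ∈ normalizer (fac M.toNatV i : Set G), (pre M.toNatV i).Nm g) (hu : UnMx M i) :
    ∃ N : NatMod F (fac M.toNatV i), BtsK M i N := by
  obtain ⟨c, hc, hne⟩ := hu
  have hQT : o2 (normalizer (line M.toNatV i : Set G)) ≤ stab M.toNatV i := QL_le_stab M hC i
  have hVQ : fac M.toNatV i ≤ o2 (normalizer (line M.toNatV i : Set G)) := fac_le_QL_self M hC i
  -- `V_i ^ c ≤ Q`
  have hcQ : NatPair.cj c (fac M.toNatV i) ≤ ZN.o2 (normalizer (line M.toNatV i : Set G)) := by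
    intro x hx
    rw [NatPair.mem_cj] at hx
    have h1 := (mem_normalizer_iff.1 (ZN.le_normalizer_o2 _ hc) _).1 (hVQ hx)
    have e : c * (c⁻¹ * x * c) * c⁻¹ = x := by group
    rwa [e] at h1
  set N : NatMod F (fac M.toNatV i) := (pre M.toNatV i).toNatMod hall with hN
  have hNe : ∀ x, M.e (N.e x) i = x := fun x => pre_e M.toNatV i x
  have hline : N.line ![1, 0] = line M.toNatV i := by
    rw [← pre_line M.toNatV i]
    rfl
  have hmut : NatPair.Mutual (fac M.toNatV i) (NatPair.cj c (fac M.toNatV i)) := by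
    refine ⟨hcQ.trans (hQT.trans (stab_normalizes _ i)), ?_, ?_⟩
    · intro x hx
      rw [NatPair.mem_normalizer_cj]
      apply stab_normalizes _ i
      apply hQT
      have := (mem_normalizer_iff.1 (inv_mem (ZN.le_normalizer_o2 _ hc)) x).1 (hVQ hx)
      rwa [inv_inv] at this
    · obtain ⟨v, hv, w, hw, hvw⟩ := hne
      refine ⟨v, hv, _, ?_, hvw⟩
      rw [NatPair.mem_cj]
      have e : c⁻¹ * (c * w * c⁻¹) * c = w := by group
      rwa [e]
  have hinf : fac M.toNatV i ⊓ NatPair.cj c (fac M.toNatV i) = line M.toNatV i := by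
    obtain ⟨-, w, w', hw, -, hl, -⟩ := NatPair.pair N (N.conj c) hmut
    have h1 : line M.toNatV i ≤ fac M.toNatV i ⊓ NatPair.cj c (fac M.toNatV i) := by
      refine le_inf (line_le _ i) fun x hx => ?_
      rw [NatPair.mem_cj]
      apply line_le _ i
      have := (mem_normalizer_iff.1 (inv_mem hc) x).1 hx
      rwa [inv_inv] at this
    refine (Subgroup.eq_of_le_of_card_ge h1 ?_).symm
    rw [hl, N.card_line hw.ne, card_line]
  have a : BTwo.At (fac M.toNatV i) (N.line ![1, 0]) c := by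
    rw [hline]
    exact ⟨hc, hmut, hinf, hVQ⟩
  have hQ₀ : BTwo.QQ (N.line ![1, 0]) ≤ normalizer (fac M.toNatV i : Set G) := by
    rw [hline]
    exact hQT.trans (stab_normalizes _ i)
  have hnl : NonLoc (normalizer (fac M.toNatV i : Set G)) (normalizer (N.line ![1, 0] : Set G)) := by
    rw [hline]
    intro U hU h1 h2
    exact nonLoc_big M hC hc hne U hU h2 h1
  have b := BtsOf.bts_of_at N M.hG FourSide.vec_ne a hQ₀ hnl
  refine ⟨N, hNe, hline, b, fun l hl => ?_, ?_⟩
  · refine le_CenX_of hNe hline b.toBT (fun y hy a ha => QL_comm M hC hl hy ha) fun x hx a ha => ?_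
    exact grp_comm M.toNatV (Set.disjoint_singleton.2 (Ne.symm hl)) hx ha
  · refine le_CenX_of hNe hline b.toBT (fun y hy a ha => QL_comm_D M hC hy ha) fun x hx a ha => ?_
    exact D_comm M (grp_le _ _ hx) ha

/-- `q = 2` -/
theorem bts_big_two (h2 : Nat.card F = 2) (hu : UnMx M i) : ∃ N : NatMod F (fac M.toNatV i), BtsK M i N :=
  bts_big M hC (nm_two _ h2) hu

end main

end Cfsg.Agent.Omega.IId.NV
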