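import Cfsg.Agent.Omega.IId.ThmCD.Count
import Cfsg.Agent.Omega.ThmC.TwoSyl
import Cfsg.Agent.Omega.IId.SideOf

/-!
# THEOREM C for single elements, all `q` (helper468, bb OMEGA #21415)

`S` a Sylow 2-subgroup, `S ≤ P ≤ N(Q)`, `V m ≤ Ω₁Z(Q)`, `X m ≤ P` irreducible on `V m`, trivial on `V l`, `l ≠ m`, and
`[Ω₁Z(Q), X m] ≤ V m`; `S` permutes the elements `z m ∈ V m` transitively; `O₂(C_G(z o)) ∩ P` centralises `V m`, `m ≠ o`.

* `ElD.le_S` : `O₂(C_G(z o)) ≤ S`.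
-/

set_option autoImplicit false
set_option linter.unusedSectionVars false

namespace Cfsg.Agent.Omega.IId.CEl

open scoped Pointwise
open Subgroup Cfsg Cfsg.Agent.MinSimple.VModule Cfsg.Agent.Omega.ThmC
open Cfsg.Agent.ZN (zc o2)
open Cfsg.Agent.Omega.IId.ThmCD (count le_sylow_of_normalized nor_centralizer nor_inf nor_o2)
open Cfsg.Agent.Omega.IITwo.Count (conj_mem conj_mem' mem_norm)

universe u

variable {G : Type u} [Group G]

/-- The data. -/
structure ElD (S : Sylow 2 G) (P Q : Subgroup G) {ι : Type} (V X : ι → Subgroup G) (z : ι → G) : Prop where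
  SP : (S : Subgroup G) ≤ P
  PQ : P ≤ normalizer (Q : Set G)
  QP : Q ≤ P
  Q2 : IsPGroup 2 Q
  CQ : centralizer (Q : Set G) ≤ Q
  VQ : ∀ m, V m ≤ zc Q
  XP : ∀ m, X m ≤ P
  Xc : ∀ m l, l ≠ m → ∀ x ∈ X m, ∀ v ∈ V l, x * v = v * x
  Xz : ∀ m, ∀ x ∈ X m, ∀ y ∈ zc Q, x * y * x⁻¹ * y⁻¹ ∈ V m
  irr : ∀ m, ∀ U ≤ V m, U ≠ ⊥ → X m ≤ normalizer (U : Set G) → V m ≤ U
  mov : ∀ m, ∃ x ∈ X m, ∃ v ∈ V m, x * v ≠ v * x
  zV : ∀ m, z m ∈ V m
  z1 : ∀ m, z m ≠ 1
  zinj : Function.Injective z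
  zS : ∀ s ∈ (S : Subgroup G), ∀ l, ∃ m, s * z l * s⁻¹ = z m
  ztr : ∀ l m, ∃ s ∈ (S : Subgroup G), s * z l * s⁻¹ = z m
  h0 : ∀ o m, m ≠ o → ∀ w ∈ o2 (centralizer ({z o} : Set G)), w ∈ P → ∀ v ∈ V m, w * v = v * w

/-- conjugation and centralisers -/
theorem nor_cent {U : Subgroup G} {g : G} (hg : g ∈ normalizer (U : Set G)) :
    g ∈ normalizer (centralizer (U : Set G) : Set G) := by
  refine nor_centralizer (fun x hx => (mem_normalizer_iff.1 hg x).1 hx) fun x hx => ?_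
  have := (mem_normalizer_iff.1 (inv_mem hg) x).1 hx
  rwa [inv_inv] at this

theorem comm_iff {a b : G} : a * b = b * a ↔ a * b * a⁻¹ = b := mul_inv_eq_iff_eq_mul.symm

namespace ElD

variable {S : Sylow 2 G} {P Q : Subgroup G} {ι : Type} {V X : ι → Subgroup G} {z : ι → G}

section
variable [Finite G] (d : ElD S P Q V X z)
include d

theorem X_nor (m : ι) : X m ≤ normalizer (V m : Set G) := by
  intro x hx
  refine mem_norm fun v hv => ?_
  have h1 := mul_mem (d.Xz m x hx v (d.VQ m hv)) hv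
  have e : x * v * x⁻¹ * v⁻¹ * v = x * v * x⁻¹ := by group
  rwa [e] at h1

theorem sq {y : G} (hy : y ∈ zc Q) : y * y = 1 := by
  have := zc_sq Q y hy
  rwa [pow_two] at this

/-- `W ∩ C(z m : m) ≤ S` -/
theorem mem_S {o : ι} {w : G} (hw : w ∈ o2 (centralizer ({z o} : Set G))) (h : ∀ m, w * z m = z m * w) :
    w ∈ (S : Subgroup G) := by
  have hN : (S : Subgroup G) ≤ normalizer (centralizer (Set.range z) : Set G) := by
    intro s hs
    refine nor_centralizer ?_ ?_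
    · rintro _ ⟨l, rfl⟩
      obtain ⟨m, hm⟩ := d.zS s hs l
      exact ⟨m, hm.symm⟩
    · rintro _ ⟨l, rfl⟩
      obtain ⟨m, hm⟩ := d.zS s⁻¹ (inv_mem hs) l
      exact ⟨m, by rw [← hm, inv_inv]⟩
  have h1 : centralizer (Set.range z) ≤ centralizer ({z o} : Set G) :=
    centralizer_le (by rintro _ rfl; exact ⟨o, rfl⟩)
  have h2 : o2 (centralizer ({z o} : Set G)) ⊓ centralizer (Set.range z) ≤ o2 (centralizer (Set.range z)) := by
    refine le_o2 inf_le_right ((o2_isPGroup _).to_le inf_le_left) fun g hg => ?_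
    exact nor_inf (le_normalizer_o2 _ (h1 hg)) (le_normalizer hg)
  have h3 : o2 (centralizer (Set.range z)) ≤ S :=
    le_sylow_of_normalized S (o2_isPGroup _) fun s hs => nor_o2 (hN hs)
  refine h3 (h2 ⟨hw, mem_centralizer_iff.2 ?_⟩)
  rintro _ ⟨m, rfl⟩
  exact (h m).symm

/-- `W ∩ P = C_W(z m : m)` -/
theorem mem_P_iff {o : ι} {w : G} (hw : w ∈ o2 (centralizer ({z o} : Set G))) :
    w ∈ P ↔ ∀ m, w * z m = z m * w := by
  constructor
  · intro h m
    by_cases hm : m = o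
    · rw [hm]; exact mem_centralizer_singleton_iff.1 (o2_le _ hw)
    · exact d.h0 o m hm w hw h _ (d.zV m)
  · exact fun h => d.SP (d.mem_S hw h)

/-- **`O₂(C_G(z o)) ≤ S`.** -/
theorem le_S [Finite ι] (o : ι) : o2 (centralizer ({z o} : Set G)) ≤ (S : Subgroup G) := by
  classical
  have hfact : Fact (Nat.Prime 2) := ⟨Nat.prime_two⟩
  by_contra hWS
  set W := o2 (centralizer ({z o} : Set G)) with hW
  have hW2 : IsPGroup 2 W := o2_isPGroup _
  have hCW : centralizer ({z o} : Set G) ≤ normalizer (W : Set G) := le_normalizer_o2 _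
  set K₀ := W ⊓ P with hK₀
  have hK₀z : ∀ w ∈ K₀, ∀ m, w * z m = z m * w := fun w hw => (d.mem_P_iff hw.1).1 hw.2
  have hzK₀ : ∀ w ∈ W, (∀ m, w * z m = z m * w) → w ∈ K₀ := fun w hw h => ⟨hw, (d.mem_P_iff hw).2 h⟩
  have hK₀V : ∀ m, m ≠ o → ∀ w ∈ K₀, ∀ v ∈ V m, w * v = v * w := fun m hm w hw => d.h0 o m hm w hw.1 hw.2
  have hWP : ¬ W ≤ P := fun h => hWS fun w hw => d.mem_S hw ((d.mem_P_iff hw).1 (h hw))
  -- `Q`
  have hQC : Q ≤ centralizer ({z o} : Set G) := fun g hg =>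
    mem_centralizer_singleton_iff.2 ((mem_zc.1 (d.VQ o (d.zV o))).2.1 g hg)
  have hXC : ∀ m, m ≠ o → X m ≤ centralizer ({z o} : Set G) := fun m hm x hx =>
    mem_centralizer_singleton_iff.2 (d.Xc m o (Ne.symm hm) x hx _ (d.zV o))
  set K := K₀ ⊔ Q with hK
  have hKP : K ≤ P := sup_le inf_le_right d.QP
  obtain ⟨u, huW, huK₀, huK⟩ : ∃ u ∈ W, u ∉ K₀ ∧ u ∈ normalizer (K : Set G) := by
    have hQn : Q ≤ normalizer (W : Set G) := hQC.trans hCW
    have hA : IsPGroup 2 ↥(Q ⊔ W) := d.Q2.to_sup_of_normal_right' hW2 hQn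
    obtain ⟨n, hn, hn1, hn2⟩ := exists_normalizer hA (B := K) (sup_le (inf_le_left.trans le_sup_right) le_sup_left)
      fun hle => hWP ((le_sup_right.trans hle).trans hKP)
    have h1 : n ∈ (Q : Set G) * (W : Set G) := by
      rw [← coe_mul_of_left_le_normalizer_right Q W hQn]
      exact hn
    obtain ⟨q, hq, w, hw, rfl⟩ := h1
    have hq1 : q ∈ K := le_sup_right (a := K₀) hq
    have hw2 : w ∈ normalizer (K : Set G) := by
      have := mul_mem (inv_mem (le_normalizer hq1)) hn2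
      simpa using this
    exact ⟨w, hw, fun h => hn1 (mul_mem hq1 (le_sup_left (b := Q) h)), hw2⟩
  set W' := W ⊓ normalizer (K : Set G) with hW'
  -- `ZK`
  set ZK := zc Q ⊓ centralizer (K₀ : Set G) with hZK
  have hZKc : ∀ y ∈ ZK, ∀ w ∈ K₀, w * y = y * w := fun y hy => mem_centralizer_iff.1 hy.2
  have hVZ : ∀ m, m ≠ o → V m ≤ ZK := fun m hm v hv =>
    ⟨d.VQ m hv, mem_centralizer_iff.2 fun w hw => hK₀V m hm w hw v hv⟩
  have hzZ : ∀ m, z m ∈ ZK := fun m => ⟨d.VQ m (d.zV m), mem_centralizer_iff.2 fun w hw => hK₀z w hw m⟩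
  have hW'Z : W' ≤ normalizer (ZK : Set G) := by
    intro w hw
    refine mem_norm fun y hy => ?_
    have hcK : ∀ g ∈ K, g * y = y * g := by
      have : K ≤ centralizer ({y} : Set G) := sup_le
        (fun g hg => mem_centralizer_singleton_iff.2 (hZKc y hy g hg))
        (fun g hg => mem_centralizer_singleton_iff.2 ((mem_zc.1 hy.1).2.1 g hg))
      exact fun g hg => mem_centralizer_singleton_iff.1 (this hg)
    have hcK' : ∀ g ∈ K, g * (w * y * w⁻¹) = w * y * w⁻¹ * g := by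
      intro g hg
      have h1 := hcK (w⁻¹ * g * w) (by
        have := (mem_normalizer_iff.1 (inv_mem hw.2) g).1 hg
        rwa [inv_inv] at this)
      calc g * (w * y * w⁻¹) = w * (w⁻¹ * g * w * y) * w⁻¹ := by group
        _ = w * (y * (w⁻¹ * g * w)) * w⁻¹ := by rw [h1]
        _ = w * y * w⁻¹ * g := by group
    refine ⟨mem_zc.2 ⟨d.CQ (mem_centralizer_iff.2 fun g hg => hcK' g (le_sup_right (a := K₀) hg)),
      fun g hg => hcK' g (le_sup_right (a := K₀) hg), ?_⟩,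
      mem_centralizer_iff.2 fun g hg => hcK' g (le_sup_left (b := Q) hg)⟩
    have h2 := d.sq hy.1
    calc (w * y * w⁻¹) ^ 2 = w * (y * y) * w⁻¹ := by rw [pow_two]; group
      _ = 1 := by rw [h2]; group
  have hfaith : ∀ w ∈ W', (∀ y ∈ ZK, w * y = y * w) → w ∈ K₀ := fun w hw h => hzK₀ w hw.1 fun m => h _ (hzZ m)
  -- `X m`
  have hXK₀ : ∀ m, m ≠ o → X m ≤ normalizer (K₀ : Set G) := fun m hm x hx =>
    nor_inf (hCW (hXC m hm hx)) (le_normalizer (d.XP m hx))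
  have hXQ : ∀ m, X m ≤ normalizer (Q : Set G) := fun m => (d.XP m).trans d.PQ
  have hXZ : ∀ m, m ≠ o → X m ≤ normalizer (ZK : Set G) := fun m hm x hx =>
    nor_inf (normalizer_le_normalizer_zc Q (hXQ m hx)) (nor_cent (hXK₀ m hm hx))
  have hXK : ∀ m, m ≠ o → X m ≤ normalizer (K : Set G) := by
    intro m hm x hx
    refine mem_norm fun y hy => ?_
    have h1 : K.map (MulAut.conj x).toMonoidHom ≤ K := by
      rw [hK, Subgroup.map_sup]
      refine sup_le_sup ?_ ?_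
      · rintro _ ⟨w, hw, rfl⟩
        exact conj_mem (hXK₀ m hm hx) hw
      · rintro _ ⟨w, hw, rfl⟩
        exact conj_mem (hXQ m hx) hw
    exact h1 ⟨y, hy, rfl⟩
  have hXW' : ∀ m, m ≠ o → X m ≤ normalizer (W' : Set G) := fun m hm x hx =>
    nor_inf (hCW (hXC m hm hx)) (le_normalizer (hXK m hm hx))
  -- the minimal `B`
  obtain ⟨B, ⟨hB₀, hBW, hBn, hXB⟩, hmin⟩ := wellFounded_lt.has_min
    {B : Subgroup G | K₀ ≤ B ∧ B ≤ W' ∧ ¬ B ≤ K₀ ∧ ∀ m, m ≠ o → X m ≤ normalizer (B : Set G)}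
    ⟨W', le_inf inf_le_left (le_sup_left.trans le_normalizer), le_rfl, fun h => huK₀ (h ⟨huW, huK⟩), hXW'⟩
  have hmin' : ∀ B' ≤ B, K₀ ≤ B' → (∀ m, m ≠ o → X m ≤ normalizer (B' : Set G)) → B' ≤ K₀ ∨ B ≤ B' := by
    intro B' h1 h2 h3
    by_contra hcon
    push Not at hcon
    exact hmin B' ⟨h2, h1.trans hBW, hcon.1, h3⟩ (lt_of_le_of_ne h1 fun h => hcon.2 h.ge)
  have hB2 : IsPGroup 2 B := hW2.to_le (hBW.trans inf_le_left)
  have hBZ : B ≤ normalizer (ZK : Set G) := hBW.trans hW'Z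
  -- `C₁`, `C₂`
  set C₁ := ZK ⊓ centralizer (B : Set G) with hC₁
  have hXC₁ : ∀ m, m ≠ o → X m ≤ normalizer (C₁ : Set G) := fun m hm x hx =>
    nor_inf (hXZ m hm hx) (nor_cent (hXB m hm hx))
  have hZcomm : ∀ x ∈ ZK, ∀ y ∈ ZK, x * y = y * x := fun x hx y hy => zc_comm Q x hx.1 y hy.1
  let C₂ : Subgroup G :=
    { carrier := {y | y ∈ ZK ∧ ∀ b ∈ B, b * y * b⁻¹ * y⁻¹ ∈ C₁}
      one_mem' := ⟨one_mem _, fun b _ => by
        have e : b * 1 * b⁻¹ * 1⁻¹ = 1 := by group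
        rw [e]; exact one_mem _⟩
      mul_mem' := by
        rintro y y' ⟨hy, hy1⟩ ⟨hy', hy1'⟩
        refine ⟨mul_mem hy hy', fun b hb => ?_⟩
        have h1 := hZcomm y hy _ (hy1' b hb).1
        have e : b * (y * y') * b⁻¹ * (y * y')⁻¹ = (b * y * b⁻¹ * y⁻¹) * (y * (b * y' * b⁻¹ * y'⁻¹) * y⁻¹) := by group
        rw [e, h1, mul_inv_cancel_right]
        exact mul_mem (hy1 b hb) (hy1' b hb)
      inv_mem' := by
        rintro y ⟨hy, hy1⟩
        have h1 : y⁻¹ = y := inv_eq_of_mul_eq_one_left (d.sq hy.1)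
        rw [h1]
        exact ⟨hy, hy1⟩ }
  have hC₂Z : C₂ ≤ ZK := fun y hy => hy.1
  have hC₁₂ : C₁ ≤ C₂ := by
    intro y hy
    refine ⟨hy.1, fun b hb => ?_⟩
    have h1 : b * y = y * b := mem_centralizer_iff.1 hy.2 b hb
    have e : b * y * b⁻¹ * y⁻¹ = 1 := by rw [h1]; group
    rw [e]; exact one_mem _
  have hXC₂ : ∀ m, m ≠ o → X m ≤ normalizer (C₂ : Set G) := by
    intro m hm x hx
    refine mem_norm ?_
    rintro y ⟨hy, hy1⟩
    refine ⟨conj_mem (hXZ m hm hx) hy, fun b hb => ?_⟩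
    have h1 := conj_mem (hXC₁ m hm hx) (hy1 _ (conj_mem' (hXB m hm hx) hb))
    have e : x * (x⁻¹ * b * x * y * (x⁻¹ * b * x)⁻¹ * y⁻¹) * x⁻¹ = b * (x * y * x⁻¹) * b⁻¹ * (x * y * x⁻¹)⁻¹ := by
      group
    rwa [e] at h1
  obtain ⟨y₀, hy₀, hy₀1, hy₀2⟩ := SideOf.exists_fixed_mod (A := C₁) (B := ZK) (T := B)
    (fun h => hBn fun b hb => hfaith b (hBW hb) fun y hy => mem_centralizer_iff.1 (h hy).2 b hb)
    (fun y hy => mem_norm fun c hc => by
      rw [hZcomm y hy c hc.1, mul_inv_cancel_right]; exact hc)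
    (SideOf.isPGroup_of_sq fun y hy => d.sq hy.1) hB2
    (fun b hb => nor_inf (hBZ hb) (nor_cent (le_normalizer hb))) hBZ
  have hy₀C : y₀ ∈ C₂ := ⟨hy₀, hy₀2⟩
  have hVne : ∀ m, V m ≠ ⊥ := fun m h => d.z1 m (by have := d.zV m; rwa [h, mem_bot] at this)
  -- the scalar lemma
  have hScal : ∀ m, m ≠ o → (∀ x ∈ X m, ∀ b ∈ B, b⁻¹ * (x * b * x⁻¹) ∈ K₀) → V m ≤ C₁ := by
    intro m hm h
    have h' : ∀ x ∈ X m, ∀ b ∈ B, ∃ w ∈ K₀, b * x * b⁻¹ = w * x := by
      intro x hx b hb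
      refine ⟨_, h x hx b⁻¹ (inv_mem hb), by group⟩
    let U : Subgroup G :=
      { carrier := {v | v ∈ V m ∧ ∀ b ∈ B, b * v * b⁻¹ ∈ V m}
        one_mem' := ⟨one_mem _, fun b _ => by
          have e : b * 1 * b⁻¹ = 1 := by group
          rw [e]; exact one_mem _⟩
        mul_mem' := by
          rintro y y' ⟨hy, hy1⟩ ⟨hy', hy1'⟩
          refine ⟨mul_mem hy hy', fun b hb => ?_⟩
          have e : b * (y * y') * b⁻¹ = (b * y * b⁻¹) * (b * y' * b⁻¹) := by group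
          rw [e]
          exact mul_mem (hy1 b hb) (hy1' b hb)
        inv_mem' := by
          rintro y ⟨hy, hy1⟩
          have h1 : y⁻¹ = y := inv_eq_of_mul_eq_one_left (d.sq (d.VQ m hy))
          rw [h1]
          exact ⟨hy, hy1⟩ }
    have hUV : U ≤ V m := fun v hv => hv.1
    have hXU : X m ≤ normalizer (U : Set G) := by
      intro x hx
      refine mem_norm ?_
      rintro v ⟨hv, hv1⟩
      refine ⟨conj_mem (d.X_nor m hx) hv, fun b hb => ?_⟩
      obtain ⟨w, hw, e⟩ := h' x hx b hb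
      have h1 : x * (b * v * b⁻¹) * x⁻¹ ∈ V m := conj_mem (d.X_nor m hx) (hv1 b hb)
      have h2 := hK₀V m hm w hw _ h1
      have e2 : b * (x * v * x⁻¹) * b⁻¹ = (b * x * b⁻¹) * (b * v * b⁻¹) * (b * x * b⁻¹)⁻¹ := by group
      have e3 : w * x * (b * v * b⁻¹) * (w * x)⁻¹ = w * (x * (b * v * b⁻¹) * x⁻¹) * w⁻¹ := by group
      rw [e2, e, e3, h2, mul_inv_cancel_right]
      exact h1
    have hU1 : U ≠ ⊥ := by
      obtain ⟨x, hx, v, hv, hxv⟩ := d.mov m
      have h1 : x * v * x⁻¹ * v⁻¹ ∈ U := by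
        refine ⟨d.Xz m x hx v (d.VQ m hv), fun b hb => ?_⟩
        obtain ⟨w, hw, e⟩ := h' x hx b hb
        have hy : b * v * b⁻¹ ∈ ZK := conj_mem (hBZ hb) (hVZ m hm hv)
        have h1 := hZKc _ (conj_mem (hXZ m hm hx) hy) w hw
        have e2 : b * (x * v * x⁻¹ * v⁻¹) * b⁻¹ = (b * x * b⁻¹) * (b * v * b⁻¹) * (b * x * b⁻¹)⁻¹ * (b * v * b⁻¹)⁻¹ := by
          group
        have e3 : w * x * (b * v * b⁻¹) * (w * x)⁻¹ = w * (x * (b * v * b⁻¹) * x⁻¹) * w⁻¹ := by group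
        rw [e2, e, e3, h1, mul_inv_cancel_right]
        exact d.Xz m x hx _ hy.1
      intro h0
      rw [h0, mem_bot] at h1
      apply hxv
      calc x * v = (x * v * x⁻¹ * v⁻¹) * (v * x) := by group
        _ = v * x := by rw [h1, one_mul]
    have hVU := d.irr m U hUV hU1 hXU
    have hBV : B ≤ normalizer (V m : Set G) := fun b hb => mem_norm fun v hv => (hVU hv).2 b hb
    obtain ⟨v, hv, hv1, hv2⟩ := Half.exists_fixed (V := V m) (T := B)
      (SideOf.isPGroup_of_sq fun y hy => d.sq (d.VQ m hy)) (hVne m) hB2 hBV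
    have h1 : v ∈ V m ⊓ C₁ := ⟨hv, hVZ m hm hv, mem_centralizer_iff.2 fun b hb => comm_iff.2 (hv2 b hb)⟩
    have h2 := d.irr m (V m ⊓ C₁) inf_le_left (fun h0 => hv1 (by rwa [h0, mem_bot] at h1))
      (fun x hx => nor_inf (d.X_nor m hx) (hXC₁ m hm hx))
    exact h2.trans inf_le_right
  -- `X m` centralises `C₁` if `V m` is not in `C₁`
  have hcen : ∀ m, m ≠ o → ∀ C : Subgroup G, C ≤ ZK → X m ≤ normalizer (C : Set G) → ¬ V m ≤ C →
      ∀ x ∈ X m, ∀ c ∈ C, x * c = c * x := by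
    intro m hm C hCZ hXC' hV x hx c hc
    have h0 : V m ⊓ C = ⊥ := by
      by_contra hne
      exact hV ((d.irr m _ inf_le_left hne fun x hx => nor_inf (d.X_nor m hx) (hXC' hx)).trans inf_le_right)
    have h1 : x * c * x⁻¹ * c⁻¹ ∈ V m ⊓ C :=
      mem_inf.2 ⟨d.Xz m x hx c (hCZ hc).1, mul_mem (conj_mem (hXC' hx) hc) (C.inv_mem hc)⟩
    rw [h0, mem_bot] at h1
    calc x * c = (x * c * x⁻¹ * c⁻¹) * (c * x) := by group
      _ = c * x := by rw [h1, one_mul]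
  have hcomm : ∀ x, (∀ c ∈ C₁, x * c = c * x) → ∀ y ∈ C₂, x * y = y * x → ∀ b ∈ B,
      b⁻¹ * (x * b * x⁻¹) * y = y * (b⁻¹ * (x * b * x⁻¹)) := by
    intro x hx y hy hxy b hb
    have h1 := hx _ (hy.2 b hb)
    have h2 : x * (b * y * b⁻¹) = b * y * b⁻¹ * x := by
      calc x * (b * y * b⁻¹) = x * (b * y * b⁻¹ * y⁻¹) * y := by group
        _ = (b * y * b⁻¹ * y⁻¹) * (x * y) := by rw [h1]; group
        _ = b * y * b⁻¹ * x := by rw [hxy]; group
    have h3 : x⁻¹ * y = y * x⁻¹ := by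
      calc x⁻¹ * y = x⁻¹ * (y * x) * x⁻¹ := by group
        _ = y * x⁻¹ := by rw [← hxy]; group
    calc b⁻¹ * (x * b * x⁻¹) * y = b⁻¹ * x * b * (x⁻¹ * y) := by group
      _ = b⁻¹ * (x * (b * y * b⁻¹)) * b * x⁻¹ := by rw [h3]; group
      _ = y * (b⁻¹ * (x * b * x⁻¹)) := by rw [h2]; group
  have hxb : ∀ m, m ≠ o → ∀ x ∈ X m, ∀ b ∈ B, b⁻¹ * (x * b * x⁻¹) ∈ B := fun m hm x hx b hb =>
    mul_mem (inv_mem hb) (conj_mem (hXB m hm hx) hb)
  -- some `V m` is not in `C₁`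
  obtain ⟨m, hm, hVm⟩ : ∃ m, m ≠ o ∧ ¬ V m ≤ C₁ := by
    by_contra hcon
    push Not at hcon
    refine hBn fun b hb => hzK₀ b (hBW hb).1 fun m => ?_
    by_cases hm : m = o
    · rw [hm]; exact mem_centralizer_singleton_iff.1 (o2_le _ (hBW hb).1)
    · exact mem_centralizer_iff.1 (hcon m hm (d.zV m)).2 b hb
  have hVm₂ : V m ≤ C₂ := by
    by_contra hV
    have h1 := hcen m hm C₂ hC₂Z (hXC₂ m hm) hV
    rcases hmin' (B ⊓ centralizer (C₂ : Set G)) inf_le_left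
      (le_inf hB₀ fun w hw => mem_centralizer_iff.2 fun y hy => (hZKc y (hC₂Z hy) w hw).symm)
      (fun l hl x hx => nor_inf (hXB l hl hx) (nor_cent (hXC₂ l hl hx))) with h2 | h2
    · refine hVm (hScal m hm fun x hx b hb => h2 ⟨hxb m hm x hx b hb, mem_centralizer_iff.2 fun y hy => ?_⟩)
      exact (hcomm x (fun c hc => h1 x hx c (hC₁₂ hc)) y hy (h1 x hx y hy) b hb).symm
    · exact hy₀1 ⟨hy₀, mem_centralizer_iff.2 fun b hb => (mem_centralizer_iff.1 (h2 hb).2 y₀ hy₀C).symm⟩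
  have hall : ∀ n, n ≠ o → n ≠ m → V n ≤ C₁ := by
    intro n hn hnm
    by_contra hV
    have h1 := hcen n hn C₁ inf_le_left (hXC₁ n hn) hV
    rcases hmin' (B ⊓ centralizer (V m : Set G)) inf_le_left
      (le_inf hB₀ fun w hw => mem_centralizer_iff.2 fun y hy => (hK₀V m hm w hw y hy).symm)
      (fun l hl x hx => nor_inf (hXB l hl hx) (nor_cent (by
        by_cases hlm : l = m
        · rw [← hlm]; exact d.X_nor l hx
        · exact mem_norm fun v hv => by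
            rw [d.Xc l m (Ne.symm hlm) x hx v hv, mul_inv_cancel_right]; exact hv))) with h2 | h2
    · refine hV (hScal n hn fun x hx b hb => h2 ⟨hxb n hn x hx b hb, mem_centralizer_iff.2 fun y hy => ?_⟩)
      exact (hcomm x (fun c hc => h1 x hx c hc) y (hVm₂ hy) (d.Xc n m (Ne.symm hnm) x hx y hy) b hb).symm
    · exact hVm fun v hv => ⟨hVZ m hm hv, mem_centralizer_iff.2 fun b hb =>
        (mem_centralizer_iff.1 (h2 hb).2 v hv).symm⟩
  -- the count
  have hBz : ∀ l, l ≠ m → ∀ b ∈ B, b * z l = z l * b := by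
    intro l hl b hb
    by_cases hlo : l = o
    · rw [hlo]; exact mem_centralizer_singleton_iff.1 (o2_le _ (hBW hb).1)
    · exact mem_centralizer_iff.1 (hall l hlo hl (d.zV l)).2 b hb
  have hBK : centralizer ({z m} : Set G) ⊓ B = K₀ := by
    ext b
    constructor
    · rintro ⟨h1, h2⟩
      refine hzK₀ b (hBW h2).1 fun l => ?_
      by_cases hl : l = m
      · rw [hl]; exact mem_centralizer_singleton_iff.1 h1
      · exact hBz l hl b h2
    · exact fun h => ⟨mem_centralizer_singleton_iff.2 (hK₀z b h m), hB₀ h⟩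
  have hr : (centralizer ({z m} : Set G)).relIndex B = K₀.relIndex B := by
    rw [← hBK, inf_relIndex_right]
  have h4 : 4 ≤ K₀.relIndex B := by
    obtain ⟨n, hn⟩ := IsPGroup.iff_card.1 hB2
    have h1 : K₀.relIndex B ∣ 2 ^ n := by
      rw [← hn]
      exact (K₀.subgroupOf B).index_dvd_card
    obtain ⟨j, -, hj⟩ := (Nat.dvd_prime_pow Nat.prime_two).1 h1
    rw [hj]
    have h2 : j ≠ 0 := by
      rintro rfl
      rw [pow_zero, relIndex_eq_one] at hj
      exact hBn hj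
    have h3 : j ≠ 1 := by
      rintro rfl
      rw [pow_one] at hj
      refine hVm (hScal m hm fun x hx b hb => ?_)
      have h5 : (K₀.subgroupOf B).index = 2 := hj
      have h6 := Subgroup.mul_mem_iff_of_index_two h5 (a := ⟨b⁻¹, inv_mem hb⟩) (b := ⟨x * b * x⁻¹, conj_mem (hXB m hm hx) hb⟩)
      have h7 : b⁻¹ * (x * b * x⁻¹) ∈ K₀ ↔ (b⁻¹ ∈ K₀ ↔ x * b * x⁻¹ ∈ K₀) := h6
      rw [h7, K₀.inv_mem_iff]
      exact mem_normalizer_iff.1 (hXK₀ m hm hx) b
    calc 4 = 2 ^ 2 := rfl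
      _ ≤ 2 ^ j := Nat.pow_le_pow_right (by norm_num) (by omega)
  refine count S z d.zinj d.zS d.ztr o B {m} (by simpa using Ne.symm hm) (Or.inl (Finset.card_singleton m))
    (hBW.trans inf_le_left) (fun l hl b hb => ?_) (fun j hj => ?_)
  · exact mem_centralizer_singleton_iff.2 (hBz l (by simpa using hl) b hb)
  · rw [Finset.mem_singleton] at hj
    rw [hj, Finset.card_singleton, pow_one, hr]
    exact h4

end

end ElD

end Cfsg.Agent.Omega.IId.CEl
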