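import Cfsg.Agent.Omega.IId.Cv.MixPlug
import Cfsg.Agent.Omega.IId.Cv.MixQ
import Cfsg.Agent.Omega.IId.SideOf
import Cfsg.Agent.Omega.MixOne.OrbitS
import Cfsg.Agent.Omega.BTwo.Conj

/-!
# CvBig (iv): mixed pairs, all `q`, `k`, `k'`, `D`, `D'` (helper932 MIX-K, bb OMEGA #20486)

* `ThC M i` : THEOREM C at the factor `V_i` (the output which is used);
* `mixedQ_of'` : `MixedQ` from `LineD`;
* `mixK_false` : `LineD M M' i i'`, `V_i`, `V'_{i'}` mixed, `k ≥ 2`, a Sylow 2-subgroup of `N_G(R)` normalises `V_i`: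
  contradiction;  `mixK_one_false` : the same for `N_S(V_i)` a Sylow 2-subgroup of `N_G(R)` (CASE 1).
-/

set_option autoImplicit false
set_option linter.unusedSectionVars false

namespace Cfsg.Agent.Omega.IId.NV

open Subgroup Cfsg Cfsg.Agent.Lib.SL2Mat Cfsg.Agent.MinSimple
open Cfsg.Agent.ZN (o2 zc zl)
open Cfsg.Agent.Omega.MinPar Cfsg.Agent.Omega.FFThm
open Cfsg.Agent.Omega.BTwo (cj mem_cj cj_mono cj_eq_self_iff conj_mem_cj QQ card_cj mem_normalizer_of_conj)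
open Cfsg.Agent.Omega.Mix
open Cfsg.Agent.Omega.MixOne (SideW)
open Cfsg.Agent.Omega.IId.M4 (toRMod toRMod_line nmG exists_cj_eq LL_comm mem_nmG)
open Cfsg.Agent.Omega.IId.FourSide (vec_ne)
open Cfsg.Agent.Omega.IId.Cv (LineD UnM)
open Cfsg.Agent.Omega.IId.MQ (MixedQ)

universe u

variable {G : Type u} [Group G] [Finite G] {F F' : Type} [Field F] [Finite F] [CharP F 2] [Field F'] [Finite F']
  [CharP F' 2] {S S' : Sylow 2 G} {P V D P' V' D' : Subgroup G} {k k' : ℕ}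

/-- THEOREM C at `V_i`, `R = line M i`: `O₂(N_G(R))` acts linearly on `V_i` and centralises `V_l`, `l ≠ i`;
`V_i ≤ Z(O₂(C_G(z)))` for `1 ≠ z ∈ V_l`, `l ≠ i`. -/
structure ThC (M : NatD F S P V D k) (i : Fin k) : Prop where
  nm : o2 (normalizer (line M.toNatV i : Set G)) ≤ nmG (pre M.toNatV i)
  comm : ∀ l, l ≠ i → ∀ v ∈ fac M.toNatV l, ∀ g ∈ o2 (normalizer (line M.toNatV i : Set G)), g * v = v * g
  le : ∀ l, l ≠ i → ∀ z ∈ fac M.toNatV l, z ≠ 1 → fac M.toNatV i ≤ o2 (centralizer ({z} : Set G))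
  cent : ∀ l, l ≠ i → ∀ z ∈ fac M.toNatV l, z ≠ 1 → ∀ g ∈ o2 (centralizer ({z} : Set G)),
    ∀ v ∈ fac M.toNatV i, g * v = v * g

/-- `MixedQ` from `LineD`, `O₂(N_G(R)) ≤ nmG` on both sides -/
theorem mixedQ_of' {M : NatD F S P V D k} {M' : NatD F' S' P' V' D' k'} {i : Fin k} {i' : Fin k'}
    (L : LineD M M' i i') (hu : ¬ UnM M i) (hu' : ¬ UnM M' i')
    (hQ : o2 (normalizer (line M.toNatV i : Set G)) ≤ nmG (pre M.toNatV i))
    (hQ' : o2 (normalizer (line M.toNatV i : Set G)) ≤ nmG (pre M'.toNatV i')) :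
    MixedQ (toRMod (pre M.toNatV i)) (toRMod (pre M'.toNatV i')) (line M.toNatV i) where
  line₁ := ⟨![1, 0], vec_ne, by rw [toRMod_line, pre_line]⟩
  line₂ := ⟨![1, 0], vec_ne, by rw [toRMod_line, pre_line]; exact L.eq'⟩
  QN₁ := hQ
  QN₂ := hQ'
  char := fun K hK hK1 => char2_normalizer M.hG hK hK1
  comm₁ := LL_comm (comm_of_not_unM hu)
  comm₂ := by
    rw [L.eq']
    exact LL_comm (comm_of_not_unM hu')
  ne := by
    obtain ⟨v, hv, w, hw, hvw⟩ := L.ne
    exact ⟨v, V_le_LL _ _ hv, w, V_le_LL _ _ hw, hvw⟩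

/-- Mixed pairs are impossible. `T` : a Sylow 2-subgroup of `N_G(R)` which normalises `V_i`; `V_l`, `l ≠ i`. -/
theorem mixK_aux {M : NatD F S P V D k} {M' : NatD F' S' P' V' D' k'} {i : Fin k} {i' : Fin k'}
    (L : LineD M M' i i') (hu : ¬ UnM M i) (hu' : ¬ UnM M' i')
    (hQ : o2 (normalizer (line M.toNatV i : Set G)) ≤ nmG (pre M.toNatV i))
    (hQ' : o2 (normalizer (line M.toNatV i : Set G)) ≤ nmG (pre M'.toNatV i'))
    {l : Fin k}
    (hlQ : ∀ v ∈ fac M.toNatV l, ∀ g ∈ o2 (normalizer (line M.toNatV i : Set G)), g * v = v * g)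
    (hle : ∀ z ∈ fac M.toNatV l, z ≠ 1 → fac M.toNatV i ≤ o2 (centralizer ({z} : Set G)))
    (hce : ∀ z ∈ fac M.toNatV l, z ≠ 1 → ∀ g ∈ o2 (centralizer ({z} : Set G)), ∀ v ∈ fac M.toNatV i, g * v = v * g)
    {T : Subgroup G} (hT2 : IsPGroup 2 T) (hTV : T ≤ normalizer (fac M.toNatV i : Set G))
    (hTR : T ≤ normalizer (line M.toNatV i : Set G))
    (hTs : ¬ 2 ∣ T.relIndex (normalizer (line M.toNatV i : Set G))) : False := by
  have m := mixedQ_of' L hu hu' hQ hQ'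
  set R := line M.toNatV i with hR
  have hR1 : R = (toRMod (pre M.toNatV i)).line ![1, 0] := by rw [toRMod_line, pre_line]
  have hR2 : R = (toRMod (pre M'.toNatV i')).line ![1, 0] := by rw [toRMod_line, pre_line]; exact L.eq'
  have s := m.symm.sideW
  -- the pair `V_i, V'_{i'}`
  have hm : RMutual (fac M.toNatV i) (fac M'.toNatV i') (nmG (pre M.toNatV i)) (nmG (pre M'.toNatV i')) :=
    ⟨L.le'.trans hQ, L.le.trans hQ', L.ne⟩
  obtain ⟨-, w, w', hq, hq', e1, e2⟩ := pair (toRMod (pre M.toNatV i)) (toRMod (pre M'.toNatV i')) hm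
  have hRV : R ≤ fac M.toNatV i := line_le M.toNatV i
  have hRV' : R ≤ fac M'.toNatV i' := by
    rw [show R = _ from L.eq']
    exact line_le M'.toNatV i'
  have hinf : fac M.toNatV i ⊓ fac M'.toNatV i' = R := by
    symm
    refine Subgroup.eq_of_le_of_card_ge (le_inf hRV hRV') ?_
    rw [e1, RMod.card_line _ hq.ne, hR1, RMod.card_line _ vec_ne]
  have hc1 : Nat.card R < Nat.card (fac M.toNatV i) := by
    rw [hR, card_line, card_fac, pow_two]
    have h1 : 1 < Nat.card F := Finite.one_lt_card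
    nlinarith
  obtain ⟨b, hb, hbR, hbT⟩ := SideOf.exists_fixed_mod (A := R) (B := fac M.toNatV i) (T := T)
    (fun h => absurd (Subgroup.card_le_of_le h) (not_le.2 hc1))
    (fun v hv => mem_normalizer_of_conj fun r hr => by
      have h1 : v * r = r * v := (toRMod (pre M.toNatV i)).comm hv (hRV hr)
      rw [h1, mul_inv_cancel_right]; exact hr)
    (SideOf.isPGroup_of_sq fun x hx => (toRMod (pre M.toNatV i)).sq hx) hT2 hTR hTV
  have hbV : ¬ ∀ v ∈ fac M'.toNatV i', b * v = v * b := by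
    intro h
    apply hbR
    rw [← hinf, e1, ← hq.cent]
    exact ⟨mem_centralizer_iff.2 fun v hv => (h v hv).symm, hb⟩
  let i₀ : Pt (toRMod (pre M'.toNatV i')) := ⟨R, ![1, 0], vec_ne, hR2⟩
  refine s.false_of (o := i₀) hT2 hTs (b := b) (V_le_LL _ _ hb) hbV (fun t ht => ?_) (A := fac M.toNatV l) ?_ ?_ ?_
    (v := b) hbV fun z hz hz1 => ⟨hRV.trans (hle z hz hz1), fun x hx => (hce z hz hz1 x hx b hb).symm⟩
  · have e : b * t * b⁻¹ * t⁻¹ = (t * b * t⁻¹ * b⁻¹)⁻¹ := by group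
    rw [e]
    exact inv_mem (hbT t ht)
  · intro v hv
    rw [mem_YY]
    exact ⟨fun g hg => (hlQ v hv g (m.C_le_QQ hg)).symm, fun g hg => (hlQ v hv g (m.symm.C_le_QQ hg)).symm⟩
  · change Nat.card R < _
    rw [hR, card_line, card_fac, pow_two]
    have h1 : 1 < Nat.card F := Finite.one_lt_card
    nlinarith
  · intro v hv
    obtain ⟨x, rfl⟩ := ((toRMod (pre M'.toNatV i')).mem_iff v).1 hv
    by_cases hx : x = 0
    · subst hx
      have h1 : (toRMod (pre M'.toNatV i')).e 0 = 1 := (toRMod (pre M'.toNatV i')).e_zero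
      rw [h1]
      exact one_mem _
    · exact mem_iSup_of_mem (⟨(toRMod (pre M'.toNatV i')).line x, x, hx, rfl⟩ : Pt (toRMod (pre M'.toNatV i')))
        ((toRMod (pre M'.toNatV i')).e_mem_line.2 ⟨1, (one_smul _ _).symm⟩)

/-- **Mixed pairs are impossible** as soon as a Sylow 2-subgroup `T` of `N_G(R)` normalises `V_i`, `k ≥ 2`. -/
theorem mixK_false {M : NatD F S P V D k} {M' : NatD F' S' P' V' D' k'} {i : Fin k} {i' : Fin k'}
    (L : LineD M M' i i') (hu : ¬ UnM M i) (hu' : ¬ UnM M' i') (hC : ThC M i)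
    (hC' : o2 (normalizer (line M'.toNatV i' : Set G)) ≤ nmG (pre M'.toNatV i')) (hk : 2 ≤ k)
    {T : Subgroup G} (hT2 : IsPGroup 2 T) (hTV : T ≤ normalizer (fac M.toNatV i : Set G))
    (hTR : T ≤ normalizer (line M.toNatV i : Set G))
    (hTs : ¬ 2 ∣ T.relIndex (normalizer (line M.toNatV i : Set G))) : False := by
  obtain ⟨l, hl⟩ : ∃ l : Fin k, l ≠ i := by
    have : Nontrivial (Fin k) := Fin.nontrivial_iff_two_le.2 hk
    exact exists_ne i
  refine mixK_aux L hu hu' hC.nm ?_ (hC.comm l hl) (hC.le l hl) (hC.cent l hl) hT2 hTV hTR hTs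
  rw [L.eq']
  exact hC'

/-- CASE 1. -/
theorem mixK_one_false {M : NatD F S P V D k} {M' : NatD F' S' P' V' D' k'} {i : Fin k} {i' : Fin k'}
    (L : LineD M M' i i') (hu : ¬ UnM M i) (hu' : ¬ UnM M' i') (hC : ThC M i)
    (hC' : o2 (normalizer (line M'.toNatV i' : Set G)) ≤ nmG (pre M'.toNatV i')) (hk : 2 ≤ k)
    (hd : ¬ 2 ∣ (stab M.toNatV i).relIndex (normalizer (line M.toNatV i : Set G))) : False :=
  mixK_false L hu hu' hC hC' hk (S.isPGroup'.to_le (stab_le _ _))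
    ((stab_le_nmG (SP M) M.toNatV i).trans fun _ h => h.1) (stab_normalizes_line M.toNatV (SP M) i) hd

/-- A Sylow 2-subgroup of `G` normalises `V_i` and `R`. -/
theorem mixK_two_false {M : NatD F S P V D k} {M' : NatD F' S' P' V' D' k'} {i : Fin k} {i' : Fin k'}
    (L : LineD M M' i i') (hu : ¬ UnM M i) (hu' : ¬ UnM M' i') (hC : ThC M i)
    (hC' : o2 (normalizer (line M'.toNatV i' : Set G)) ≤ nmG (pre M'.toNatV i')) (hk : 2 ≤ k)
    {T : Sylow 2 G} (hTV : (T : Subgroup G) ≤ normalizer (fac M.toNatV i : Set G))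
    (hTR : (T : Subgroup G) ≤ normalizer (line M.toNatV i : Set G)) : False :=
  mixK_false L hu hu' hC hC' hk T.isPGroup' hTV hTR (MinSimple.Basic.not_dvd_relIndex T hTR)

end Cfsg.Agent.Omega.IId.NV
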