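import Cfsg.Agent.Omega.IId.CvBig.CEl
import Cfsg.Agent.Omega.IId.CvBig.Mix
import Cfsg.Agent.Omega.IId.ThmCD.Cor
import Cfsg.Agent.Omega.IId.ThmCD.Of

/-!
# CvBig, mixed pairs: THEOREM C for the elements of a factor, all `q`, `k`, `D` (helper468, bb OMEGA #21415)

`M : NatD F S P V D k`, `M' : NatD F' S' P' V' D' k'`, `O₂(N_G(R)) ≤ S`, `S'` for the lines, `L : LineD M M' i i'`, `V_i` mixed.

* `le_o2_of_chain'` : the elements of `H` which stabilise `O₂(H) ≥ C ≥ 1` lie in `O₂(H)`;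
* `zz_le_QL` : `Ω₁Z(O₂(P)) ≤ O₂(N_G(R_i))`, `V_i` mixed;
* `full_fac`, `full_KX` : `V'_{i'}`, `KX(R_i)` induce the root group on `V_i`;
* `thC_of` : **`ThC M i`**;
* `mixK_end` : mixed pairs are impossible if a Sylow 2-subgroup of `N_G(R)` normalises `V_i`, `k ≥ 2`.
-/

set_option autoImplicit false
set_option linter.unusedSectionVars false

namespace Cfsg.Agent.Omega.IId.NV

open Subgroup Cfsg Cfsg.Agent.ZN Cfsg.Agent.ZN.ChoiceBase
open Cfsg.Agent.Omega.MinPar Cfsg.Agent.Omega.FFThm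
open Cfsg.Agent.Lib.SL2Mat
open Cfsg.Agent.MinSimple
open Cfsg.Agent.Omega.NatPair (ap ap_mul ap_one ap_inv_ap ap_ap_inv exists_ap ap_add ext2 ap_zero' ap_one')
open Cfsg.Agent.MinSimple.VModule (zc_le zc_comm zc_sq zc_le_zl le_normalizer_o2 o2_isPGroup o2_le
  normalizer_le_normalizer_zc le_normalizer_zl)
open Cfsg.Agent.Omega.IId.Cv (LineD UnM)
open Cfsg.Agent.Omega.IId.M4 (toRMod toRMod_line nmG)
open Cfsg.Agent.Omega.IId.FourSide (vec_ne)
open Cfsg.Agent.Omega.Mix (RMutual)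
open Cfsg.Agent.Omega.IId.ThmCD (nor_centralizer nor_inf nor_o2)
open Cfsg.Agent.Omega.IITwo.Count (conj_mem conj_mem' mem_norm)

universe u

/-! ### The chain -/

section chain

variable {G : Type u} [Group G] [Finite G]

/-- **The elements of `H` which stabilise `O₂(H) ≥ C ≥ 1` lie in `O₂(H)`.** -/
theorem le_o2_of_chain' {H C : Subgroup G} (hc : H ⊓ centralizer (o2 H : Set G) ≤ o2 H)
    (hn : H ≤ normalizer (C : Set G)) {y : G} (hy : y ∈ H) (h1 : ∀ q ∈ o2 H, q * y * q⁻¹ * y⁻¹ ∈ C)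
    (h2 : ∀ c ∈ C, c * y = y * c) (hCQ : C ≤ o2 H) : y ∈ o2 H := by
  let Y : Subgroup G :=
    { carrier := {h | h ∈ H ∧ (∀ q ∈ o2 H, q * h * q⁻¹ * h⁻¹ ∈ C) ∧ ∀ c ∈ C, c * h = h * c}
      one_mem' := ⟨one_mem _, fun q _ => by
        have e : q * 1 * q⁻¹ * 1⁻¹ = 1 := by group
        rw [e]; exact one_mem _, fun c _ => by rw [mul_one, one_mul]⟩
      mul_mem' := by
        rintro a b ⟨ha, ha1, ha2⟩ ⟨hb, hb1, hb2⟩
        refine ⟨mul_mem ha hb, fun q hq => ?_, fun c hc => by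
          rw [← mul_assoc, ha2 c hc, mul_assoc, hb2 c hc, mul_assoc]⟩
        have h3 := ha2 _ (hb1 q hq)
        have e : q * (a * b) * q⁻¹ * (a * b)⁻¹ = (q * a * q⁻¹ * a⁻¹) * (a * (q * b * q⁻¹ * b⁻¹) * a⁻¹) := by group
        rw [e, ← h3, mul_inv_cancel_right]
        exact mul_mem (ha1 q hq) (hb1 q hq)
      inv_mem' := by
        rintro a ⟨ha, ha1, ha2⟩
        have h4 : ∀ c ∈ C, c * a⁻¹ = a⁻¹ * c := fun c hc => (show Commute c a from ha2 c hc).inv_right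
        refine ⟨inv_mem ha, fun q hq => ?_, h4⟩
        have h3 := ha1 q hq
        have h5 := h4 _ (inv_mem h3)
        have e : q * a⁻¹ * q⁻¹ * a⁻¹⁻¹ = a⁻¹ * (q * a * q⁻¹ * a⁻¹)⁻¹ * a := by group
        rw [e, ← h5, inv_mul_cancel_right]
        exact inv_mem h3 }
  have hYH : Y ≤ H := fun h hh => hh.1
  have hYn : H ≤ normalizer (Y : Set G) := by
    intro g hg
    refine mem_norm ?_
    rintro h ⟨hh, hh1, hh2⟩
    refine ⟨mul_mem (mul_mem hg hh) (inv_mem hg), fun q hq => ?_, fun c hc' => ?_⟩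
    · have h3 := conj_mem (hn hg) (hh1 _ (conj_mem' (VModule.le_normalizer_o2 H hg) hq))
      have e : g * (g⁻¹ * q * g * h * (g⁻¹ * q * g)⁻¹ * h⁻¹) * g⁻¹ = q * (g * h * g⁻¹) * q⁻¹ * (g * h * g⁻¹)⁻¹ := by
        group
      rwa [e] at h3
    · have h3 := hh2 _ (conj_mem' (hn hg) hc')
      calc c * (g * h * g⁻¹) = g * (g⁻¹ * c * g * h) * g⁻¹ := by group
        _ = g * (h * (g⁻¹ * c * g)) * g⁻¹ := by rw [h3]
        _ = g * h * g⁻¹ * c := by group
  obtain ⟨e, he⟩ := IsPGroup.iff_card.1 (o2_isPGroup H)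
  have hpow : ∀ q ∈ o2 H, q ^ 2 ^ e = 1 := by
    intro q hq
    have h3 : (⟨q, hq⟩ : o2 H) ^ Nat.card (o2 H) = 1 := pow_card_eq_one'
    rw [he] at h3
    exact congrArg Subtype.val h3
  have hY2 : IsPGroup 2 Y := by
    rintro ⟨h, hh, hh1, hh2⟩
    have h3 : h ^ 2 ^ e ∈ o2 H := by
      refine hc ⟨pow_mem hh _, mem_centralizer_iff.2 fun q hq => ?_⟩
      set c := q * h * q⁻¹ * h⁻¹ with hcd
      have hcC : c ∈ C := hh1 q hq
      have e1 : q * h * q⁻¹ = c * h := by rw [hcd]; group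
      have e2 : q * h ^ 2 ^ e * q⁻¹ = h ^ 2 ^ e := by
        calc q * h ^ 2 ^ e * q⁻¹ = (q * h * q⁻¹) ^ 2 ^ e := by rw [conj_pow]
          _ = c ^ 2 ^ e * h ^ 2 ^ e := by rw [e1, (show Commute c h from hh2 c hcC).mul_pow]
          _ = h ^ 2 ^ e := by rw [hpow c (hCQ hcC), one_mul]
      exact mul_inv_eq_iff_eq_mul.1 e2
    obtain ⟨n, hn'⟩ := o2_isPGroup H ⟨_, h3⟩
    refine ⟨e + n, ?_⟩
    have h4 : (h ^ 2 ^ e) ^ 2 ^ n = 1 := congrArg Subtype.val hn'
    ext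
    change h ^ 2 ^ (e + n) = 1
    rw [pow_add, pow_mul]
    exact h4
  exact VModule.le_o2 hYH hY2 hYn ⟨hy, h1, h2⟩

/-- conjugates of `KX R` -/
theorem conj_mem_KX {R : Subgroup G} {a s : G} (ha : a ∈ KX R) : s * a * s⁻¹ ∈ KX (cj s R) := by
  obtain ⟨h1, h2⟩ := mem_KX.1 ha
  refine mem_KX.2 ⟨fun y hy => ?_, fun q hq => ?_⟩
  · rw [mem_cj] at hy
    have h3 := h1 _ hy
    calc s * a * s⁻¹ * y = s * (a * (s⁻¹ * y * s)) * s⁻¹ := by group
      _ = s * (s⁻¹ * y * s * a) * s⁻¹ := by rw [h3]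
      _ = y * (s * a * s⁻¹) := by group
  · rw [← cj_normalizer, ChoiceBase.pCore_cj, mem_cj] at hq
    rw [mem_cj]
    have h3 := h2 _ hq
    have e : a * (s⁻¹ * q * s) * a⁻¹ * (s⁻¹ * q * s)⁻¹ = s⁻¹ * (s * a * s⁻¹ * q * (s * a * s⁻¹)⁻¹ * q⁻¹) * s := by
      group
    rwa [e] at h3

end chain

/-! ### `Ω₁Z(O₂(P)) ≤ O₂(N_G(R))` -/

section one

variable {G : Type u} [Group G] [Finite G] {F : Type} [Field F] [CharP F 2] {S : Sylow 2 G} {P V D : Subgroup G}
  {k : ℕ} (M : NatD F S P V D k) (hC : ∀ i, QL M i ≤ (S : Subgroup G))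

include hC

/-- an element of `O₂(N_G(R_i))` which centralises `V_i` centralises `Ω₁Z(O₂(P))` -/
theorem comm_zz_of_fac {i : Fin k} {c : G} (hc : c ∈ QL M i) (hci : ∀ v ∈ fac M.toNatV i, c * v = v * c) {z : G}
    (hz : z ∈ zc (o2 P)) : c * z = z * c := by
  refine comm_zz M (QL_le_P M hC i hc) (fun v hv => ?_) hz
  rw [← iSup_fac M.toNatV] at hv
  have h3 : ⨆ l, fac M.toNatV l ≤ centralizer ({c} : Set G) := by
    refine iSup_le fun l v hv => mem_centralizer_singleton_iff.2 ?_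
    by_cases hl : l = i
    · rw [hl] at hv
      exact (hci v hv).symm
    · exact (QL_comm M hC hl hc hv).symm
  exact (mem_centralizer_singleton_iff.1 (h3 hv)).symm

/-- **`Ω₁Z(O₂(P)) ≤ O₂(N_G(R_i))`** if `V_i` is mixed -/
theorem zz_le_QL {i : Fin k} (hu : ¬ UnM M i) : zc (o2 P) ≤ QL M i := by
  intro y hy
  set H := normalizer (line M.toNatV i : Set G) with hH
  set T : Set G := {x | ∃ g ∈ H, ∃ v ∈ fac M.toNatV i, g * v * g⁻¹ = x} with hT
  have hTg : ∀ g ∈ H, ∀ x ∈ T, g * x * g⁻¹ ∈ T := by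
    rintro g hg _ ⟨h, hh, v, hv, rfl⟩
    exact ⟨g * h, mul_mem hg hh, v, hv, by group⟩
  have hVT : ∀ v ∈ fac M.toNatV i, v ∈ T := fun v hv => ⟨1, one_mem _, v, hv, by group⟩
  have hTQ : ∀ x ∈ T, x ∈ QL M i := by
    rintro _ ⟨g, hg, v, hv, rfl⟩
    exact conj_mem (nor_line_le M i hg) (fac_le_QL_self M hC i hv)
  have hTV : ∀ x ∈ T, ∀ v ∈ fac M.toNatV i, x * v = v * x := by
    rintro _ ⟨g, hg, w, hw, rfl⟩ v hv
    by_contra hne
    exact hu ⟨g, hg, v, hv, w, hw, Ne.symm hne⟩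
  have hyH : y ∈ H := by
    refine centralizer_le_normalizer _ (mem_centralizer_iff.2 fun r hr => ?_)
    exact zc_comm _ r (V_le_zz M (fac_le _ _ (line_le _ _ hr))) y hy
  have hTy : ∀ x ∈ T, x * y = y * x := fun x hx => comm_zz_of_fac M hC (hTQ x hx) (hTV x hx) hy
  refine le_o2_of_chain' (C := QL M i ⊓ centralizer T) (char2_line' M i) (fun g hg => ?_) hyH (fun q hq => ?_)
    (fun c hc => ?_) inf_le_left
  · refine nor_inf (nor_line_le M i hg) (nor_centralizer (hTg g hg) fun x hx => ?_)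
    have := hTg _ (inv_mem hg) x hx
    rwa [inv_inv] at this
  · have hqH : q ∈ H := VModule.o2_le _ hq
    refine ⟨?_, mem_centralizer_iff.2 fun x hx => ?_⟩
    · have h1 : y * q⁻¹ * y⁻¹ ∈ QL M i := conj_mem (nor_line_le M i hyH) (inv_mem hq)
      have e : q * y * q⁻¹ * y⁻¹ = q * (y * q⁻¹ * y⁻¹) := by group
      rw [e]
      exact mul_mem hq h1
    · have h1 := hTy _ (by
        have := hTg _ (inv_mem hqH) x hx
        rwa [inv_inv] at this)
      have h2 : x * y⁻¹ = y⁻¹ * x := (show Commute x y from hTy x hx).inv_right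
      calc x * (q * y * q⁻¹ * y⁻¹) = q * (q⁻¹ * x * q * y) * q⁻¹ * y⁻¹ := by group
        _ = q * (y * (q⁻¹ * x * q)) * q⁻¹ * y⁻¹ := by rw [h1]
        _ = q * y * q⁻¹ * (x * y⁻¹) := by group
        _ = q * y * q⁻¹ * y⁻¹ * x := by rw [h2]; group
  · exact comm_zz_of_fac M hC hc.1 (fun v hv => (mem_centralizer_iff.1 hc.2 v (hVT v hv)).symm) hy

end one

/-! ### The root groups -/

section full

variable {G : Type u} [Group G] [Finite G] {F F' : Type} [Field F] [Finite F] [CharP F 2] [Field F'] [Finite F']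
  [CharP F' 2] {S S' : Sylow 2 G} {P V D P' V' D' : Subgroup G} {k k' : ℕ}

/-- **`V'_{i'}` induces the root group on `V_i`.** -/
theorem full_fac {M : NatD F S P V D k} {M' : NatD F' S' P' V' D' k'} {i : Fin k} {i' : Fin k'}
    (L : LineD M M' i i') (hC : ∀ i, QL M i ≤ (S : Subgroup G)) (hC' : ∀ i, QL M' i ≤ (S' : Subgroup G)) (b : F) :
    ∃ a ∈ fac M'.toNatV i', ∀ v ∈ fac M.toNatV i, a * v * a⁻¹ ∈ fac M.toNatV i ∧
      M.e (a * v * a⁻¹) i = ap (up b) (M.e v i) := by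
  have hQ : QL M i ≤ nmG (pre M.toNatV i) := (QL_le_stab M hC i).trans (stab_le_nmG (SP M) M.toNatV i)
  have hQ' : QL M' i' ≤ nmG (pre M'.toNatV i') := (QL_le_stab M' hC' i').trans (stab_le_nmG (SP M') M'.toNatV i')
  have hm : RMutual (fac M.toNatV i) (fac M'.toNatV i') (nmG (pre M.toNatV i)) (nmG (pre M'.toNatV i')) := by
    refine ⟨L.le'.trans hQ, ?_, L.ne⟩
    have h1 := L.le
    rw [L.eq'] at h1
    exact h1.trans hQ'
  obtain ⟨-, w, w', hq, hq', e1, e2⟩ := Cfsg.Agent.Omega.Mix.pair (toRMod (pre M.toNatV i)) (toRMod (pre M'.toNatV i')) hm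
  have hR1 : line M.toNatV i = (toRMod (pre M.toNatV i)).line ![1, 0] := by rw [toRMod_line, pre_line]
  have hRV : line M.toNatV i ≤ fac M.toNatV i := line_le M.toNatV i
  have hRV' : line M.toNatV i ≤ fac M'.toNatV i' := by
    rw [L.eq']
    exact line_le M'.toNatV i'
  have hinf : line M.toNatV i = (toRMod (pre M.toNatV i)).line w := by
    rw [← e1]
    refine Subgroup.eq_of_le_of_card_ge (le_inf hRV hRV') ?_
    rw [e1, Cfsg.Agent.Omega.Mix.RMod.card_line _ hq.ne, hR1, Cfsg.Agent.Omega.Mix.RMod.card_line _ vec_ne]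
  -- `w` is a multiple of `(1, 0)`
  have hw1 : w 1 = 0 := by
    have h1 : (pre M.toNatV i).e w ∈ line M.toNatV i := by
      rw [hinf]
      exact ⟨1, by rw [one_smul]; rfl⟩
    have h2 := ((mem_line _).1 h1).2
    rwa [pre_e] at h2
  have hw : ap (up b) w = w := by
    apply ext2
    · rw [ap_zero']; simp [hw1]
    · rw [ap_one']; simp [hw1]
  obtain ⟨a, ha, haB⟩ := hq.full (up b) hw
  refine ⟨a, ha, fun v hv => ?_⟩
  · have hve : (pre M.toNatV i).e (M.e v i) = v := ext_fac M.toNatV ((pre M.toNatV i).e_mem _) hv (pre_e _ _ _)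
    have h1 : a * (pre M.toNatV i).e (M.e v i) * a⁻¹ = (pre M.toNatV i).e (ap (up b) (M.e v i)) := haB _
    rw [hve] at h1
    rw [h1]
    exact ⟨(pre M.toNatV i).e_mem _, pre_e _ _ _⟩

/-- **`KX(R)` induces the root group on `V_i`.** -/
theorem full_KX {M : NatD F S P V D k} {M' : NatD F' S' P' V' D' k'} {i : Fin k} {i' : Fin k'}
    (L : LineD M M' i i') (hC : ∀ i, QL M i ≤ (S : Subgroup G)) (hC' : ∀ i, QL M' i ≤ (S' : Subgroup G)) (b : F) :
    ∃ a ∈ KX (line M.toNatV i), ∀ v ∈ fac M.toNatV i, a * v * a⁻¹ ∈ fac M.toNatV i ∧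
      M.e (a * v * a⁻¹) i = ap (up b) (M.e v i) := by
  obtain ⟨a, ha, h⟩ := full_fac L hC hC' b
  refine ⟨a, ?_, h⟩
  rw [L.eq']
  exact fac_le_KX_self M' hC' i' ha

end full

/-! ### All factors -/

section all

variable {G : Type u} [Group G] [Finite G] {F : Type} [Field F] [Finite F] [CharP F 2] {S : Sylow 2 G}
  {P V D : Subgroup G} {k : ℕ} (M : NatD F S P V D k)

/-- the data at one factor -/
structure FullAt (m : Fin k) : Prop where
  zz : zc (o2 P) ≤ QL M m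
  full : ∀ u ∈ fac M.toNatV m, u ∉ line M.toNatV m → ∀ r ∈ line M.toNatV m,
    ∃ a ∈ KX (line M.toNatV m), a * u * a⁻¹ * u⁻¹ = r

variable {M}

theorem fullAt_of {F' : Type} [Field F'] [Finite F'] [CharP F' 2] {S' : Sylow 2 G} {P' V' D' : Subgroup G} {k' : ℕ}
    {M' : NatD F' S' P' V' D' k'} {i : Fin k} {i' : Fin k'}
    (L : LineD M M' i i') (hC : ∀ i, QL M i ≤ (S : Subgroup G)) (hC' : ∀ i, QL M' i ≤ (S' : Subgroup G))
    (hu : ¬ UnM M i) : FullAt M i where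
  zz := zz_le_QL M hC hu
  full u hu hul r hr := by
    have hu1 : M.e u i 1 ≠ 0 := fun h => hul ((mem_line _).2 ⟨hu, h⟩)
    obtain ⟨a, ha, hau⟩ := full_KX L hC hC' (M.e r i 0 / M.e u i 1)
    refine ⟨a, ha, ext_fac M.toNatV (mul_mem (hau u hu).1 (inv_mem hu)) (line_le _ _ hr) ?_⟩
    rw [M.mul _ (hau u hu).1.1 _ (inv_mem hu.1), Pi.add_apply, (hau u hu).2, e_inv M.toNatV hu.1, Pi.neg_apply]
    apply ext2
    · rw [Pi.add_apply, ap_zero', Pi.neg_apply, up_00, up_01]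
      field_simp
      ring
    · rw [Pi.add_apply, ap_one', Pi.neg_apply, up_10, up_11, ((mem_line _).1 hr).2]
      ring

/-- transport to the other factors -/
theorem FullAt.all {i : Fin k} (h : FullAt M i) (m : Fin k) : FullAt M m := by
  obtain ⟨s, hs, hsm⟩ := exists_trans M.toNatV (SP M) i m
  have hsg : sg M.toNatV (SP M hs) i = m := (sg_eq_iff M.toNatV (SP M hs)).2 hsm
  have hline : cj s (line M.toNatV i) = line M.toNatV m := by rw [conj_line M.toNatV (SP M) hs, hsg]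
  refine ⟨fun y hy => ?_, fun u hu hul r hr => ?_⟩
  · have h1 : y ∈ cj s (QL M i) := by
      rw [mem_cj]
      refine h.zz ?_
      exact conj_mem' (zz_nor P (SP M hs)) hy
    rw [cj_QL, hline] at h1
    exact h1
  · have h1 : s⁻¹ * u * s ∈ fac M.toNatV i := by rw [← mem_cj, hsm]; exact hu
    have h2 : s⁻¹ * u * s ∉ line M.toNatV i := by rw [← mem_cj, hline]; exact hul
    have h3 : s⁻¹ * r * s ∈ line M.toNatV i := by rw [← mem_cj, hline]; exact hr
    obtain ⟨a, ha, e⟩ := h.full _ h1 h2 _ h3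
    refine ⟨s * a * s⁻¹, ?_, ?_⟩
    · rw [← hline]
      exact conj_mem_KX ha
    · calc s * a * s⁻¹ * u * (s * a * s⁻¹)⁻¹ * u⁻¹ = s * (a * (s⁻¹ * u * s) * a⁻¹ * (s⁻¹ * u * s)⁻¹) * s⁻¹ := by group
        _ = r := by rw [e]; group

/-- the components of a central element of `S` -/
theorem exists_zel (M : NatD F S P V D k) : ∃ z : Fin k → G, (∀ m, z m ∈ fac M.toNatV m) ∧ (∀ m, z m ≠ 1) ∧
    ∀ (s : G) (hs : s ∈ (S : Subgroup G)) (m : Fin k), s * z m * s⁻¹ = z (sg M.toNatV (SP M hs) m) := by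
  by_cases hk : k = 0
  · subst hk
    exact ⟨fun m => m.elim0, fun m => m.elim0, fun m => m.elim0, fun _ _ m => m.elim0⟩
  have i₀ : Fin k := ⟨0, Nat.pos_of_ne_zero hk⟩
  have hSV : (S : Subgroup G) ≤ normalizer (V : Set G) := (SP M).trans M.nV
  have hV1 : V ≠ ⊥ := fun h => fac_ne_bot M.toNatV i₀ (by rw [eq_bot_iff, ← h]; exact fac_le _ _)
  obtain ⟨z, hz, hz1, hzS⟩ := Half.exists_fixed (V_two M) hV1 S.isPGroup' hSV
  have hzS' : ∀ s ∈ (S : Subgroup G), s * z = z * s := fun s hs => mul_inv_eq_iff_eq_mul.1 (hzS s hs)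
  have hzl : ∀ l, M.e z l ≠ 0 := fun l h => hz1 (eq_one_of_cent M.toNatV hz hzS' h)
  choose a ha hae hac using fun m => exists_component M.toNatV hz m
  refine ⟨a, ha, fun m h => hzl m ?_, fun s hs m => ?_⟩
  · rw [← hae m, h, e_one]; rfl
  · have hsP := SP M hs
    have h1 : s * a m * s⁻¹ ∈ fac M.toNatV (sg M.toNatV hsP m) := by
      rw [← conj_fac M.toNatV hsP, mem_cj]
      have e : s⁻¹ * (s * a m * s⁻¹) * s = a m := by group
      rw [e]; exact ha m
    refine ext_fac M.toNatV h1 (ha _) ?_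
    have h2 : M.e (s * ((a m)⁻¹ * z) * s⁻¹) (sg M.toNatV hsP m) = 0 := by
      rw [sg_spec M.toNatV hsP (mul_mem (inv_mem (ha m).1) hz), M.mul _ (inv_mem (ha m).1) _ hz,
        e_inv M.toNatV (ha m).1, Pi.add_apply, Pi.neg_apply, hae, neg_add_cancel]
    have e : s * ((a m)⁻¹ * z) * s⁻¹ = (s * a m * s⁻¹)⁻¹ * z := by
      calc s * ((a m)⁻¹ * z) * s⁻¹ = (s * a m * s⁻¹)⁻¹ * (s * z * s⁻¹) := by group
        _ = (s * a m * s⁻¹)⁻¹ * z := by rw [hzS s hs]
    rw [e, M.mul _ (inv_mem h1.1) _ hz, e_inv M.toNatV h1.1, Pi.add_apply, Pi.neg_apply, neg_add_eq_zero] at h2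
    rw [h2, hae]

/-- `X_m = ⟨KX(R_m)^L⟩` -/
def XX (M : NatD F S P V D k) (m : Fin k) : Subgroup G :=
  closure {x | ∃ g ∈ grp M.toNatV {m}, ∃ a ∈ KX (line M.toNatV m), g * a * g⁻¹ = x}

theorem mem_XX {m : Fin k} {g a : G} (hg : g ∈ grp M.toNatV {m}) (ha : a ∈ KX (line M.toNatV m)) :
    g * a * g⁻¹ ∈ XX M m := subset_closure ⟨g, hg, a, ha, rfl⟩

/-- `[v, X_m] = V_m` for `1 ≠ v ∈ V_m` -/
theorem XX_full {m : Fin k} (h : FullAt M m) {u v : G} (hu : u ∈ fac M.toNatV m) (hv : v ∈ fac M.toNatV m)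
    (hd : M.e u m 0 * M.e v m 1 ≠ M.e u m 1 * M.e v m 0) : ∃ x ∈ XX M m, x * u * x⁻¹ * u⁻¹ = v := by
  have hv0 : M.e v m ≠ 0 := by
    intro h0
    apply hd
    rw [h0]
    simp
  obtain ⟨A, hA⟩ := exists_ap (x := ![1, 0]) (y := M.e v m) (F := F) vec_ne hv0
  obtain ⟨g, hg, hgA⟩ := exists_lift M.toNatV m A
  have hgn := grp_normalizes M.toNatV {m} {m} hg
  have hu' : g⁻¹ * u * g ∈ fac M.toNatV m := conj_mem' hgn hu
  have hv' : g⁻¹ * v * g ∈ fac M.toNatV m := conj_mem' hgn hv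
  have e1 : g * (g⁻¹ * u * g) * g⁻¹ = u := by group
  have e2 : g * (g⁻¹ * v * g) * g⁻¹ = v := by group
  have h1 := hgA _ hu'.1
  have h2 := hgA _ hv'.1
  rw [e1] at h1
  rw [e2, ← hA] at h2
  have h3 : M.e (g⁻¹ * v * g) m = ![1, 0] := by
    have := congrArg (ap A⁻¹) h2
    rw [ap_inv_ap, ap_inv_ap] at this
    exact this.symm
  have hvl : g⁻¹ * v * g ∈ line M.toNatV m := (mem_line _).2 ⟨hv', by rw [h3]; rfl⟩
  have hul : g⁻¹ * u * g ∉ line M.toNatV m := by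
    intro hcon
    have h4 := ((mem_line _).1 hcon).2
    apply hd
    have h5 : M.e u m = M.e (g⁻¹ * u * g) m 0 • M.e v m := by
      have h6 : M.e (g⁻¹ * u * g) m = M.e (g⁻¹ * u * g) m 0 • ![1, 0] := by
        apply ext2
        · simp
        · rw [h4]; simp
      rw [h1, h6, NatPair.ap_smul, hA]
      simp
    have h7 := congrFun h5 0
    have h8 := congrFun h5 1
    rw [Pi.smul_apply, smul_eq_mul] at h7 h8
    rw [h7, h8]
    ring
  obtain ⟨a, ha, e⟩ := h.full _ hu' hul _ hvl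
  refine ⟨g * a * g⁻¹, mem_XX hg ha, ?_⟩
  calc g * a * g⁻¹ * u * (g * a * g⁻¹)⁻¹ * u⁻¹ = g * (a * (g⁻¹ * u * g) * a⁻¹ * (g⁻¹ * u * g)⁻¹) * g⁻¹ := by group
    _ = v := by rw [e]; group

/-- `V_m` is an irreducible `X_m`-module. -/
theorem XX_irr {m : Fin k} (h : FullAt M m) {U : Subgroup G} (hU : U ≤ fac M.toNatV m) (hU1 : U ≠ ⊥)
    (hn : XX M m ≤ normalizer (U : Set G)) : fac M.toNatV m ≤ U := by
  obtain ⟨u, hu, hu1⟩ := (Subgroup.bot_or_exists_ne_one _).resolve_left hU1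
  have key : ∀ u ∈ U, ∀ v ∈ fac M.toNatV m, M.e u m 0 * M.e v m 1 ≠ M.e u m 1 * M.e v m 0 → v ∈ U := by
    intro u hu v hv hd
    obtain ⟨x, hx, e⟩ := XX_full h (hU hu) hv hd
    rw [← e]
    exact mul_mem (conj_mem (hn hx) hu) (inv_mem hu)
  intro v hv
  by_cases hv1 : v = 1
  · rw [hv1]; exact one_mem _
  by_cases hd : M.e u m 0 * M.e v m 1 = M.e u m 1 * M.e v m 0
  · have hu0 : M.e u m ≠ 0 := fun h0 => hu1 ((fac_eq_one M.toNatV (hU hu)).1 h0)
    have hv0 : M.e v m ≠ 0 := fun h0 => hv1 ((fac_eq_one M.toNatV hv).1 h0)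
    by_cases ha : M.e u m 0 = 0
    · have hb : M.e u m 1 ≠ 0 := fun h0 => hu0 (ext2 ha h0)
      obtain ⟨u₁, hu₁, e₁⟩ := exists_fac M.toNatV m ![1, 0]
      have h1 := key u hu u₁ hu₁ (by rw [e₁]; simpa using Ne.symm hb)
      refine key u₁ h1 v hv ?_
      rw [e₁]
      simp only [Matrix.cons_val_zero, Matrix.cons_val_one, one_mul, zero_mul]
      intro h0
      rw [h0, mul_zero] at hd
      exact hv0 (ext2 ((mul_eq_zero.1 hd.symm).resolve_left hb) h0)
    · obtain ⟨u₁, hu₁, e₁⟩ := exists_fac M.toNatV m ![0, 1]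
      have h1 := key u hu u₁ hu₁ (by rw [e₁]; simpa using ha)
      refine key u₁ h1 v hv ?_
      rw [e₁]
      simp only [Matrix.cons_val_zero, Matrix.cons_val_one, one_mul, zero_mul]
      intro h0
      rw [← h0, mul_zero] at hd
      exact hv0 (ext2 h0.symm ((mul_eq_zero.1 hd).resolve_left ha))
  · exact key u hu v hv hd

variable (hC : ∀ i, QL M i ≤ (S : Subgroup G))
include hC

theorem KX_le_QL (m : Fin k) : KX (line M.toNatV m) ≤ QL M m :=
  KX_le (char2_line' M m) fun _ hy => NV.sq M.toNatV ((mem_line _).1 hy).1.1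

theorem XX_le_P (m : Fin k) : XX M m ≤ P := by
  rw [XX, closure_le]
  rintro _ ⟨g, hg, a, ha, rfl⟩
  exact mul_mem (mul_mem (grp_le _ _ hg) (QL_le_P M hC m (KX_le_QL hC m ha))) (inv_mem (grp_le _ _ hg))

theorem XX_comm {m l : Fin k} (hl : l ≠ m) {x v : G} (hx : x ∈ XX M m) (hv : v ∈ fac M.toNatV l) :
    x * v = v * x := by
  have h1 : XX M m ≤ centralizer ({v} : Set G) := by
    rw [XX, closure_le]
    rintro _ ⟨g, hg, a, ha, rfl⟩
    refine mem_centralizer_singleton_iff.2 (cj_QL_comm M hC hl hg ?_ hv)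
    rw [mem_cj]
    have e : g⁻¹ * (g * a * g⁻¹) * g = a := by group
    rw [e]
    exact KX_le_QL hC m ha
  exact mem_centralizer_singleton_iff.1 (h1 hx)

/-- `[Ω₁Z(O₂(P)), X_m] ≤ V_m` -/
theorem XX_zz {m : Fin k} (h : FullAt M m) {x y : G} (hx : x ∈ XX M m) (hy : y ∈ zc (o2 P)) :
    x * y * x⁻¹ * y⁻¹ ∈ fac M.toNatV m := by
  have hVZ : fac M.toNatV m ≤ zc (o2 P) := (fac_le _ _).trans (V_le_zz M)
  rw [XX] at hx
  induction hx using closure_induction generalizing y with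
  | mem x hx =>
    obtain ⟨g, hg, a, ha, rfl⟩ := hx
    have hgP := grp_le _ _ hg
    have h1 : g⁻¹ * y * g ∈ zc (o2 P) := conj_mem' (zz_nor P hgP) hy
    have h2 := (mem_KX.1 ha).2 _ (h.zz h1)
    have h3 := conj_mem (grp_normalizes M.toNatV {m} {m} hg) (line_le _ _ h2)
    have e : g * (a * (g⁻¹ * y * g) * a⁻¹ * (g⁻¹ * y * g)⁻¹) * g⁻¹ = g * a * g⁻¹ * y * (g * a * g⁻¹)⁻¹ * y⁻¹ := by
      group
    rw [e] at h3
    exact h3
  | one =>
    have e : (1 : G) * y * 1⁻¹ * y⁻¹ = 1 := by group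
    rw [e]; exact one_mem _
  | mul a b _ _ iha ihb =>
    have h1 := ihb hy
    have h2 := mul_mem (iha (hVZ h1)) h1
    have e1 : a * (b * y * b⁻¹ * y⁻¹) * a⁻¹ * (b * y * b⁻¹ * y⁻¹)⁻¹ * (b * y * b⁻¹ * y⁻¹) = a * (b * y * b⁻¹ * y⁻¹) * a⁻¹ := by
      group
    rw [e1] at h2
    have e2 : a * b * y * (a * b)⁻¹ * y⁻¹ = a * (b * y * b⁻¹ * y⁻¹) * a⁻¹ * (a * y * a⁻¹ * y⁻¹) := by group
    rw [e2]
    exact mul_mem h2 (iha hy)
  | inv a ha iha =>
    have haP : a ∈ P := XX_le_P hC m (by rw [XX]; exact ha)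
    have h1 : a⁻¹ * y * a ∈ zc (o2 P) := conj_mem' (zz_nor P haP) hy
    have h2 := iha h1
    have e : a * (a⁻¹ * y * a) * a⁻¹ * (a⁻¹ * y * a)⁻¹ = (a⁻¹ * y * a⁻¹⁻¹ * y⁻¹)⁻¹ := by group
    rw [e] at h2
    exact (inv_mem_iff).1 h2

/-- The data of `CEl.ElD.le_S`. -/
theorem eld (h : ∀ m, FullAt M m) {z : Fin k → G} (hz : ∀ m, z m ∈ fac M.toNatV m) (hz1 : ∀ m, z m ≠ 1)
    (hzs : ∀ (s : G) (hs : s ∈ (S : Subgroup G)) (m : Fin k), s * z m * s⁻¹ = z (sg M.toNatV (SP M hs) m)) :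
    CEl.ElD S P (o2 P) (fac M.toNatV) (XX M) z where
  SP := SP M
  PQ := VModule.le_normalizer_o2 P
  QP := VModule.o2_le P
  Q2 := o2_isPGroup P
  CQ := Cfsg.Agent.Omega.ThmC.TwoOf.centralizer_o2_le M.hG S M.star
  VQ _ := (fac_le _ _).trans (V_le_zz M)
  XP m := XX_le_P hC m
  Xc _ _ hl _ hx _ hv := XX_comm hC hl hx hv
  Xz m _ hx _ hy := XX_zz hC (h m) hx hy
  irr m _ hU hU1 hn := XX_irr (h m) hU hU1 hn
  mov m := by
    obtain ⟨u, hu, eu⟩ := exists_fac M.toNatV m ![1, 0]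
    obtain ⟨v, hv, ev⟩ := exists_fac M.toNatV m ![0, 1]
    obtain ⟨x, hx, e⟩ := XX_full (h m) hu hv (by rw [eu, ev]; simp)
    refine ⟨x, hx, u, hu, fun hc => ?_⟩
    have h1 : v = 1 := by
      rw [← e, hc]; group
    rw [h1, e_one] at ev
    have := congrFun ev 1
    simp at this
  zV := hz
  z1 := hz1
  zinj l m hlm := by
    by_contra hne
    have h1 : z l ∈ fac M.toNatV l ⊓ fac M.toNatV m := ⟨hz l, by rw [hlm]; exact hz m⟩
    rw [fac_inf M.toNatV hne, mem_bot] at h1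
    exact hz1 l h1
  zS s hs l := ⟨_, hzs s hs l⟩
  ztr l m := by
    obtain ⟨s, hs, hsm⟩ := exists_trans M.toNatV (SP M) l m
    exact ⟨s, hs, by rw [hzs s hs l, (sg_eq_iff M.toNatV (SP M hs)).2 hsm]⟩
  h0 o m hmo w hw hwP v hv := by
    set C := P ⊓ centralizer ({z o} : Set G) with hCd
    set W := o2 (centralizer ({z o} : Set G)) with hW
    have hfix : ∀ c ∈ P, c * z o = z o * c → c ∈ normalizer (fac M.toNatV o : Set G) := by
      intro c hc hcz
      rw [mem_normalizer_fac_iff M.toNatV hc]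
      by_contra hne
      have h1 : z o ∈ fac M.toNatV (sg M.toNatV hc o) := by
        rw [← conj_fac M.toNatV hc, mem_cj]
        have e : c⁻¹ * z o * c = z o := by
          calc c⁻¹ * z o * c = c⁻¹ * (z o * c) := by group
            _ = z o := by rw [← hcz]; group
        rw [e]; exact hz o
      have h2 : z o ∈ fac M.toNatV (sg M.toNatV hc o) ⊓ fac M.toNatV o := ⟨h1, hz o⟩
      rw [fac_inf M.toNatV hne, mem_bot] at h2
      exact hz1 o h2
    have hsC : stab M.toNatV o ≤ C := by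
      intro s hs
      refine ⟨SP M hs.1, mem_centralizer_singleton_iff.2 ?_⟩
      have h1 := hzs s hs.1 o
      rw [(mem_normalizer_fac_iff M.toNatV (SP M hs.1)).1 hs.2] at h1
      exact mul_inv_eq_iff_eq_mul.1 h1
    have hWP : W ⊓ P ≤ stab M.toNatV o := by
      refine le_trans ?_ (VModule.o2_le_of_sylow (S.isPGroup'.to_le (stab_le _ _))
        (not_dvd_stab M.toNatV (SP M) (MinSimple.Basic.not_dvd_relIndex S (SP M)) o hsC inf_le_left
          fun c hc => hfix c hc.1 (mem_centralizer_singleton_iff.1 hc.2)))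
      refine VModule.le_o2 (fun x hx => ⟨hx.2, VModule.o2_le _ hx.1⟩) ((o2_isPGroup _).to_le inf_le_left) ?_
      intro c hc
      exact nor_inf (VModule.le_normalizer_o2 _ hc.2) (le_normalizer hc.1)
    have hn : grp M.toNatV {m} ≤ normalizer (W ⊓ P : Subgroup G) := by
      intro g hg
      refine nor_inf (VModule.le_normalizer_o2 _ (mem_centralizer_singleton_iff.2 ?_)) (le_normalizer (grp_le _ _ hg))
      exact grp_comm M.toNatV (Set.disjoint_singleton.2 hmo) hg (hz o)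
    have h1 := le_cent_fac M (hWP.trans (stab_le _ _)) hn ⟨hw, hwP⟩
    exact (mem_centralizer_iff.1 h1 v hv).symm

/-- **`O₂(C_G(z))` centralises `V_m`** for `1 ≠ z ∈ V_l`, `l ≠ m`. -/
theorem comm_el (h : ∀ m, FullAt M m) {l m : Fin k} (hlm : l ≠ m) {z : G} (hz : z ∈ fac M.toNatV l) (hz1 : z ≠ 1)
    {g : G} (hg : g ∈ o2 (centralizer ({z} : Set G))) {v : G} (hv : v ∈ fac M.toNatV m) : g * v = v * g := by
  obtain ⟨y, hy, hy1, hys⟩ := exists_zel M
  have d := eld hC h hy hy1 hys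
  obtain ⟨t, ht, e⟩ := exists_grp M.toNatV (hy l) hz (hy1 l) hz1
  have hcz : centralizer ({z} : Set G) = cj t (centralizer ({y l} : Set G)) := by
    ext x
    rw [mem_cj, mem_centralizer_singleton_iff, mem_centralizer_singleton_iff, ← e]
    constructor
    · intro h
      calc t⁻¹ * x * t * y l = t⁻¹ * (x * (t * y l * t⁻¹)) * t := by group
        _ = t⁻¹ * (t * y l * t⁻¹ * x) * t := by rw [h]
        _ = y l * (t⁻¹ * x * t) := by group
    · intro h
      calc x * (t * y l * t⁻¹) = t * (t⁻¹ * x * t * y l) * t⁻¹ := by group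
        _ = t * (y l * (t⁻¹ * x * t)) * t⁻¹ := by rw [h]
        _ = t * y l * t⁻¹ * x := by group
  rw [hcz, ChoiceBase.pCore_cj, mem_cj] at hg
  have h1 := d.h0 l m hlm.symm _ hg (SP M (d.le_S l hg)) v hv
  have h2 : t * v = v * t := grp_comm M.toNatV (Set.disjoint_singleton.2 hlm) ht hv
  have h3 : t⁻¹ * v = v * t⁻¹ := (show Commute t v from h2).inv_left
  calc g * v = t * (t⁻¹ * g * t) * (t⁻¹ * v) := by group
    _ = t * (t⁻¹ * g * t * v) * t⁻¹ := by rw [h3]; group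
    _ = (t * v) * (t⁻¹ * g * t) * t⁻¹ := by rw [h1]; group
    _ = v * g := by rw [h2]; group

/-- **`ThC M i`** -/
theorem thC_of_full (h : ∀ m, FullAt M m) (i : Fin k) : ThC M i where
  nm := (QL_le_stab M hC i).trans (stab_le_nmG (SP M) M.toNatV i)
  comm _ hl _ hv _ hg := QL_comm M hC hl hg hv
  cent l hl z hz hz1 g hg v hv := comm_el hC h hl hz hz1 hg hv
  le l hl z hz hz1 := by
    intro v hv
    have hN : IsPGroup 2 (zpowers z) := (V_two M).to_le (by rw [zpowers_le]; exact fac_le _ _ hz)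
    have hN1 : zpowers z ≠ ⊥ := by rwa [Ne, zpowers_eq_bot]
    have hCN : normalizer (zpowers z : Set G) = centralizer ({z} : Set G) := by
      have hz2 : z * z = 1 := NV.sq M.toNatV hz.1
      apply le_antisymm
      · intro g hg
        rw [mem_centralizer_singleton_iff]
        have h1 : g * z * g⁻¹ ∈ zpowers z := (mem_normalizer_iff.1 hg z).1 (mem_zpowers z)
        obtain ⟨n, hn⟩ := mem_zpowers_iff.1 h1
        have h2 : z ^ n = 1 ∨ z ^ n = z := by
          rcases Int.even_or_odd' n with ⟨j, hj | hj⟩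
          · left
            rw [hj, zpow_mul, zpow_two, hz2, one_zpow]
          · right
            rw [hj, zpow_add, zpow_mul, zpow_two, hz2, one_zpow, one_mul, zpow_one]
        rcases h2 with h2 | h2
        · exfalso
          apply hz1
          have e : z = g⁻¹ * (g * z * g⁻¹) * g := by group
          rw [e, ← hn, h2]
          group
        · rw [h2] at hn
          exact mul_inv_eq_iff_eq_mul.1 hn.symm
      · intro g hg
        refine centralizer_le_normalizer _ (mem_centralizer_iff.2 fun y hy => ?_)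
        obtain ⟨n, rfl⟩ := mem_zpowers_iff.1 hy
        exact ((show Commute g z from mem_centralizer_singleton_iff.1 hg).zpow_right n).symm
    have hch := MinSimple.Basic.char2_normalizer M.hG hN hN1
    rw [hCN] at hch
    refine hch ⟨?_, mem_centralizer_iff.2 fun g hg => comm_el hC h hl hz hz1 hg hv⟩
    exact mem_centralizer_singleton_iff.2 (NV.comm M.toNatV hv.1 hz.1)

end all

/-! ### The end -/

section fin

variable {G : Type u} [Group G] [Finite G] {F F' : Type} [Field F] [Finite F] [CharP F 2] [Field F'] [Finite F']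
  [CharP F' 2] {S S' : Sylow 2 G} {P V D P' V' D' : Subgroup G} {k k' : ℕ}

/-- **THEOREM C at the mixed factor `V_i`**, any `q`, `k`, `k'`, `D`, `D'`. -/
theorem thC_of {M : NatD F S P V D k} {M' : NatD F' S' P' V' D' k'} {i : Fin k} {i' : Fin k'}
    (L : LineD M M' i i') (hC : ∀ i, QL M i ≤ (S : Subgroup G)) (hC' : ∀ i, QL M' i ≤ (S' : Subgroup G))
    (hu : ¬ UnM M i) : ThC M i :=
  thC_of_full hC (fun m => (fullAt_of L hC hC' hu).all m) i

/-- **Mixed pairs are impossible** if a Sylow 2-subgroup of `N_G(R)` normalises `V_i`, `k ≥ 2`. -/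
theorem mixK_end {M : NatD F S P V D k} {M' : NatD F' S' P' V' D' k'} {i : Fin k} {i' : Fin k'}
    (L : LineD M M' i i') (hC : ∀ i, QL M i ≤ (S : Subgroup G)) (hC' : ∀ i, QL M' i ≤ (S' : Subgroup G))
    (hu : ¬ UnM M i) (hu' : ¬ UnM M' i') (hk : 2 ≤ k) {T : Subgroup G} (hT2 : IsPGroup 2 T)
    (hTV : T ≤ normalizer (fac M.toNatV i : Set G)) (hTR : T ≤ normalizer (line M.toNatV i : Set G))
    (hTs : ¬ 2 ∣ T.relIndex (normalizer (line M.toNatV i : Set G))) : False :=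
  mixK_false L hu hu' (thC_of L hC hC' hu)
    ((QL_le_stab M' hC' i').trans (stab_le_nmG (SP M') M'.toNatV i')) hk hT2 hTV hTR hTs

end fin

end Cfsg.Agent.Omega.IId.NV
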