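import Cfsg.Agent.Omega.IId.Cv.TwoFourB

/-!
# CvBig, CASE 2a, all `q`, any number of factors: the frame (helper796)

`Vf l` (`l ∈ κ`) : factors with lines `R l a` and root groups `K l a` (`KT`), `Q = O₂(P)`, `X l = ⟨K l a⟩`.

* `Uc R = Z(O₂(N_G(R)))`, `Dh = C_G(Q) ∩ ⋂ C(X l)`, `Wh = (⨆ Vf l) ⊔ Dh`;
* `Fr.F` : `Uc (R m b) ∩ C(Uc (R l a)) ≤ QQ (R l a)`, `l ≠ m`;
* `Fr.Vm` : `C_G(Q) ∩ Uc (R i a) ≤ Wh`;
* `Fr.dec` : components;
* `Fr.lemK` : LEMMA K.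
-/

set_option autoImplicit false
set_option linter.unusedSectionVars false

namespace Cfsg.Agent.Omega.IId.CvBig.Four

open Subgroup Cfsg.Agent.Omega.BTwo Cfsg.Agent.Omega.IId.Cv.TwoFour

variable {G : Type*} [Group G]

/-! ### Additions to `KT` -/

section kt

variable {ι : Type*} {V L : Subgroup G} {R K : ι → Subgroup G} (b : KT V L R K)
include b

theorem kt_R_of_cen {i : ι} {v : G} (hv : v ∈ V) (hc : v ∈ centralizer (K i : Set G)) : v ∈ R i := by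
  by_contra hR
  obtain ⟨j, hj, -⟩ := b.third i i
  obtain ⟨v₀, hv₀, hU⟩ := b.exists_mover hj
  apply hU
  rw [mem_centralizer_iff]
  intro a ha
  exact (b.reg (b.K_Q i hv₀) hv hR (mem_centralizer_iff.1 hc v₀ hv₀) a ha).symm

/-- `[a, K i] = R i` for `a ∉ R i` -/
theorem kt_full {i : ι} {a r : G} (ha : a ∈ V) (hai : a ∉ R i) (hr : r ∈ R i) :
    ∃ t ∈ K i, t * a * t⁻¹ * a⁻¹ = r := by
  obtain ⟨l, hl⟩ := b.R_cov a ha
  have hli : l ≠ i := by rintro rfl; exact hai hl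
  obtain ⟨m, hm⟩ := b.R_cov (r * a) (mul_mem (b.R_le i hr) ha)
  have hmi : m ≠ i := by
    rintro rfl
    apply hai
    have e : a = r⁻¹ * (r * a) := by group
    rw [e]
    exact mul_mem (inv_mem hr) hm
  obtain ⟨t, ht, e⟩ := b.tr i l m hli hmi
  refine ⟨t, ht, ?_⟩
  have h1 : t * a * t⁻¹ ∈ R m := by
    rw [← e]
    exact conj_mem_cj hl
  have h2 := b.QV i t (b.K_Q i ht) a ha
  have h3 : t * a * t⁻¹ * (r * a)⁻¹ ∈ R m := mul_mem h1 (inv_mem hm)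
  have h4 : t * a * t⁻¹ * (r * a)⁻¹ ∈ R i := by
    have e1 : t * a * t⁻¹ * (r * a)⁻¹ = t * a * t⁻¹ * a⁻¹ * r⁻¹ := by group
    rw [e1]
    exact mul_mem h2 (inv_mem hr)
  have h5 := b.eq_one hmi h3 h4
  have e1 : t * a * t⁻¹ * (r * a)⁻¹ = t * a * t⁻¹ * a⁻¹ * r⁻¹ := by group
  rw [e1, mul_inv_eq_one] at h5
  exact h5

/-- a line avoiding `a ≠ 1` -/
theorem kt_avoid {a : G} (ha1 : a ≠ 1) (i : ι) : ∃ j, a ∉ R j ∧ j ≠ i := by
  obtain ⟨j, hj, -⟩ := b.third i i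
  obtain ⟨k, hk, hkj⟩ := b.third i j
  by_cases h : a ∈ R j
  · exact ⟨k, fun h1 => ha1 (b.eq_one hkj h1 h), hk⟩
  · exact ⟨j, h, hj⟩

/-- the elements of `Q i` are `u⁻¹ c`, `u ∈ K i`, `c ∈ C(V)` -/
theorem kt_Q_dec [Finite G] {i : ι} {q : G} (hq : q ∈ QQ (R i)) : ∃ u ∈ K i, u * q ∈ centralizer (V : Set G) :=
  lemA b (b.Q_L i hq) ((O2_isPGroup _).to_le (by rw [zpowers_le]; exact hq)) fun r hr => b.QR i q hq r hr

/-- `g ∈ L` trivial on `V / R i` and fixing `1 ≠ z ∈ R i` centralises `R i` -/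
theorem kt_lemB {i : ι} {g z : G} (hg : g ∈ L) (hV : ∀ v ∈ V, g * v * g⁻¹ * v⁻¹ ∈ R i)
    (hz : z ∈ R i) (hz1 : z ≠ 1) (hgz : g * z = z * g) : ∀ r ∈ R i, g * r = r * g := by
  obtain ⟨j, hj, -⟩ := b.third i i
  obtain ⟨k, hk⟩ := b.perm g hg j
  have hgV := b.L_V hg
  have hgR : ∀ r ∈ R i, g * r * g⁻¹ ∈ R i := fun r hr => by
    have h1 := hV r (b.R_le i hr)
    have e : g * r * g⁻¹ = g * r * g⁻¹ * r⁻¹ * r := by group
    rw [e]
    exact mul_mem h1 hr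
  have hki : k ≠ i := by
    rintro rfl
    obtain ⟨v, hv, hv1⟩ := b.exists_ne j
    have h1 : g * v * g⁻¹ ∈ R k := by rw [← hk]; exact conj_mem_cj hv
    have h2 := hV v (b.R_le j hv)
    have h3 : v ∈ R k := by
      have e : v = (g * v * g⁻¹ * v⁻¹)⁻¹ * (g * v * g⁻¹) := by group
      rw [e]
      exact mul_mem (inv_mem h2) h1
    exact hv1 (b.eq_one hj hv h3)
  obtain ⟨u, hu, e⟩ := b.tr i k j hki hj
  set g₁ := u * g with hg₁
  have hg₁L : g₁ ∈ L := mul_mem (b.K_le_L i hu) hg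
  have hg₁V : ∀ v ∈ V, g₁ * v * g₁⁻¹ * v⁻¹ ∈ R i := by
    intro v hv
    have h1 := b.QV i u (b.K_Q i hu) _ (conj_mem_of_normalizer hgV hv)
    have e1 : g₁ * v * g₁⁻¹ * v⁻¹ = (u * (g * v * g⁻¹) * u⁻¹ * (g * v * g⁻¹)⁻¹) * (g * v * g⁻¹ * v⁻¹) := by
      rw [hg₁]; group
    rw [e1]
    exact mul_mem h1 (hV v hv)
  have hg₁j : cj g₁ (R j) = R j := by rw [hg₁, cj_mul, hk, e]
  have hg₁R : ∀ r ∈ R i, g₁ * r * g₁⁻¹ = g * r * g⁻¹ := by
    intro r hr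
    have h1 := b.conj_R (b.K_Q i hu) (hgR r hr)
    calc g₁ * r * g₁⁻¹ = u * (g * r * g⁻¹) * u⁻¹ := by rw [hg₁]; group
      _ = _ := h1
  have hcj : ∀ v ∈ R j, g₁ * v * g₁⁻¹ = v := by
    intro v hv
    have h1 : g₁ * v * g₁⁻¹ * v⁻¹ ∈ R j := by
      refine mul_mem ?_ (inv_mem hv)
      have := conj_mem_cj (g := g₁) hv
      rwa [hg₁j] at this
    have h2 := b.eq_one (Ne.symm hj) (hg₁V v (b.R_le j hv)) h1
    exact mul_inv_eq_one.1 h2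
  have hgz' : g₁ * z * g₁⁻¹ = z := by
    rw [hg₁R z hz, hgz, mul_inv_cancel_right]
  obtain ⟨v₀, hv₀, hv₁⟩ := b.exists_ne j
  -- the line through `v₀ z`
  obtain ⟨m, hm⟩ := b.R_cov (v₀ * z) (mul_mem (b.R_le j hv₀) (b.R_le i hz))
  have hmi : m ≠ i := by
    rintro rfl
    apply hv₁
    have h1 : v₀ ∈ R m := by
      have e1 : v₀ = v₀ * z * z⁻¹ := by group
      rw [e1]
      exact mul_mem hm (inv_mem hz)
    exact b.eq_one hj hv₀ h1
  have hmj : m ≠ j := by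
    rintro rfl
    apply hz1
    have h1 : z ∈ R m := by
      have e1 : z = v₀⁻¹ * (v₀ * z) := by group
      rw [e1]
      exact mul_mem (inv_mem hv₀) hm
    exact b.eq_one hj h1 hz
  have hgm : cj g₁ (R m) = R m := by
    obtain ⟨m', hm'⟩ := b.perm g₁ hg₁L m
    have h1 : v₀ * z ∈ R m' := by
      rw [← hm']
      have h2 : g₁ * (v₀ * z) * g₁⁻¹ = v₀ * z := by
        calc g₁ * (v₀ * z) * g₁⁻¹ = (g₁ * v₀ * g₁⁻¹) * (g₁ * z * g₁⁻¹) := by group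
          _ = v₀ * z := by rw [hcj v₀ hv₀, hgz']
      rw [← h2]
      exact conj_mem_cj hm
    have h3 : m = m' := by
      by_contra hne
      have h4 := b.eq_one hne hm h1
      have h5 : v₀ ∈ R i := by
        have e1 : v₀ = v₀ * z * z⁻¹ := by group
        rw [e1, h4, one_mul]
        exact inv_mem hz
      exact hv₁ (b.eq_one hj hv₀ h5)
    rw [h3] at hm' ⊢
    exact hm'
  intro r hr
  -- `r = p q` with `p ∈ R j`, `q ∈ R m`
  obtain ⟨p, hp, q, hq, hr'⟩ := b.exists_mul (Ne.symm hmj) (b.R_le i hr)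
  have h1 : g₁ * r * g₁⁻¹ * r⁻¹ = g₁ * q * g₁⁻¹ * q⁻¹ := by
    have hc : q * p = p * q := b.V_comm q (b.R_le m hq) p (b.R_le j hp)
    calc g₁ * r * g₁⁻¹ * r⁻¹ = (g₁ * p * g₁⁻¹) * (g₁ * q * g₁⁻¹) * (p * q)⁻¹ := by rw [hr']; group
      _ = p * (g₁ * q * g₁⁻¹) * (q * p)⁻¹ := by rw [hcj p hp, hc]
      _ = p * (g₁ * q * g₁⁻¹ * p⁻¹) * q⁻¹ := by group
      _ = p * (p⁻¹ * (g₁ * q * g₁⁻¹)) * q⁻¹ := by
        rw [b.V_comm _ (conj_mem_of_normalizer (b.L_V hg₁L) (b.R_le m hq)) _ (inv_mem (b.R_le j hp))]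
      _ = _ := by group
  have h2 : g₁ * q * g₁⁻¹ * q⁻¹ ∈ R m := by
    refine mul_mem ?_ (inv_mem hq)
    have := conj_mem_cj (g := g₁) hq
    rwa [hgm] at this
  have h3 : g₁ * r * g₁⁻¹ * r⁻¹ ∈ R i := hg₁V r (b.R_le i hr)
  rw [h1] at h3
  have h4 := b.eq_one hmi h2 h3
  rw [← h1, hg₁R r hr, mul_inv_eq_one, mul_inv_eq_iff_eq_mul] at h4
  exact h4

end kt

/-! ### The frame -/

/-- `Z(O₂(N_G(R)))` -/
def Uc (R : Subgroup G) : Subgroup G := QQ R ⊓ centralizer (QQ R : Set G)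

theorem Uc_le (R : Subgroup G) : Uc R ≤ QQ R := inf_le_left

theorem Uc_comm {R : Subgroup G} {u q : G} (hu : u ∈ Uc R) (hq : q ∈ QQ R) : u * q = q * u :=
  (mem_centralizer_iff.1 (mem_inf.1 hu).2 q hq).symm

theorem mem_Uc {R : Subgroup G} {u : G} (h1 : u ∈ QQ R) (h2 : ∀ q ∈ QQ R, u * q = q * u) : u ∈ Uc R :=
  mem_inf.2 ⟨h1, mem_centralizer_iff.2 fun q hq => (h2 q hq).symm⟩

theorem N_Uc (R : Subgroup G) : normalizer (R : Set G) ≤ normalizer (Uc R : Set G) := by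
  intro g hg
  have h1 := le_normalizer_O2 _ hg
  rw [← cj_eq_self_iff, Uc, cj_inf, ← centralizer_cj, cj_eq_self_iff.2 h1]

theorem Uc_two (R : Subgroup G) : IsPGroup 2 (Uc R) := (O2_isPGroup _).to_le (Uc_le R)

variable {κ : Type*} {ι : κ → Type*}

/-- the frame -/
structure Fr (Vf Lf : κ → Subgroup G) (R K : ∀ l, ι l → Subgroup G) (Q : Subgroup G) : Prop where
  kt : ∀ l, KT (Vf l) (Lf l) (R l) (K l)
  comm : ∀ l m, l ≠ m → ∀ v ∈ Vf l, ∀ w ∈ Vf m, v * w = w * v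
  QV' : ∀ l m, m ≠ l → ∀ a, ∀ g ∈ QQ (R l a), ∀ v ∈ Vf m, g * v = v * g
  VQ' : ∀ l m a, Vf m ≤ QQ (R l a)
  ch : ∀ l a, normalizer (R l a : Set G) ⊓ centralizer (QQ (R l a) : Set G) ≤ QQ (R l a)
  cQ : centralizer (Q : Set G) ≤ Q
  QC : ∀ l, ∀ g ∈ Q, ∀ v ∈ Vf l, g * v = v * g
  CQ : ∀ l a, ∀ g ∈ QQ (R l a), (∀ m, ∀ v ∈ Vf m, g * v = v * g) → g ∈ Q
  nQ : ∀ l a, QQ (R l a) ≤ normalizer (Q : Set G)

/-- `C_G(Q) ∩ ⋂ C(X l)` -/
def Dh (K : ∀ l, ι l → Subgroup G) (Q : Subgroup G) : Subgroup G :=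
  centralizer (Q : Set G) ⊓ ⨅ l, centralizer (XK (K l) : Set G)

/-- `⟨Vf l⟩ Dh` -/
def Wh (Vf : κ → Subgroup G) (K : ∀ l, ι l → Subgroup G) (Q : Subgroup G) : Subgroup G :=
  (⨆ l, Vf l) ⊔ Dh K Q

theorem mem_Dh {K : ∀ l, ι l → Subgroup G} {Q : Subgroup G} {d : G} :
    d ∈ Dh K Q ↔ d ∈ centralizer (Q : Set G) ∧ ∀ l, d ∈ centralizer (XK (K l) : Set G) := by
  rw [Dh, mem_inf, mem_iInf]

theorem Vf_le_Wh (Vf : κ → Subgroup G) (K : ∀ l, ι l → Subgroup G) (Q : Subgroup G) (l : κ) :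
    Vf l ≤ Wh Vf K Q := (le_iSup Vf l).trans le_sup_left

theorem Dh_le_Wh (Vf : κ → Subgroup G) (K : ∀ l, ι l → Subgroup G) (Q : Subgroup G) :
    Dh K Q ≤ Wh Vf K Q := le_sup_right

namespace Fr

variable {Vf Lf : κ → Subgroup G} {R K : ∀ l, ι l → Subgroup G} {Q : Subgroup G} (h : Fr Vf Lf R K Q)
include h

theorem comm' {l m : κ} {v w : G} (hv : v ∈ Vf l) (hw : w ∈ Vf m) : v * w = w * v := by
  by_cases hlm : l = m
  · subst hlm
    exact (h.kt l).V_comm v hv w hw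
  · exact h.comm l m hlm v hv w hw

/-- `Vf l ≤ Q` -/
theorem V_le_Q (l : κ) : Vf l ≤ Q := by
  obtain ⟨a, -⟩ := (h.kt l).R_cov 1 (one_mem _)
  exact fun v hv => h.CQ l a v (h.VQ' l l a hv) fun m w hw => h.comm' hv hw

theorem V_cen_Q (l : κ) : Vf l ≤ centralizer (Q : Set G) := fun v hv => by
  rw [mem_centralizer_iff]
  exact fun q hq => h.QC l q hq v hv

theorem K_comm {l m : κ} (hml : m ≠ l) {a : ι l} {t v : G} (ht : t ∈ K l a) (hv : v ∈ Vf m) : t * v = v * t :=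
  h.QV' l m hml a t ((h.kt l).K_Q a ht) v hv

/-- `Vf m ≤ C(X l)` for `m ≠ l` -/
theorem V_cen_X {l m : κ} (hml : m ≠ l) : Vf m ≤ centralizer (XK (K l) : Set G) := by
  have h1 : XK (K l) ≤ centralizer (Vf m : Set G) := iSup_le fun a t ht => by
    rw [mem_centralizer_iff]
    exact fun v hv => (h.K_comm hml ht hv).symm
  exact le_centralizer_iff.1 h1

theorem Uc_le_Q (l : κ) (a : ι l) : Uc (R l a) ≤ Q := fun u hu =>
  h.CQ l a u (Uc_le _ hu) fun m v hv => Uc_comm hu (h.VQ' l m a hv)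

theorem K0_le_Q {l : κ} {a : ι l} {u : G} (hu : u ∈ K l a) (hc : u ∈ centralizer (Vf l : Set G)) : u ∈ Q := by
  refine h.CQ l a u ((h.kt l).K_Q a hu) fun m v hv => ?_
  by_cases hml : m = l
  · subst hml
    exact (mem_centralizer_iff.1 hc v hv).symm
  · exact h.K_comm hml hu hv

theorem V_le_Uc {l m : κ} (hml : m ≠ l) (a : ι l) : Vf m ≤ Uc (R l a) := fun _ hv =>
  mem_Uc (h.VQ' l m a hv) fun q hq => (h.QV' l m hml a q hq _ hv).symm

theorem R_le_Uc (l : κ) (a : ι l) : R l a ≤ Uc (R l a) := fun r hr =>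
  mem_Uc (h.VQ' l l a ((h.kt l).R_le a hr)) fun q hq => ((h.kt l).QR a q hq r hr).symm

theorem cen_Uc_le (l : κ) (a : ι l) : centralizer (Uc (R l a) : Set G) ≤ normalizer (R l a : Set G) :=
  (centralizer_le (h.R_le_Uc l a)).trans (centralizer_le_normalizer _)

/-- a 2-group in `C(Uc (R l a))` normalised by it is in `QQ (R l a)` -/
theorem le_QQ_of {l : κ} {a : ι l} {A : Subgroup G} (hA : A ≤ centralizer (Uc (R l a) : Set G)) (h2 : IsPGroup 2 A)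
    (hn : ∀ c ∈ centralizer (Uc (R l a) : Set G), ∀ x ∈ A, c * x * c⁻¹ ∈ A) : A ≤ QQ (R l a) := by
  refine le_O2_of_chain hA le_rfl (h.cen_Uc_le l a) h2 hn (fun c hc g hg => mul_mem (mul_mem hc hg) (inv_mem hc)) ?_
  intro g hg c hc
  exact conj_mem_of_normalizer (normalizer_le_normalizer_centralizer _ (N_Uc _ hg)) hc

/-- **(F)** -/
theorem F {l m : κ} (hlm : l ≠ m) {a : ι l} {b : ι m} {y : G} (hy : y ∈ Uc (R m b))
    (hc : ∀ u ∈ Uc (R l a), y * u = u * y) : y ∈ QQ (R l a) := by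
  have h1 : Uc (R m b) ⊓ centralizer (Uc (R l a) : Set G) ≤ QQ (R l a) := by
    refine h.le_QQ_of inf_le_right ((Uc_two _).to_le inf_le_left) ?_
    rintro c hc x ⟨hx1, hx2⟩
    have h2 : c ∈ normalizer (R m b : Set G) :=
      (h.kt m).cen_le_N b (centralizer_le (h.V_le_Uc (Ne.symm hlm) a) hc)
    exact mem_inf.2 ⟨conj_mem_of_normalizer (N_Uc _ h2) hx1, mul_mem (mul_mem hc hx2) (inv_mem hc)⟩
  exact h1 (mem_inf.2 ⟨hy, mem_centralizer_iff.2 fun u hu => (hc u hu).symm⟩)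

/-- **(CU)** -/
theorem CU {l : κ} {a b : ι l} (hab : a ≠ b) {y : G} (ha : y ∈ QQ (R l a)) (hb : y ∈ QQ (R l b))
    (hka : ∀ u ∈ K l a, u ∈ centralizer (Vf l : Set G) → y * u = u * y)
    (hkb : ∀ u ∈ K l b, u ∈ centralizer (Vf l : Set G) → y * u = u * y) :
    ∃ v ∈ Vf l, v⁻¹ * y ∈ centralizer (XK (K l) : Set G) := by
  have k := h.kt l
  obtain ⟨v, hv, h2⟩ := k.cenU a y ha hka
  obtain ⟨c, hc, h3⟩ := k.cenU b y hb hkb
  obtain ⟨p, hp, q, hq, e⟩ := k.exists_mul hab (mul_mem (inv_mem hv) hc)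
  refine ⟨v * p, mul_mem hv (k.R_le a hp), k.mem_cen_X hab ?_ ?_⟩
  · have e1 : (v * p)⁻¹ * y = p⁻¹ * (v⁻¹ * y) := by group
    rw [e1]
    exact mul_mem (inv_mem (k.R_cen_K a hp)) h2
  · have e1 : (v * p)⁻¹ * y = q * (c⁻¹ * y) := by
      have e2 : c = v * (p * q) := by rw [← e]; group
      rw [e2]
      group
    rw [e1]
    exact mul_mem (k.R_cen_K b hq) h3

theorem CUQ {l : κ} {y : G} (ha : ∀ a, y ∈ QQ (R l a)) (hQ : y ∈ centralizer (Q : Set G)) :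
    ∃ v ∈ Vf l, v⁻¹ * y ∈ centralizer (XK (K l) : Set G) := by
  obtain ⟨a, b, hab⟩ := (h.kt l).exists_pair
  exact h.CU hab (ha a) (ha b) (fun u hu hc => (mem_centralizer_iff.1 hQ u (h.K0_le_Q hu hc)).symm)
    fun u hu hc => (mem_centralizer_iff.1 hQ u (h.K0_le_Q hu hc)).symm

/-- `C(Q) ∩ C(X l) ≤ Uc (R l a)` -/
theorem mem_Uc_of [Finite G] {l : κ} {c : G} (hQ : c ∈ centralizer (Q : Set G))
    (hX : c ∈ centralizer (XK (K l) : Set G)) (a : ι l) : c ∈ Uc (R l a) := by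
  have h1 : ∀ q ∈ QQ (R l a), c * q = q * c := by
    intro q hq
    obtain ⟨u, hu, hc⟩ := kt_Q_dec (h.kt l) hq
    have h2 : u * q ∈ Q := by
      refine h.CQ l a _ (mul_mem ((h.kt l).K_Q a hu) hq) fun m v hv => ?_
      by_cases hml : m = l
      · subst hml
        exact (mem_centralizer_iff.1 hc v hv).symm
      · exact h.QV' l m hml a _ (mul_mem ((h.kt l).K_Q a hu) hq) v hv
    have h3 := mem_centralizer_iff.1 hQ _ h2
    have h4 := mem_centralizer_iff.1 hX u (K_le_X (K l) a hu)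
    calc c * q = (c * u⁻¹) * (u * q) := by group
      _ = u⁻¹ * (u * c) * u⁻¹ * (u * q) := by group
      _ = u⁻¹ * (c * (u * q)) := by rw [h4]; group
      _ = u⁻¹ * (u * q * c) := by rw [← h3]
      _ = q * c := by group
  refine mem_Uc (h.ch l a (mem_inf.2 ⟨?_, mem_centralizer_iff.2 fun q hq => (h1 q hq).symm⟩)) h1
  apply centralizer_le_normalizer
  rw [mem_centralizer_iff]
  intro r hr
  exact mem_centralizer_iff.1 hQ r (h.V_le_Q l ((h.kt l).R_le a hr))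

theorem Dh_le_Uc [Finite G] (l : κ) (a : ι l) : Dh K Q ≤ Uc (R l a) := fun _ hd =>
  h.mem_Uc_of (mem_Dh.1 hd).1 ((mem_Dh.1 hd).2 l) a

theorem Wh_le_cen : Wh Vf K Q ≤ centralizer (Q : Set G) :=
  sup_le (iSup_le fun l => h.V_cen_Q l) inf_le_left

theorem Wh_le_Q : Wh Vf K Q ≤ Q := h.Wh_le_cen.trans h.cQ

theorem Wh_comm {a b : G} (ha : a ∈ Wh Vf K Q) (hb : b ∈ Wh Vf K Q) : a * b = b * a :=
  (mem_centralizer_iff.1 (h.Wh_le_cen ha) b (h.Wh_le_Q hb)).symm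

theorem Wh_le_QQ [Finite G] (l : κ) (a : ι l) : Wh Vf K Q ≤ QQ (R l a) :=
  sup_le (iSup_le fun m => h.VQ' l m a) ((h.Dh_le_Uc l a).trans (Uc_le _))

/-- components -/
theorem dec {z : G} (hz : z ∈ Wh Vf K Q) (j : κ) : ∃ a ∈ Vf j, a⁻¹ * z ∈ centralizer (XK (K j) : Set G) := by
  let T : Subgroup G :=
    { carrier := {z | z ∈ centralizer (Vf j : Set G) ∧ ∃ a ∈ Vf j, a⁻¹ * z ∈ centralizer (XK (K j) : Set G)}
      one_mem' := ⟨one_mem _, 1, one_mem _, by rw [inv_one, mul_one]; exact one_mem _⟩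
      mul_mem' := by
        rintro z z' ⟨hz, a, ha, h1⟩ ⟨hz', a', ha', h2⟩
        refine ⟨mul_mem hz hz', a * a', mul_mem ha ha', ?_⟩
        have e : (a * a')⁻¹ * (z * z') = a⁻¹ * z * (a'⁻¹ * z') := by
          have h3 := mem_centralizer_iff.1 hz _ (inv_mem ha')
          have h4 := (h.kt j).V_comm _ (inv_mem ha') _ (inv_mem ha)
          calc (a * a')⁻¹ * (z * z') = (a'⁻¹ * a⁻¹) * z * z' := by group
            _ = a⁻¹ * (a'⁻¹ * z) * z' := by rw [h4]; group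
            _ = a⁻¹ * z * (a'⁻¹ * z') := by rw [h3]; group
        rw [e]
        exact mul_mem h1 h2
      inv_mem' := by
        rintro z ⟨hz, a, ha, h1⟩
        refine ⟨inv_mem hz, a⁻¹, inv_mem ha, ?_⟩
        have h3 := mem_centralizer_iff.1 (inv_mem hz) _ ha
        have e : a⁻¹⁻¹ * z⁻¹ = (a⁻¹ * z)⁻¹ := by
          rw [inv_inv, h3]; group
        rw [e]
        exact inv_mem h1 }
  have hT : Wh Vf K Q ≤ T := by
    refine sup_le (iSup_le fun l v hv => ?_) fun d hd => ?_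
    · refine ⟨mem_centralizer_iff.2 fun w hw => h.comm' hw hv, ?_⟩
      by_cases hlj : l = j
      · subst hlj
        exact ⟨v, hv, by rw [inv_mul_cancel]; exact one_mem _⟩
      · exact ⟨1, one_mem _, by rw [inv_one, one_mul]; exact h.V_cen_X hlj hv⟩
    · refine ⟨mem_centralizer_iff.2 fun w hw => ?_, 1, one_mem _, ?_⟩
      · exact mem_centralizer_iff.1 (mem_Dh.1 hd).1 w (h.V_le_Q j hw)
      · rw [inv_one, one_mul]
        exact (mem_Dh.1 hd).2 j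
  exact (hT hz).2

theorem uniq {j : κ} {a : G} (ha : a ∈ Vf j) (hc : a ∈ centralizer (XK (K j) : Set G)) : a = 1 :=
  (h.kt j).cen_VX ha hc

theorem mem_Dh_of {z : G} (hz : z ∈ Wh Vf K Q) (hX : ∀ l, z ∈ centralizer (XK (K l) : Set G)) : z ∈ Dh K Q :=
  mem_Dh.2 ⟨h.Wh_le_cen hz, hX⟩

/-- **(V⁻)** `C_G(Q) ∩ Uc (R i a) ≤ Wh` -/
theorem Vm [Finite G] [Finite κ] {i j : κ} (hj : j ≠ i) {a : ι i} {y : G} (hy : y ∈ Uc (R i a))
    (hQ : y ∈ centralizer (Q : Set G)) : y ∈ Wh Vf K Q := by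
  classical
  have := Fintype.ofFinite κ
  have h1 : ∀ l, l ≠ i → ∀ b : ι l, y ∈ QQ (R l b) := fun l hl b =>
    h.F hl hy fun u hu => (mem_centralizer_iff.1 hQ u (h.Uc_le_Q l b hu)).symm
  have key : ∀ s : Finset κ, i ∉ s → ∃ v ∈ ⨆ l ∈ s, Vf l, ∀ l ∈ s, v⁻¹ * y ∈ centralizer (XK (K l) : Set G) := by
    intro s
    induction s using Finset.induction_on with
    | empty => intro _; exact ⟨1, one_mem _, fun l hl => absurd hl (Finset.notMem_empty l)⟩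
    | insert m s hm ih =>
      intro hi
      rw [Finset.mem_insert, not_or] at hi
      obtain ⟨v, hv, hv'⟩ := ih hi.2
      obtain ⟨e, he, he'⟩ := h.CUQ (fun b => h1 m (Ne.symm hi.1) b) hQ
      have hvX : v ∈ centralizer (XK (K m) : Set G) := by
        have h2 : (⨆ l ∈ s, Vf l) ≤ centralizer (XK (K m) : Set G) :=
          iSup₂_le fun l hl => h.V_cen_X (by rintro rfl; exact hm hl)
        exact h2 hv
      have hve : v * e = e * v := by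
        have h2 : (⨆ l ∈ s, Vf l) ≤ centralizer (Vf m : Set G) :=
          iSup₂_le fun l hl w hw => mem_centralizer_iff.2 fun x hx => h.comm' hx hw
        exact (mem_centralizer_iff.1 (h2 hv) e he).symm
      refine ⟨v * e, mul_mem ?_ ?_, ?_⟩
      · exact (biSup_mono fun l hl => Finset.mem_insert_of_mem hl : (⨆ l ∈ s, Vf l) ≤ ⨆ l ∈ insert m s, Vf l) hv
      · exact (le_iSup₂_of_le m (Finset.mem_insert_self m s) le_rfl : Vf m ≤ ⨆ l ∈ insert m s, Vf l) he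
      · intro l hl
        rcases Finset.mem_insert.1 hl with rfl | hl
        · have e1 : (v * e)⁻¹ * y = v⁻¹ * (e⁻¹ * y) := by
            rw [hve]; group
          rw [e1]
          exact mul_mem (inv_mem hvX) he'
        · have e1 : (v * e)⁻¹ * y = e⁻¹ * (v⁻¹ * y) := by group
          rw [e1]
          exact mul_mem (inv_mem (h.V_cen_X (by rintro rfl; exact hm hl) he)) (hv' l hl)
  obtain ⟨v, hv, hv'⟩ := key (Finset.univ.erase i) (by simp)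
  have hvV : v ∈ ⨆ l, Vf l := (iSup₂_le fun l _ => le_iSup Vf l : (⨆ l ∈ Finset.univ.erase i, Vf l) ≤ _) hv
  have hvW : v ∈ Wh Vf K Q := (le_sup_left : (⨆ l, Vf l) ≤ _) hvV
  have hv'' : ∀ l, l ≠ i → v⁻¹ * y ∈ centralizer (XK (K l) : Set G) := fun l hl => hv' l (by simp [hl])
  have hcQ : v⁻¹ * y ∈ centralizer (Q : Set G) := mul_mem (inv_mem (h.Wh_le_cen hvW)) hQ
  obtain ⟨b, -⟩ := (h.kt j).R_cov 1 (one_mem _)
  have hcU := h.mem_Uc_of hcQ (hv'' j hj) b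
  obtain ⟨e, he, he'⟩ := h.CUQ (l := i) (y := v⁻¹ * y)
    (fun a' => h.F (Ne.symm hj) hcU fun u hu => (mem_centralizer_iff.1 hcQ u (h.Uc_le_Q i a' hu)).symm) hcQ
  have hd : e⁻¹ * (v⁻¹ * y) ∈ Dh K Q := by
    refine mem_Dh.2 ⟨mul_mem (inv_mem (h.V_cen_Q i he)) hcQ, fun l => ?_⟩
    by_cases hl : l = i
    · subst hl
      exact he'
    · exact mul_mem (inv_mem (h.V_cen_X (Ne.symm hl) he)) (hv'' l hl)
  have e1 : y = v * (e * (e⁻¹ * (v⁻¹ * y))) := by group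
  rw [e1]
  exact mul_mem hvW (mul_mem (Vf_le_Wh Vf K Q i he) (Dh_le_Wh Vf K Q hd))

/-- **LEMMA K** -/
theorem lemK [Finite G] {i j : κ} (hji : j ≠ i) {ai : ι i} {Y A : Subgroup G} (hYU : Y ≤ Uc (R i ai))
    (hAW : A ≤ Wh Vf K Q) (hA : ∀ y ∈ Y, ∀ u ∈ Q, y * u * y⁻¹ * u⁻¹ ∈ A)
    (hfull : ∀ u ∈ Q, (∃ y ∈ Y, y * u ≠ u * y) → ∀ z ∈ A, ∃ y ∈ Y, y * u * y⁻¹ * u⁻¹ = z)
    (hmv : ∃ u ∈ Q, ∃ y ∈ Y, y * u ≠ u * y) (hcard : ∀ b : ι j, Nat.card A ≤ Nat.card (R j b)) :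
    A ≤ centralizer (XK (K j) : Set G) := by
  have k := h.kt j
  intro z hz
  obtain ⟨a, ha, haz⟩ := h.dec (hAW hz) j
  by_contra hzX
  have ha1 : a ≠ 1 := by
    rintro rfl
    rw [inv_one, one_mul] at haz
    exact hzX haz
  obtain ⟨b₀, -⟩ := k.R_cov 1 (one_mem _)
  obtain ⟨b, hb, -⟩ := kt_avoid k ha1 b₀
  have hYQ : Y ≤ Q := hYU.trans (h.Uc_le_Q i ai)
  have hQN : Q ≤ normalizer (R j b : Set G) := fun q hq => k.cen_le_N b
    (mem_centralizer_iff.2 fun v hv => (h.QC j q hq v hv).symm)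
  by_cases hcase : ∃ u ∈ Uc (R j b), ∃ y ∈ Y, y * u ≠ u * y
  · obtain ⟨u, hu, hy⟩ := hcase
    obtain ⟨y, hy, rfl⟩ := hfull u (h.Uc_le_Q j b hu) hy z hz
    have h1 : y * u * y⁻¹ * u⁻¹ ∈ Uc (R j b) :=
      mul_mem (conj_mem_of_normalizer (N_Uc _ (hQN (hYQ hy))) hu) (inv_mem hu)
    apply hb
    refine kt_R_of_cen k ha ?_
    have e : a = y * u * y⁻¹ * u⁻¹ * (a⁻¹ * (y * u * y⁻¹ * u⁻¹))⁻¹ := by group
    rw [e]
    refine mul_mem ?_ (inv_mem (cen_XK_le (K j) b haz))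
    rw [mem_centralizer_iff]
    exact fun t ht => (Uc_comm h1 (k.K_Q b ht)).symm
  · push Not at hcase
    have hYQ' : ∀ y ∈ Y, y ∈ QQ (R j b) := fun y hy => h.F hji (hYU hy) fun u hu => hcase u hu y hy
    obtain ⟨u₀, hu₀, hm₀⟩ := hmv
    -- `K j b` normalises `A`
    have hKA : ∀ t ∈ K j b, t * z * t⁻¹ ∈ A := by
      intro t ht
      obtain ⟨y, hy, rfl⟩ := hfull u₀ hu₀ hm₀ z hz
      have h1 := k.KQ b y (hYQ' y hy) t ht
      set ρ := y * t * y⁻¹ * t⁻¹ with hρ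
      have hρW : ρ ∈ Wh Vf K Q := Vf_le_Wh Vf K Q j (k.R_le b h1)
      have htQ : t * u₀ * t⁻¹ ∈ Q := conj_mem_of_normalizer (h.nQ j b (k.K_Q b ht)) hu₀
      have h2 : t * y * t⁻¹ = ρ⁻¹ * y := by rw [hρ]; group
      have h3 := hA y hy _ htQ
      have h4 := mem_centralizer_iff.1 (inv_mem (h.Wh_le_cen hρW)) _ htQ
      have h5 := h.Wh_comm (inv_mem hρW) (hAW h3)
      have e : t * (y * u₀ * y⁻¹ * u₀⁻¹) * t⁻¹ = y * (t * u₀ * t⁻¹) * y⁻¹ * (t * u₀ * t⁻¹)⁻¹ := by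
        calc t * (y * u₀ * y⁻¹ * u₀⁻¹) * t⁻¹
            = (t * y * t⁻¹) * (t * u₀ * t⁻¹) * (t * y * t⁻¹)⁻¹ * (t * u₀ * t⁻¹)⁻¹ := by group
          _ = ρ⁻¹ * (y * (t * u₀ * t⁻¹) * y⁻¹ * (t * u₀ * t⁻¹)⁻¹) * ((t * u₀ * t⁻¹) * ρ⁻¹⁻¹ * (t * u₀ * t⁻¹)⁻¹) := by
            rw [h2]; group
          _ = ρ⁻¹ * (y * (t * u₀ * t⁻¹) * y⁻¹ * (t * u₀ * t⁻¹)⁻¹) * ρ⁻¹⁻¹ := by
            have h6 := mem_centralizer_iff.1 (inv_mem (inv_mem (h.Wh_le_cen hρW))) _ htQ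
            rw [h6, mul_inv_cancel_right]
          _ = _ := by rw [h5, mul_inv_cancel_right]
      rw [e]
      exact h3
    have hRA : R j b ≤ A := by
      intro r hr
      obtain ⟨t, ht, rfl⟩ := kt_full k ha hb hr
      have h1 := mul_mem (hKA t ht) (inv_mem hz)
      have h2 := mem_centralizer_iff.1 haz t (K_le_X (K j) b ht)
      have e : t * z * t⁻¹ * z⁻¹ = t * a * t⁻¹ * a⁻¹ := by
        calc t * z * t⁻¹ * z⁻¹ = t * a * t⁻¹ * ((t * (a⁻¹ * z)) * t⁻¹) * z⁻¹ := by group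
          _ = t * a * t⁻¹ * a⁻¹ := by rw [h2]; group
      rwa [e] at h1
    have hAR : A = R j b := (eq_of_le_of_card_ge hRA (hcard b)).symm
    have hzR : z ∈ R j b := hAR ▸ hz
    have h1 : a⁻¹ * z = 1 := h.uniq (mul_mem (inv_mem ha) (k.R_le b hzR)) haz
    have h2 : a = z := by
      rw [inv_mul_eq_one] at h1
      exact h1
    exact hb (h2 ▸ hzR)

end Fr

end Cfsg.Agent.Omega.IId.CvBig.Four
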