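import Cfsg.Agent.Omega.IId.CvBig.Cut
import Cfsg.Agent.Omega.IId.Cv.NatMod
import Cfsg.Agent.Omega.IId.M4.Graph
import Cfsg.Agent.Omega.HOneEnd.EndIn

/-!
# `BigU4` (`q ≥ 4`, the 2-group `T₁ ≥ T` not Sylow in `G`): the interfaces

* `SylM T X` : `T` is a 2-group, maximal among the 2-subgroups of `N_G(X)` over `T` (no condition on the index in a
  Sylow 2-subgroup of `G`); `OverT.sylM`;
* `TypU T G₀ Xa Ua` : every element of `U_a` outside `X_a` is conjugate into `Ω₁(Z(T))` in `N(G₀) ∩ N(X_a)`;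
* `IdU` : the identification (`IdT`) with the K-fact `TypU`;
* `NmBig` : LEMMA NORM for an unmixed factor, `q ≥ 4`, any number of factors, no Sylow hypothesis.
-/

set_option autoImplicit false
set_option linter.unusedSectionVars false

namespace Cfsg.Agent.Omega.IId.Cv

open Subgroup Pointwise Cfsg Cfsg.Agent.ZN Cfsg.Agent.ZN.ChoiceBase
open Cfsg.Agent.Omega.MinPar Cfsg.Agent.Omega.Frame Cfsg.Agent.Omega.FFThm Cfsg.Agent.Omega.FrameMulti
open Cfsg.Agent.Omega.FrameFF (cv Free)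
open Cfsg.Agent.Omega.HOneEnd (EndIn)
open Cfsg.Agent.Omega.IId.M4 (FK SpK)
open Cfsg.Agent.Omega.IId.NV
open Cfsg.Agent.MinSimple

universe u

/-- `T` is a 2-group, maximal among the 2-subgroups of `N_G(X)` over `T`. -/
structure SylM {G : Type u} [Group G] (T X : Subgroup G) : Prop where
  two : IsPGroup 2 T
  max : ∀ K : Subgroup G, IsPGroup 2 K → T ≤ K → K ≤ normalizer (X : Set G) → K ≤ T

/-- Every element of `U_a` outside `X_a` is conjugate into `Ω₁(Z(T))` in `N(G₀) ∩ N(X_a)`. -/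
def TypU {G : Type u} [Group G] [Finite G] (T G₀ Xa Ua : Subgroup G) : Prop :=
  ∀ u ∈ Ua, u ∉ Xa → ∃ y ∈ normalizer (G₀ : Set G), y ∈ normalizer (Xa : Set G) ∧ y * u * y⁻¹ ∈ zc T

/-- **THEOREM ID with the K-facts over `T`, with `TypU`.** -/
def IdU : Prop :=
  ∀ (G : Type u) [Group G] [Finite G], IsCharacteristicTwoType G → ∀ (T G₀ U R : Subgroup G) (v : G),
    EndIn T G₀ U R v → 4 ≤ Nat.card R →
      (∃ Xb Ca Cb Qa Qb Ua : Subgroup G, SpK T G₀ R Xb Ca Cb Qa Qb Ua ∧ TypU T G₀ R Ua) ∨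
        ∃ Xb Ca Cb Qa Qb Ua Ub : Subgroup G, FK T G₀ R Xb Ca Cb Qa Qb Ua Ub ∧ TypU T G₀ R Ua

/-- LEMMA NORM for an unmixed factor, `q ≥ 4`. -/
def NmBig : Prop :=
  ∀ (G : Type u) [Group G] [Finite G] (S : Sylow 2 G) (P : Subgroup G) (F : Type) [Field F] [Finite F] [CharP F 2]
    (V D : Subgroup G) (k : ℕ) (M : NatD F S P V D k), (∀ l, QL M l ≤ (S : Subgroup G)) →
      ∀ i, UnM M i → 4 ≤ Nat.card F → ∀ g ∈ normalizer (NV.fac M.toNatV i : Set G), (pre M.toNatV i).Nm g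

section

variable {G : Type u} [Group G] [Finite G] {F : Type} [Field F] [Finite F] [CharP F 2] {S : Sylow 2 G}
  {P V D : Subgroup G} {k : ℕ} {M : NatD F S P V D k} {i : Fin k} {T₁ : Subgroup G}

theorem OverT.sylM (h : OverT M i T₁) : SylM T₁ (NV.line M.toNatV i) where
  two := h.two
  max K hK hTK hKX := by
    have : Fact (Nat.Prime 2) := ⟨Nat.prime_two⟩
    have h1 : ¬ 2 ∣ T₁.relIndex K := fun h2 => h.syl (h2.trans
      ⟨_, (Subgroup.relIndex_mul_relIndex T₁ K _ hTK hKX).symm⟩)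
    have h3 : T₁.relIndex K ≠ 0 := (T₁.subgroupOf K).index_ne_zero_of_finite
    have : (T₁.subgroupOf K).FiniteIndex := ⟨h3⟩
    obtain ⟨m, hm⟩ := hK.index (T₁.subgroupOf K)
    have h4 : T₁.relIndex K = 2 ^ m := hm
    rcases m with _ | m
    · exact Subgroup.relIndex_eq_one.1 h4
    · exact absurd (h4 ▸ dvd_pow_self 2 (Nat.succ_ne_zero m)) h1

end

end Cfsg.Agent.Omega.IId.Cv
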