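import Cfsg.Agent.Omega.IId.CvBig.SL
import Cfsg.Agent.Omega.IId.CvBig.U4Def
import Cfsg.Agent.Omega.IId.ExcFree

/-!
# LEMMA NORM for an unmixed factor, any number of factors, any `q`, no Sylow hypothesis (helper958)

`M : NatD F S P V D k`, THEOREM C: `hC : ∀ l, QL M l ≤ S`, `V₁ = fac M i` unmixed, `R = line M i`.

* `core` : the group-theoretic core: a 2-group `W₀ = O₂(C_G(r)) ∩ C_G(R)` does not centralise `V₁`;
* `nm_big` : `N_G(V₁)` normalises the `SL₂(F)`; `nmBig : Cv.NmBig`.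
-/

set_option autoImplicit false
set_option linter.unusedSectionVars false

namespace Cfsg.Agent.Omega.IId.NV

open Subgroup Pointwise Cfsg Cfsg.Agent.ZN Cfsg.Agent.ZN.ChoiceBase
open Cfsg.Agent.Omega.MinPar Cfsg.Agent.Omega.FFThm
open Cfsg.Agent.Lib.SL2Mat
open Cfsg.Agent.MinSimple
open Cfsg.Agent.Omega.NatPair (ap ap_mul ap_one ap_inv_ap ap_ap_inv exists_ap ap_add NatMod PreMod)
open Cfsg.Agent.MinSimple.VModule (zc_le zc_comm zc_sq zc_le_zl o2_isPGroup o2_le normalizer_le_normalizer_zc)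
open scoped commutatorElement

universe u

namespace NormBig

variable {G : Type u} [Group G]

/-- **The core.** `C_{O₂(C_G(r))}(R)` does not centralise `V`. -/
theorem core [Finite G] (hG : IsCharacteristicTwoType G) {V R : Subgroup G} {r : G} (hRV : R ≤ V) (hr : r ∈ R)
    (hr1 : r ≠ 1) (hVc : ∀ x ∈ V, ∀ y ∈ V, x * y = y * x) (h2 : ∀ x ∈ V, x * x = 1)
    (htr : ∀ x ∈ R, x ≠ 1 → ∃ d ∈ normalizer (V : Set G), d ∈ normalizer (R : Set G) ∧ d * r * d⁻¹ = x)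
    (hVQ : V ≤ ZN.o2 (normalizer (R : Set G)))
    (hQR : ZN.o2 (normalizer (R : Set G)) ≤ centralizer (R : Set G))
    (alpha : ∀ q ∈ ZN.o2 (centralizer ({r} : Set G)), q ∈ centralizer (R : Set G) → ∀ v ∈ V, v * q = q * v)
    {c : G} (hcR : c ∈ normalizer (R : Set G))
    (hc : ∀ ρ ∈ R, ∃ v ∈ V, ∃ w ∈ V, v * (c * w * c⁻¹) * v⁻¹ * (c * w * c⁻¹)⁻¹ = ρ) :
    False := by
  set H : Subgroup G := centralizer ({r} : Set G) with hH
  set W : Subgroup G := ZN.o2 H with hW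
  have hmC : ∀ {y : G}, y ∈ H ↔ y * r = r * y := ExcFree.mem_H
  have hWH : W ≤ H := ZN.o2_le H
  have hCRH : centralizer (R : Set G) ≤ H := by
    intro x hx
    exact hmC.2 (mem_centralizer_iff.1 hx r hr).symm
  have alpha' : ∀ r' ∈ R, r' ≠ 1 → ∀ q ∈ ZN.o2 (centralizer ({r'} : Set G)), q ∈ centralizer (R : Set G) →
      ∀ v ∈ V, v * q = q * v := by
    intro r' hr' hr1' q hq hqR v hv
    obtain ⟨d, hd, hd', hdr⟩ := htr r' hr' hr1'
    have e0 : d⁻¹ * r' * d⁻¹⁻¹ = r := by rw [← hdr]; group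
    have h3 := ExcFree.o2_cj e0 hq
    rw [inv_inv] at h3
    have h4 : d⁻¹ * q * d ∈ centralizer (R : Set G) := by
      have := NLFree.conj_mem_of (NLFree.le_normalizer_cent (V := R) le_rfl) (inv_mem hd') hqR
      rwa [inv_inv] at this
    have hv' : d⁻¹ * v * d ∈ V := by
      have := (mem_normalizer_iff.1 (inv_mem hd) v).1 hv
      rwa [inv_inv] at this
    have h5 := alpha _ h3 h4 _ hv'
    calc v * q = d * (d⁻¹ * v * d * (d⁻¹ * q * d)) * d⁻¹ := by group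
      _ = d * (d⁻¹ * q * d * (d⁻¹ * v * d)) * d⁻¹ := by rw [h5]
      _ = q * v := by group
  have hcr : c⁻¹ * r * c ∈ R := by
    have := (mem_normalizer_iff.1 (inv_mem hcR) r).1 hr
    rwa [inv_inv] at this
  have hcr1 : c⁻¹ * r * c ≠ 1 := by
    intro h
    apply hr1
    have e : r = c * (c⁻¹ * r * c) * c⁻¹ := by group
    rw [e, h]; group
  -- the elements of `V ^ c` centralise `C_W(R)`
  have alphac : ∀ w ∈ V, ∀ q ∈ W, q ∈ centralizer (R : Set G) → c * w * c⁻¹ * q = q * (c * w * c⁻¹) := by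
    intro w hw q hq hqR
    have e0 : c⁻¹ * r * c⁻¹⁻¹ = c⁻¹ * r * c := by group
    have h3 := ExcFree.o2_cj e0 hq
    rw [inv_inv] at h3
    have h4 : c⁻¹ * q * c ∈ centralizer (R : Set G) := by
      have := NLFree.conj_mem_of (NLFree.le_normalizer_cent (V := R) le_rfl) (inv_mem hcR) hqR
      rwa [inv_inv] at this
    have h5 := alpha' _ hcr hcr1 _ h3 h4 w hw
    calc c * w * c⁻¹ * q = c * (w * (c⁻¹ * q * c)) * c⁻¹ := by group
      _ = c * (c⁻¹ * q * c * w) * c⁻¹ := by rw [h5]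
      _ = q * (c * w * c⁻¹) := by group
  -- (β)
  have beta : ¬ W ≤ centralizer (R : Set G) := by
    intro hWC
    have hVW : V ≤ W := by
      intro x hx
      refine MinSimple.Basic.char2_centralizer hG (by rw [pow_two]; exact h2 r (hRV hr)) hr1
        (mem_inf.2 ⟨?_, mem_centralizer_iff.2 fun q hq => (alpha q hq (hWC hq) x hx).symm⟩)
      exact hmC.2 (hVc x hx r (hRV hr))
    obtain ⟨v, hv, w, hw, hρ⟩ := hc r hr
    obtain ⟨d, hd, hd', hdr⟩ := htr _ hcr hcr1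
    have h3 : w ∈ ZN.o2 (centralizer ({c⁻¹ * r * c} : Set G)) := by
      have hw' : d⁻¹ * w * d ∈ V := by
        have := (mem_normalizer_iff.1 (inv_mem hd) w).1 hw
        rwa [inv_inv] at this
      have h4 := ExcFree.o2_cj hdr (hVW hw')
      have e : d * (d⁻¹ * w * d) * d⁻¹ = w := by group
      rwa [e] at h4
    have h4 : c * w * c⁻¹ ∈ W := ExcFree.o2_cj (d := c) (by group) h3
    have h5 := alpha _ h4 (hWC h4) v hv
    apply hr1
    rw [← hρ]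
    calc v * (c * w * c⁻¹) * v⁻¹ * (c * w * c⁻¹)⁻¹ = (c * w * c⁻¹) * v * v⁻¹ * (c * w * c⁻¹)⁻¹ := by rw [h5]
      _ = 1 := by group
  -- a fixed coset
  set W0 : Subgroup G := W ⊓ centralizer (R : Set G) with hW0
  have hW0n : ZN.o2 (normalizer (R : Set G)) ≤ normalizer (W0 : Set G) :=
    Half.le_normalizer_inf ((hQR.trans hCRH).trans (ZN.le_normalizer_o2 H))
      ((ZN.o2_le _).trans (NLFree.le_normalizer_cent le_rfl))
  have hW2 : IsPGroup 2 W := o2_isPGroup H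
  have hlt : W0 < W := lt_of_le_of_ne inf_le_left fun e => beta (by
    have : W ≤ W0 := e.ge
    exact this.trans inf_le_right)
  have hfact : Fact (Nat.Prime 2) := ⟨Nat.prime_two⟩
  have hlt' := Lib.GoldschmidtFusion.lt_inf_normalizer hW2 hlt
  set N0 : Subgroup G := W ⊓ normalizer (W0 : Set G) with hN0
  have hN0n : ZN.o2 (normalizer (R : Set G)) ≤ normalizer (N0 : Set G) := by
    refine Half.le_normalizer_inf ((hQR.trans hCRH).trans (ZN.le_normalizer_o2 H)) ?_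
    exact hW0n.trans le_normalizer
  have hN02 : IsPGroup 2 N0 := hW2.to_le inf_le_left
  set T : Subgroup G := N0 ⊔ ZN.o2 (normalizer (R : Set G)) with hT
  have hT2 : IsPGroup 2 T := IsPGroup.to_sup_of_normal_left' hN02 (o2_isPGroup _) hN0n
  have hTW0 : T ≤ normalizer (W0 : Set G) := sup_le inf_le_right hW0n
  have hTN0 : T ≤ normalizer (N0 : Set G) := sup_le le_normalizer hN0n
  obtain ⟨x, hx, hx0, hxf⟩ := NLFree.exists_fix_mod (S := T) (M := W0) (Q := N0) hT2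
    (hlt'.le.trans le_sup_left) le_sup_left hTW0 hTN0 (fun h => hlt'.not_ge h)
  apply hx0
  show x ∈ W ⊓ centralizer (R : Set G)
  refine mem_inf.2 ⟨(mem_inf.1 hx).1, mem_centralizer_iff.2 fun ρ hρR => ?_⟩
  obtain ⟨v, hv, w, hw, hρ⟩ := hc ρ hρR
  set y := c * w * c⁻¹ with hy
  have hyQ : y ∈ ZN.o2 (normalizer (R : Set G)) :=
    (mem_normalizer_iff.1 (ZN.le_normalizer_o2 _ hcR) w).1 (hVQ hw)
  have hvQ := hVQ hv
  -- `x` commutes with `[v, y]`
  have ha : v * x * v⁻¹ * x⁻¹ ∈ W0 := hxf v (mem_sup_right hvQ)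
  have hb : y * x * y⁻¹ * x⁻¹ ∈ W0 := hxf y (mem_sup_right hyQ)
  set a := v * x * v⁻¹ * x⁻¹ with hadef
  set b := y * x * y⁻¹ * x⁻¹ with hbdef
  have cv : ∀ z ∈ W0, Commute z v := fun z hz => (alpha z hz.1 hz.2 v hv).symm
  have cy : ∀ z ∈ W0, Commute z y := fun z hz => (alphac w hw z hz.1 hz.2).symm
  have cab : Commute a b := by
    have h3 : Commute a y := cy a ha
    have h4 : Commute a (x * y⁻¹ * x⁻¹) := by
      have h5 : x⁻¹ * a * x ∈ W0 := by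
        have := (mem_normalizer_iff.1 (inv_mem (mem_inf.1 hx).2) a).1 ha
        rwa [inv_inv] at this
      have h6 : Commute (x⁻¹ * a * x) y⁻¹ := (cy _ h5).inv_right
      have h7 : x⁻¹ * a * x * y⁻¹ = y⁻¹ * (x⁻¹ * a * x) := h6.eq
      show a * (x * y⁻¹ * x⁻¹) = x * y⁻¹ * x⁻¹ * a
      calc a * (x * y⁻¹ * x⁻¹) = x * (x⁻¹ * a * x * y⁻¹) * x⁻¹ := by group
        _ = x * (y⁻¹ * (x⁻¹ * a * x)) * x⁻¹ := by rw [h7]
        _ = x * y⁻¹ * x⁻¹ * a := by group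
    have h8 : b = y * (x * y⁻¹ * x⁻¹) := by rw [hbdef]; group
    rw [h8]
    exact h3.mul_right h4
  have ea : x * v * x⁻¹ = a⁻¹ * v := by rw [hadef]; group
  have eb : x * y * x⁻¹ = b⁻¹ * y := by rw [hbdef]; group
  have c1 : Commute a⁻¹ v := (cv a ha).inv_left
  have c2 : Commute a⁻¹ y := (cy a ha).inv_left
  have c3 : Commute b⁻¹ v := (cv b hb).inv_left
  have c4 : Commute b⁻¹ y := (cy b hb).inv_left
  have c5 : Commute a⁻¹ b⁻¹ := (cab.inv_left).inv_right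
  have e1 : x * (v * y * v⁻¹ * y⁻¹) * x⁻¹ = v * y * v⁻¹ * y⁻¹ := by
    have s0 : x * (v * y * v⁻¹ * y⁻¹) * x⁻¹ = (a⁻¹ * v) * (b⁻¹ * y) * (a⁻¹ * v)⁻¹ * (b⁻¹ * y)⁻¹ := by
      rw [← ea, ← eb]; group
    have s1 : (a⁻¹ * v) * (b⁻¹ * y) * (a⁻¹ * v)⁻¹ = v * (b⁻¹ * y) * v⁻¹ := by
      have t1 : Commute a⁻¹ (v * (b⁻¹ * y) * v⁻¹) := (c1.mul_right (c5.mul_right c2)).mul_right c1.inv_right
      calc (a⁻¹ * v) * (b⁻¹ * y) * (a⁻¹ * v)⁻¹ = a⁻¹ * (v * (b⁻¹ * y) * v⁻¹) * a⁻¹⁻¹ := by group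
        _ = (v * (b⁻¹ * y) * v⁻¹) * a⁻¹ * a⁻¹⁻¹ := by rw [t1.eq]
        _ = v * (b⁻¹ * y) * v⁻¹ := by group
    have s2 : v * (b⁻¹ * y) * v⁻¹ = b⁻¹ * (v * y * v⁻¹) := by
      calc v * (b⁻¹ * y) * v⁻¹ = (v * b⁻¹) * (y * v⁻¹) := by group
        _ = (b⁻¹ * v) * (y * v⁻¹) := by rw [c3.eq]
        _ = b⁻¹ * (v * y * v⁻¹) := by group
    have t2 : Commute b⁻¹ (v * y * v⁻¹ * y⁻¹) :=
      ((c3.mul_right c4).mul_right c3.inv_right).mul_right c4.inv_right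
    rw [s0, s1, s2]
    calc b⁻¹ * (v * y * v⁻¹) * (b⁻¹ * y)⁻¹ = b⁻¹ * (v * y * v⁻¹ * y⁻¹) * b⁻¹⁻¹ := by group
      _ = (v * y * v⁻¹ * y⁻¹) * b⁻¹ * b⁻¹⁻¹ := by rw [t2.eq]
      _ = v * y * v⁻¹ * y⁻¹ := by group
  rw [hρ] at e1
  calc ρ * x = x * ρ * x⁻¹ * x := by rw [e1]
    _ = x * ρ := by group

theorem le_nor_of {K H : Subgroup G} (h : ∀ g ∈ K, ∀ x ∈ H, g * x * g⁻¹ ∈ H) : K ≤ normalizer (H : Set G) := by
  intro g hg
  rw [mem_normalizer_iff]
  intro x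
  refine ⟨h g hg x, fun hx => ?_⟩
  have h1 := h g⁻¹ (inv_mem hg) _ hx
  have e : g⁻¹ * (g * x * g⁻¹) * g⁻¹⁻¹ = x := by group
  rwa [e] at h1

theorem two_le_of [Finite G] {A K L : Subgroup G} (hK : IsPGroup 2 K) (hAK : A ≤ K) (hKL : K ≤ L)
    (h : ¬ 2 ∣ A.relIndex L) : K ≤ A := by
  have : Fact (Nat.Prime 2) := ⟨Nat.prime_two⟩
  have h1 : ¬ 2 ∣ A.relIndex K := fun h2 => h (h2.trans
    ⟨_, (Subgroup.relIndex_mul_relIndex A K _ hAK hKL).symm⟩)
  have h3 : A.relIndex K ≠ 0 := (A.subgroupOf K).index_ne_zero_of_finite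
  have : (A.subgroupOf K).FiniteIndex := ⟨h3⟩
  obtain ⟨m, hm⟩ := hK.index (A.subgroupOf K)
  have h4 : A.relIndex K = 2 ^ m := hm
  rcases m with _ | m
  · exact Subgroup.relIndex_eq_one.1 h4
  · exact absurd (h4 ▸ dvd_pow_self 2 (Nat.succ_ne_zero m)) h1

/-- `{x ∈ N : [C, x] ≤ O}` -/
def cenMod (N C O : Subgroup G) (hO : N ≤ normalizer (O : Set G)) : Subgroup G where
  carrier := {x | x ∈ N ∧ ∀ c ∈ C, c * x * c⁻¹ * x⁻¹ ∈ O}
  one_mem' := ⟨one_mem _, fun c _ => by simp⟩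
  mul_mem' := by
    rintro x y ⟨h1, h2⟩ ⟨h3, h4⟩
    refine ⟨mul_mem h1 h3, fun c hc => ?_⟩
    have e : c * (x * y) * c⁻¹ * (x * y)⁻¹ = (c * x * c⁻¹ * x⁻¹) * (x * (c * y * c⁻¹ * y⁻¹) * x⁻¹) := by group
    rw [e]
    exact mul_mem (h2 c hc) ((mem_normalizer_iff.1 (hO h1) _).1 (h4 c hc))
  inv_mem' := by
    rintro x ⟨h1, h2⟩
    refine ⟨inv_mem h1, fun c hc => ?_⟩
    have e : c * x⁻¹ * c⁻¹ * x⁻¹⁻¹ = x⁻¹ * (c * x * c⁻¹ * x⁻¹)⁻¹ * x := by group
    rw [e]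
    have := (mem_normalizer_iff.1 (inv_mem (hO h1)) _).1 (inv_mem (h2 c hc))
    rwa [inv_inv] at this

variable {N C O : Subgroup G} {hO : N ≤ normalizer (O : Set G)}

theorem mem_cenMod {x : G} : x ∈ cenMod N C O hO ↔ x ∈ N ∧ ∀ c ∈ C, c * x * c⁻¹ * x⁻¹ ∈ O := Iff.rfl

theorem cenMod_le : cenMod N C O hO ≤ N := fun _ h => h.1

theorem N_le_nor (hC : N ≤ normalizer (C : Set G)) : N ≤ normalizer (cenMod N C O hO : Set G) := by
  refine le_nor_of fun g hg x hx => ⟨mul_mem (mul_mem hg hx.1) (inv_mem hg), fun c hc => ?_⟩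
  have h1 : g⁻¹ * c * g ∈ C := by
    have := (mem_normalizer_iff.1 (inv_mem (hC hg)) c).1 hc
    rwa [inv_inv] at this
  have h2 := (mem_normalizer_iff.1 (hO hg) _).1 (hx.2 _ h1)
  have e : c * (g * x * g⁻¹) * c⁻¹ * (g * x * g⁻¹)⁻¹ = g * (g⁻¹ * c * g * x * (g⁻¹ * c * g)⁻¹ * x⁻¹) * g⁻¹ := by
    group
  rwa [e]

/-- `A ∩ C ≤ O = O₂(C)` for a 2-group `A ≤ {x ∈ N : [C, x] ≤ O₂(C)}` -/
theorem inf_le_of [Finite G] {A : Subgroup G} (hOC : O = o2 C) (hA : IsPGroup 2 A) (hAc : A ≤ cenMod N C O hO) :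
    A ⊓ C ≤ O := by
  have hO2 : IsPGroup 2 O := by rw [hOC]; exact o2_isPGroup _
  have h1 : A ⊓ C ≤ normalizer (O : Set G) := inf_le_left.trans (hAc.trans (cenMod_le.trans hO))
  have h2 : IsPGroup 2 ↥(O ⊔ A ⊓ C) := hO2.to_sup_of_normal_left' (hA.to_le inf_le_left) h1
  have h3 : O ≤ C := by rw [hOC]; exact ZN.o2_le _
  refine le_trans le_sup_right (?_ : O ⊔ A ⊓ C ≤ O)
  conv_rhs => rw [hOC]
  refine VModule.le_o2 (sup_le h3 inf_le_right) h2 ?_
  intro c hc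
  apply mem_normalizer_of_cj_le
  change Subgroup.map _ _ ≤ _
  rw [Subgroup.map_sup]
  refine sup_le ?_ ?_
  · have h4 : c ∈ normalizer (O : Set G) := by
      rw [hOC]
      exact ZN.le_normalizer_o2 _ hc
    change cj c O ≤ _
    rw [cj_eq_of_mem_normalizer h4]
    exact le_sup_left
  · rintro _ ⟨x, ⟨hx, hxC⟩, rfl⟩
    change c * x * c⁻¹ ∈ _
    have h5 := (hAc hx).2 c hc
    have e : c * x * c⁻¹ = (c * x * c⁻¹ * x⁻¹) * x := by group
    rw [e]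
    exact mul_mem (mem_sup_left h5) (mem_sup_right ⟨hx, hxC⟩)

end NormBig

section big

open NormBig

variable {G : Type u} [Group G] [Finite G] {F : Type} [Field F] [Finite F] [CharP F 2] {S : Sylow 2 G}
  {P V D : Subgroup G} {k : ℕ} (M : NatD F S P V D k) (hC : ∀ l, QL M l ≤ (S : Subgroup G))

/-- all factors are unmixed -/
theorem unM_all {i : Fin k} (hu : UnMx M i) (l : Fin k) : UnMx M l := by
  obtain ⟨s, hs, hsl⟩ := exists_trans M.toNatV (SP M) i l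
  have h1 : cj s (line M.toNatV i) = line M.toNatV l := by
    have h2 : sg M.toNatV (SP M hs) i = l := (sg_eq_iff M.toNatV (SP M hs)).2 hsl
    rw [conj_line M.toNatV (SP M) hs, h2]
  obtain ⟨g, hg, v, hv, w, hw, hne⟩ := hu
  have hf : ∀ v ∈ fac M.toNatV i, s * v * s⁻¹ ∈ fac M.toNatV l := fun v hv => by
    rw [← hsl]
    exact ⟨v, hv, rfl⟩
  refine ⟨s * g * s⁻¹, ?_, s * v * s⁻¹, hf v hv, s * w * s⁻¹, hf w hw, fun h => hne ?_⟩
  · rw [← h1, ← cj_normalizer]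
    exact ⟨g, hg, rfl⟩
  · have e1 : s * v * s⁻¹ * (s * g * s⁻¹ * (s * w * s⁻¹) * (s * g * s⁻¹)⁻¹) = s * (v * (g * w * g⁻¹)) * s⁻¹ := by
      group
    have e2 : s * g * s⁻¹ * (s * w * s⁻¹) * (s * g * s⁻¹)⁻¹ * (s * v * s⁻¹) = s * (g * w * g⁻¹ * v) * s⁻¹ := by
      group
    rw [e1, e2] at h
    exact mul_left_cancel (mul_right_cancel h)

include hC

/-- `[QL M i O₂(P), V_P] ≤ line M i` -/
theorem comm_QLQ {i : Fin k} {y v : G} (hy : y ∈ QL M i ⊔ o2 P) (hv : v ∈ zl (S : Subgroup G) P) :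
    y * v * y⁻¹ * v⁻¹ ∈ line M.toNatV i := by
  let K : Subgroup G :=
    { carrier := {y | y ∈ P ∧ ∀ v ∈ zl (S : Subgroup G) P, y * v * y⁻¹ * v⁻¹ ∈ line M.toNatV i}
      one_mem' := ⟨one_mem _, fun v _ => by simp⟩
      mul_mem' := by
        rintro x y ⟨h1, h2⟩ ⟨h3, h4⟩
        refine ⟨mul_mem h1 h3, fun v hv => ?_⟩
        have e : x * y * v * (x * y)⁻¹ * v⁻¹ =
            (x * (y * v * y⁻¹) * x⁻¹ * (y * v * y⁻¹)⁻¹) * (y * v * y⁻¹ * v⁻¹) := by group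
        rw [e]
        exact mul_mem (h2 _ (zl_conj h3 hv)) (h4 v hv)
      inv_mem' := by
        rintro x ⟨h1, h2⟩
        refine ⟨inv_mem h1, fun v hv => ?_⟩
        have h3 := zl_conj (S := S) (inv_mem h1) hv
        have h4 := inv_mem (h2 _ h3)
        have e : (x * (x⁻¹ * v * x⁻¹⁻¹) * x⁻¹ * (x⁻¹ * v * x⁻¹⁻¹)⁻¹)⁻¹ = x⁻¹ * v * x⁻¹⁻¹ * v⁻¹ := by group
        rwa [e] at h4 }
  have h1 : QL M i ⊔ o2 P ≤ K := by
    refine sup_le (fun x hx => ⟨QL_le_P M hC i hx, fun v hv => comm_QL M hC hx hv⟩) fun x hx =>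
      ⟨ZN.o2_le _ hx, fun v hv => ?_⟩
    rw [o2P_comm M hx hv]
    have e : v * x * x⁻¹ * v⁻¹ = 1 := by group
    rw [e]
    exact one_mem _
  exact (h1 hy).2 v hv

omit hC in
/-- `N_G(O₂(P)) ∩ ⋂ N_G(QL M l O₂(P))` -/
def GF (M : NatD F S P V D k) : Subgroup G :=
  normalizer (o2 P : Set G) ⊓ ⨅ l, normalizer ((QL M l ⊔ o2 P : Subgroup G) : Set G)

omit hC in
theorem mem_GF {g : G} : g ∈ GF M ↔ g ∈ normalizer (o2 P : Set G) ∧
    ∀ l, g ∈ normalizer ((QL M l ⊔ o2 P : Subgroup G) : Set G) := by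
  rw [GF, mem_inf, mem_iInf]

omit hC in
theorem S_normalizes_GF : (S : Subgroup G) ≤ normalizer (GF M : Set G) := by
  have hSQ : (S : Subgroup G) ≤ normalizer (o2 P : Set G) := (SP M).trans (ZN.le_normalizer_o2 _)
  refine le_nor_of fun s hs g hg => ?_
  rw [mem_GF] at hg ⊢
  obtain ⟨h1, h2⟩ := hg
  refine ⟨mul_mem (mul_mem (hSQ hs) h1) (inv_mem (hSQ hs)), fun l => ?_⟩
  obtain ⟨m, hm⟩ : ∃ m, sg M.toNatV (SP M hs) m = l := (sg M.toNatV (SP M hs)).surjective l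
  have h3 : cj s (QL M m ⊔ o2 P) = QL M l ⊔ o2 P := by
    change Subgroup.map _ _ = _
    rw [Subgroup.map_sup]
    change cj s (QL M m) ⊔ cj s (o2 P) = _
    rw [conj_QL M hs, hm, cj_eq_of_mem_normalizer (hSQ hs)]
  rw [← h3, ← cj_normalizer]
  exact ⟨g, h2 m, rfl⟩

/-- `S ∩ GF M ≤ stab M i` -/
theorem inf_GF_le {i : Fin k} (hu : UnMx M i) : GF M ⊓ (S : Subgroup G) ≤ stab M.toNatV i := by
  rintro s ⟨hg, hs⟩
  have hsP := SP M hs
  refine mem_inf.2 ⟨hs, (mem_normalizer_fac_iff M.toNatV hsP).2 ?_⟩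
  apply line_inj (M := M.toNatV)
  rw [← conj_line M.toNatV (SP M) hs]
  rintro _ ⟨r, hr, rfl⟩
  change s * r * s⁻¹ ∈ _
  obtain ⟨u, hu1, hue⟩ := exists_fac M.toNatV i ![0, 1]
  obtain ⟨x, hx, hxb⟩ := exists_QL_up M hC hu (M.e r i 0)
  have hxu : x * u * x⁻¹ ∈ fac M.toNatV i :=
    (mem_normalizer_iff.1 (stab_normalizes _ i (QL_le_stab M hC i hx)) u).1 hu1
  have e : r = x * u * x⁻¹ * u⁻¹ := by
    refine ext_fac M.toNatV (line_le _ _ hr) (mul_mem hxu (inv_mem hu1)) ?_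
    rw [M.mul _ hxu.1 _ (inv_mem hu1.1), e_inv M.toNatV hu1.1, Pi.add_apply, Pi.neg_apply, hxb u hu1, hue]
    apply NatPair.ext2
    · rw [Pi.add_apply, NatPair.ap_zero', up_00, up_01]
      simp
    · rw [Pi.add_apply, NatPair.ap_one', up_10, up_11, ((mem_line M.toNatV).1 hr).2]
      simp
  have h1 : s * x * s⁻¹ ∈ QL M i ⊔ o2 P :=
    (mem_normalizer_iff.1 (((mem_GF M).1 hg).2 i) x).1 (mem_sup_left hx)
  have h2 := comm_QLQ M hC h1 (zl_conj (S := S) hsP (M.V_le hu1.1))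
  have e2 : s * x * s⁻¹ * (s * u * s⁻¹) * (s * x * s⁻¹)⁻¹ * (s * u * s⁻¹)⁻¹ = s * (x * u * x⁻¹ * u⁻¹) * s⁻¹ := by
    group
  rw [e2, ← e] at h2
  exact h2

/-- **LEMMA NORM, unmixed factor, any number of factors, any `q`, no Sylow hypothesis.** -/
theorem nm_big {i : Fin k} (hu : UnMx M i) : ∀ g ∈ normalizer (fac M.toNatV i : Set G), (pre M.toNatV i).Nm g := by
  have hall := unM_all M hu
  have hfact : Fact (Nat.Prime 2) := ⟨Nat.prime_two⟩
  set V₁ : Subgroup G := fac M.toNatV i with hV₁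
  set R : Subgroup G := line M.toNatV i with hR
  set Q : Subgroup G := o2 P with hQ
  set T : Subgroup G := stab M.toNatV i with hT
  set N₁ : Subgroup G := normalizer (V₁ : Set G) with hN₁
  set C₁ : Subgroup G := centralizer (V₁ : Set G) with hC₁
  have hRV : R ≤ V₁ := line_le _ _
  have hVz : ∀ {v : G}, v ∈ V₁ → v ∈ zl (S : Subgroup G) P := fun hv => M.V_le (fac_le _ _ hv)
  have hT2 : IsPGroup 2 T := S.isPGroup'.to_le (stab_le _ _)
  have hTN : T ≤ N₁ := stab_normalizes _ i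
  have hQLT : QL M i ≤ T := QL_le_stab M hC i
  have hQ2 : IsPGroup 2 Q := o2_isPGroup _
  have hCN : C₁ ≤ N₁ := centralizer_le_normalizer _
  have hNC : N₁ ≤ normalizer (C₁ : Set G) := NLFree.le_normalizer_cent le_rfl
  have hO : N₁ ≤ normalizer (o2 C₁ : Set G) := hNC.trans (ZN.normalizer_le_normalizer_o2 _)
  have hQC : Q ≤ C₁ := fun q hq => mem_centralizer_iff.2 fun v hv => (o2P_comm M hq (hVz hv)).symm
  have hQLC : ∀ l, l ≠ i → QL M l ≤ C₁ := fun l hl => QL_le_cent M hC (Ne.symm hl)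
  have hQN : Q ≤ N₁ := hQC.trans hCN
  have hQLN : ∀ l, QL M l ≤ N₁ := fun l => by
    by_cases h : l = i
    · subst h; exact hQLT.trans hTN
    · exact (hQLC l h).trans hCN
  have hgN : ∀ l, grp M.toNatV {l} ≤ N₁ := fun l => grp_normalizes M.toNatV {l} {i}
  -- `O₂(C_G(V₁)) ≤ Q`
  have hOQ : o2 C₁ ≤ Q := le_o2_of_inv M hC hall (o2_isPGroup _) (hQN.trans hO) (fun l => (hQLN l).trans hO)
    fun l => (hgN l).trans hO
  -- `X`
  set X : Subgroup G := cenMod N₁ C₁ (o2 C₁) hO with hX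
  have hXN : X ≤ N₁ := cenMod_le
  have hNX : N₁ ≤ normalizer (X : Set G) := N_le_nor hNC
  have hCL : C₁ ≤ normalizer (QL M i : Set G) :=
    ((centralizer_le hRV).trans (centralizer_le_normalizer _)).trans (nor_line_le M i)
  have hQLX : QL M i ≤ X := by
    intro x hx
    refine ⟨hTN (hQLT hx), fun c hc => ?_⟩
    have h1 : QL M i ⊓ C₁ ≤ o2 C₁ := VModule.le_o2 inf_le_right ((QL_two M i).to_le inf_le_left)
      (Half.le_normalizer_inf hCL le_normalizer)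
    refine h1 (mem_inf.2 ⟨mul_mem ((mem_normalizer_iff.1 (hCL hc) x).1 hx) (inv_mem hx), ?_⟩)
    have h2 := (mem_normalizer_iff.1 (hNC (hTN (hQLT hx))) c⁻¹).1 (C₁.inv_mem hc)
    have e : c * x * c⁻¹ * x⁻¹ = c * (x * c⁻¹ * x⁻¹) := by group
    rw [e]
    exact mul_mem hc h2
  -- `U`, `TX`
  obtain ⟨U, hTU, hUN, hU2, hUs⟩ := Half.exists_sylow_le hT2 hTN
  set TX : Subgroup G := X ⊓ U with hTX
  have hTXs : ¬ 2 ∣ TX.relIndex X := TwoPlus.not_dvd_inf hUN hUs hXN hNX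
  have hTX2 : IsPGroup 2 TX := hU2.to_le inf_le_right
  have hTXX : TX ≤ X := inf_le_left
  have hTXN : TX ≤ N₁ := hTXX.trans hXN
  have hQLTX : QL M i ≤ TX := le_inf hQLX (hQLT.trans hTU)
  have hTTX : T ≤ normalizer (TX : Set G) :=
    Half.le_normalizer_inf (hTN.trans hNX) (hTU.trans le_normalizer)
  have hTXC : TX ⊓ C₁ ≤ o2 C₁ := inf_le_of (hO := hO) rfl hTX2 hTXX
  -- `[C₁, TX] ≤ Q`
  have hcomm : ∀ t ∈ TX, ∀ c ∈ C₁, c * t * c⁻¹ * t⁻¹ ∈ Q := fun t ht c hc => hOQ ((hTXX ht).2 c hc)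
  have hcomm' : ∀ t ∈ TX, ∀ c ∈ C₁, t * c * t⁻¹ * c⁻¹ ∈ Q := fun t ht c hc => by
    have h1 := inv_mem (hcomm t ht c hc)
    have e : (c * t * c⁻¹ * t⁻¹)⁻¹ = t * c * t⁻¹ * c⁻¹ := by group
    rwa [e] at h1
  -- `TX ≤ N(Q)`
  have hTXQ : TX ≤ normalizer (Q : Set G) := le_nor_of fun t ht q hq => by
    have h1 := hcomm' t ht q (hQC hq)
    have e : t * q * t⁻¹ = (t * q * t⁻¹ * q⁻¹) * q := by group
    rw [e]
    exact mul_mem h1 hq
  -- `TX ≤ N(R)`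
  have hTXR : TX ≤ normalizer (R : Set G) := by
    by_cases hle : TX ≤ Q
    · exact hle.trans (hQC.trans ((centralizer_le hRV).trans (centralizer_le_normalizer _)))
    obtain ⟨z, hz, hzQ, hzf⟩ := NLFree.exists_fix_mod (S := TX) (M := TX ⊓ Q) (Q := TX) hTX2 inf_le_left le_rfl
      (Half.le_normalizer_inf le_normalizer hTXQ) le_normalizer (fun h => hle (h.trans inf_le_right))
    have hzQ' : z ∉ Q := fun h => hzQ ⟨hz, h⟩
    have hzC : z ∈ CL M := by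
      refine ⟨hTXQ hz, fun l x hx => ?_⟩
      by_cases h : l = i
      · subst h
        have h1 := inv_mem (mem_inf.1 (hzf x (hQLTX hx))).2
        have e : (x * z * x⁻¹ * z⁻¹)⁻¹ = z * x * z⁻¹ * x⁻¹ := by group
        rwa [e] at h1
      · exact hcomm' z hz x (hQLC l h hx)
    have hzS : z ∈ SLQ M := mem_SLQ M hC hall (hTX2.to_le (zpowers_le.2 hz)) (zpowers_le.2 hzC) (mem_zpowers z)
    obtain ⟨hzst, b, hb⟩ := up_of_comm M hC hu (SLQ_le_S M hC hzS) (hzC.2 i)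
    have hzV : ∀ v ∈ V₁, z * v * z⁻¹ ∈ V₁ := fun v hv => (mem_normalizer_iff.1 (hTXN hz) v).1 hv
    have hb0 : b ≠ 0 := by
      rintro rfl
      apply hzQ'
      apply hOQ
      apply hTXC
      refine ⟨hz, mem_centralizer_iff.2 fun v hv => ?_⟩
      have h1 : z * v * z⁻¹ = v := by
        refine ext_fac M.toNatV (hzV v hv) hv ?_
        rw [hb v hv, up_zero, ap_one]
      exact (mul_inv_eq_iff_eq_mul.1 h1).symm
    refine le_nor_of fun t ht r hr => ?_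
    have hrV := hRV hr
    have htr : t * r * t⁻¹ ∈ V₁ := (mem_normalizer_iff.1 (hTXN ht) r).1 hrV
    have hzr : z * r * z⁻¹ = r := by
      refine ext_fac M.toNatV (hzV r hrV) hrV ?_
      rw [hb r hrV]
      apply NatPair.ext2
      · rw [NatPair.ap_zero', up_00, up_01, ((mem_line M.toNatV).1 hr).2]
        simp
      · rw [NatPair.ap_one', up_10, up_11]
        simp
    have hq := (mem_inf.1 (hzf t ht)).2
    have h1 : z * (t * r * t⁻¹) * z⁻¹ = t * r * t⁻¹ := by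
      have h2 := o2P_comm M hq (hVz (hzV _ htr))
      have h3 : t * (z * r * z⁻¹) * t⁻¹ =
          (t * z * t⁻¹ * z⁻¹) * (z * (t * r * t⁻¹) * z⁻¹) * (t * z * t⁻¹ * z⁻¹)⁻¹ := by group
      rw [h2, hzr] at h3
      calc z * (t * r * t⁻¹) * z⁻¹
          = z * (t * r * t⁻¹) * z⁻¹ * (t * z * t⁻¹ * z⁻¹) * (t * z * t⁻¹ * z⁻¹)⁻¹ := by group
        _ = t * r * t⁻¹ := h3.symm
    rw [hR, mem_line]
    refine ⟨htr, ?_⟩
    have h4 := hb _ htr
    rw [h1] at h4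
    have h5 := congrFun h4 0
    rw [NatPair.ap_zero', up_00, up_01] at h5
    have h6 : b * M.e (t * r * t⁻¹) i 1 = 0 := by linear_combination -h5
    exact (mul_eq_zero.1 h6).resolve_left hb0
  -- `TX ≤ T`
  have hTXT : TX ≤ T := by
    have h1 : TX ≤ GF M := by
      intro t ht
      rw [mem_GF]
      refine ⟨hTXQ ht, fun l => ?_⟩
      by_cases h : l = i
      · subst h
        exact le_normalizer_sup' (hTXR.trans (nor_line_le M _)) hTXQ ht
      · refine le_nor_of (K := TX) (fun t ht x hx => ?_) ht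
        have hx' : x ∈ C₁ := (sup_le (hQLC l h) hQC) hx
        have e : t * x * t⁻¹ = (t * x * t⁻¹ * x⁻¹) * x := by group
        rw [e]
        exact mul_mem (mem_sup_right (hcomm' t ht x hx')) hx
    have h2 : GF M ⊓ (S : Subgroup G) ≤ T := inf_GF_le M hC hu
    have h3 : ¬ 2 ∣ (GF M ⊓ (S : Subgroup G)).relIndex (GF M) :=
      TwoPlus.not_dvd_inf (H := GF M ⊔ (S : Subgroup G)) le_sup_right
        (MinSimple.Basic.not_dvd_relIndex S le_sup_right) le_sup_left (sup_le le_normalizer (S_normalizes_GF M))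
    have h4 : IsPGroup 2 ↥(TX ⊔ GF M ⊓ (S : Subgroup G)) :=
      hTX2.to_sup_of_normal_left' (hT2.to_le h2) (h2.trans hTTX)
    exact (le_sup_left.trans (two_le_of h4 le_sup_right (sup_le h1 inf_le_left) h3)).trans h2
  -- `r`
  have hR2 : IsPGroup 2 R := (S.isPGroup'.to_le (V_le_S M)).to_le (hRV.trans (fac_le _ _))
  obtain ⟨r, hr, hr1, hrc⟩ := Half.exists_fixed hR2 (line_ne_bot' (M := M.toNatV) i) hT2
    (stab_normalizes_line M.toNatV (SP M) i)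
  have hrf : r ∈ V₁ := hRV hr
  have hrS : ∀ t ∈ T, t * r = r * t := fun t ht => mul_inv_eq_iff_eq_mul.1 (hrc t ht)
  set H : Subgroup G := centralizer ({r} : Set G) with hH
  have hTH : T ≤ H := fun t ht => mem_centralizer_singleton_iff.2 (hrS t ht)
  set O : Subgroup G := o2 (X ⊓ H) with hOdef
  have hOT : O ≤ T := by
    have h1 : TX ≤ X ⊓ H := le_inf hTXX (hTXT.trans hTH)
    have h2 : ¬ 2 ∣ TX.relIndex (X ⊓ H) := fun h => hTXs (h.trans
      ⟨_, (Subgroup.relIndex_mul_relIndex TX (X ⊓ H) X h1 inf_le_left).symm⟩)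
    exact (VModule.o2_le_of_sylow hTX2 h2).trans hTXT
  refine nm_of_o2 (pre M.toNatV i) hrf hr1 (o2_isPGroup _ : IsPGroup 2 O) (hOT.trans hTN)
    (fun o ho => Nm_stab (SP M) M.toNatV i o (hOT ho)) (fun o ho => hrS o (hOT ho)) (fun n hn hnr => ?_) ?_
  · have h1 : n ∈ normalizer (H : Set G) := le_normalizer (mem_centralizer_singleton_iff.2 hnr)
    refine ZN.normalizer_le_normalizer_o2 _ ?_
    exact Half.le_normalizer_inf (K := N₁ ⊓ normalizer (H : Set G)) (inf_le_left.trans hNX) inf_le_right ⟨hn, h1⟩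
  -- `O` does not centralise `V₁`
  intro hcen
  have hu' := hu
  obtain ⟨c, hc, v, hv, w, hw, hne⟩ := hu'
  have hQLR : QL M i ≤ centralizer (R : Set G) := fun y hy => o2_cent_line' M i hy
  have hCRH : centralizer (R : Set G) ≤ H := by
    intro x hx
    exact mem_centralizer_singleton_iff.2 (mem_centralizer_iff.1 hx r hr).symm
  refine core M.hG hRV hr hr1 (fun x hx y hy => NV.comm M.toNatV hx.1 hy.1) (fun x hx => NV.sq M.toNatV hx.1)
    (fun x hx hx1 => ?_) (fac_le_QL_self M hC i) hQLR ?_ hc ?_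
  · obtain ⟨d, hd, hd', hdr⟩ := exists_tor M.toNatV hr hx hr1 hx1
    exact ⟨d, hgN i hd, hd', hdr⟩
  · intro q hq hqR v hv
    have h3 : o2 H ⊓ centralizer (R : Set G) ≤ QL M i := by
      have h4 : o2 H ⊓ centralizer (R : Set G) ≤ ZN.o2 (centralizer (R : Set G)) := by
        refine VModule.le_o2 inf_le_right ((o2_isPGroup H).to_le inf_le_left) ?_
        exact Half.le_normalizer_inf (hCRH.trans (ZN.le_normalizer_o2 H)) le_normalizer
      refine h4.trans (VModule.le_o2 ((ZN.o2_le _).trans (centralizer_le_normalizer _)) (o2_isPGroup _) ?_)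
      exact (NLFree.le_normalizer_cent le_rfl).trans (ZN.normalizer_le_normalizer_o2 _)
    have h5 : q ∈ X := hQLX (h3 ⟨hq, hqR⟩)
    have h6 : o2 H ⊓ X ≤ O := by
      refine VModule.le_o2 (le_inf inf_le_right (inf_le_left.trans (ZN.o2_le _)))
        ((o2_isPGroup H).to_le inf_le_left) ?_
      exact Half.le_normalizer_inf (inf_le_right.trans (ZN.le_normalizer_o2 H)) (inf_le_left.trans le_normalizer)
    exact mem_centralizer_iff.1 (hcen (h6 ⟨hq, h5⟩)) v hv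
  · intro ρ hρ
    have hcw : c * w * c⁻¹ ∈ o2 (normalizer (line M.toNatV i : Set G)) :=
      (mem_normalizer_iff.1 (ZN.le_normalizer_o2 _ hc) w).1 (fac_le_QL_self M hC i hw)
    obtain ⟨v', hv', e⟩ := line_le_comm (M := M.toNatV) (i := i) (o2_up_big M hC hcw)
      (stab_normalizes _ i (QL_le_stab M hC i hcw)) ⟨v, hv, hne⟩ hρ
    exact ⟨v', hv', w, hw, by rw [← e, commutatorElement_def]⟩

end big

end Cfsg.Agent.Omega.IId.NV

namespace Cfsg.Agent.Omega.IId.Cv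

universe u

/-- **`NmBig`** -/
theorem nmBig : NmBig.{u} := fun _ _ _ _ _ _ _ _ _ _ _ _ M hC _ hu _ => NV.nm_big M hC hu

end Cfsg.Agent.Omega.IId.Cv
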