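import Cfsg.Agent.Omega.IId.CvBig.SLUp
import Cfsg.Agent.Omega.IId.CvBig.CElOf
import Cfsg.Agent.Omega.NatPair.NormSubX
import Cfsg.Agent.Omega.NatPair.TvFree

/-!
# The 2-groups which normalise a factor `V₁` and its line `R` act semilinearly on `V₁` (helper958)

`M : NatD F S P V D k`, THEOREM C: `hC : ∀ l, QL M l ≤ S`, `hup : FullUp M` (e.g. mixed pairs).

* `XB M i` : `{x ∈ N_G(V₁) : [C_G(V₁), x] ≤ O₂(C_G(V₁))}`;
* `xframe` : `X ∩ U ≤ stab M i` for a Sylow 2-subgroup `U ≥ stab M i` of `N_G(V₁)`;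
* `nm_mix` : **a 2-group `U`, `stab M i ≤ U ≤ N_G(V₁) ∩ N_G(R)`, acts semilinearly on `V₁`**; `nm_mixed` for mixed pairs.
-/

set_option autoImplicit false
set_option linter.unusedSectionVars false

namespace Cfsg.Agent.Omega.IId.NV

open Subgroup Pointwise Cfsg Cfsg.Agent.ZN Cfsg.Agent.ZN.ChoiceBase
open Cfsg.Agent.Omega.MinPar Cfsg.Agent.Omega.FFThm
open Cfsg.Agent.Lib.SL2Mat
open Cfsg.Agent.MinSimple
open Cfsg.Agent.Omega.NatPair (ap ap_mul ap_one ap_inv_ap ap_ap_inv exists_ap ap_add NatMod PreMod)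
open Cfsg.Agent.MinSimple.VModule (zc_le zc_comm zc_sq zc_le_zl o2_isPGroup o2_le normalizer_le_normalizer_zc)
open scoped commutatorElement

universe u

open NormBig

section big

variable {G : Type u} [Group G] [Finite G] {F : Type} [Field F] [Finite F] [CharP F 2] {S : Sylow 2 G}
  {P V D : Subgroup G} {k : ℕ} (M : NatD F S P V D k) (hC : ∀ l, QL M l ≤ (S : Subgroup G)) (hup : FullUp M)

omit [Finite F] [CharP F 2] in
theorem nor_le_o2C (i : Fin k) : normalizer (fac M.toNatV i : Set G) ≤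
    normalizer (o2 (centralizer (fac M.toNatV i : Set G)) : Set G) :=
  (NLFree.le_normalizer_cent le_rfl).trans (ZN.normalizer_le_normalizer_o2 _)

/-- `{x ∈ N_G(V₁) : [C_G(V₁), x] ≤ O₂(C_G(V₁))}` -/
def XB (i : Fin k) : Subgroup G :=
  cenMod (normalizer (fac M.toNatV i : Set G)) (centralizer (fac M.toNatV i : Set G))
    (o2 (centralizer (fac M.toNatV i : Set G))) (nor_le_o2C M i)

include hC hup

theorem xframe {i : Fin k} {U : Subgroup G} (hU2 : IsPGroup 2 U) (hTU : stab M.toNatV i ≤ U)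
    (hUN : U ≤ normalizer (fac M.toNatV i : Set G)) (hUs : ¬ 2 ∣ U.relIndex (normalizer (fac M.toNatV i : Set G))) :
    XB M i ⊓ U ≤ stab M.toNatV i ∧ ¬ 2 ∣ (XB M i ⊓ U).relIndex (XB M i) ∧ QL M i ≤ XB M i := by
  have hfact : Fact (Nat.Prime 2) := ⟨Nat.prime_two⟩
  set V₁ : Subgroup G := fac M.toNatV i with hV₁
  set R : Subgroup G := line M.toNatV i with hR
  set Q : Subgroup G := o2 P with hQ
  set T : Subgroup G := stab M.toNatV i with hT
  set N₁ : Subgroup G := normalizer (V₁ : Set G) with hN₁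
  set C₁ : Subgroup G := centralizer (V₁ : Set G) with hC₁
  have hRV : R ≤ V₁ := line_le _ _
  have hVz : ∀ {v : G}, v ∈ V₁ → v ∈ zl (S : Subgroup G) P := fun hv => M.V_le (fac_le _ _ hv)
  have hT2 : IsPGroup 2 T := S.isPGroup'.to_le (stab_le _ _)
  have hTN : T ≤ N₁ := stab_normalizes _ i
  have hQLT : QL M i ≤ T := QL_le_stab M hC i
  have hQ2 : IsPGroup 2 Q := o2_isPGroup _
  have hCN : C₁ ≤ N₁ := centralizer_le_normalizer _
  have hNC : N₁ ≤ normalizer (C₁ : Set G) := NLFree.le_normalizer_cent le_rfl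
  have hO : N₁ ≤ normalizer (o2 C₁ : Set G) := hNC.trans (ZN.normalizer_le_normalizer_o2 _)
  have hQC : Q ≤ C₁ := fun q hq => mem_centralizer_iff.2 fun v hv => (o2P_comm M hq (hVz hv)).symm
  have hQLC : ∀ l, l ≠ i → QL M l ≤ C₁ := fun l hl => QL_le_cent M hC (Ne.symm hl)
  have hQN : Q ≤ N₁ := hQC.trans hCN
  have hQLN : ∀ l, QL M l ≤ N₁ := fun l => by
    by_cases h : l = i
    · subst h; exact hQLT.trans hTN
    · exact (hQLC l h).trans hCN
  have hgN : ∀ l, grp M.toNatV {l} ≤ N₁ := fun l => grp_normalizes M.toNatV {l} {i}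
  -- `O₂(C_G(V₁)) ≤ Q`
  have hOQ : o2 C₁ ≤ Q := Up.le_o2_of_inv M hC hup (o2_isPGroup _) (hQN.trans hO) (fun l => (hQLN l).trans hO)
    fun l => (hgN l).trans hO
  -- `X`
  set X : Subgroup G := XB M i with hX
  have hXN : X ≤ N₁ := cenMod_le
  have hNX : N₁ ≤ normalizer (X : Set G) := N_le_nor hNC
  have hCL : C₁ ≤ normalizer (QL M i : Set G) :=
    ((centralizer_le hRV).trans (centralizer_le_normalizer _)).trans (nor_line_le M i)
  have hQLX : QL M i ≤ X := by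
    intro x hx
    refine ⟨hTN (hQLT hx), fun c hc => ?_⟩
    have h1 : QL M i ⊓ C₁ ≤ o2 C₁ := VModule.le_o2 inf_le_right ((QL_two M i).to_le inf_le_left)
      (Half.le_normalizer_inf hCL le_normalizer)
    refine h1 (mem_inf.2 ⟨mul_mem ((mem_normalizer_iff.1 (hCL hc) x).1 hx) (inv_mem hx), ?_⟩)
    have h2 := (mem_normalizer_iff.1 (hNC (hTN (hQLT hx))) c⁻¹).1 (C₁.inv_mem hc)
    have e : c * x * c⁻¹ * x⁻¹ = c * (x * c⁻¹ * x⁻¹) := by group
    rw [e]
    exact mul_mem hc h2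
  set TX : Subgroup G := X ⊓ U with hTX
  have hTXs : ¬ 2 ∣ TX.relIndex X := TwoPlus.not_dvd_inf hUN hUs hXN hNX
  have hTX2 : IsPGroup 2 TX := hU2.to_le inf_le_right
  have hTXX : TX ≤ X := inf_le_left
  have hTXN : TX ≤ N₁ := hTXX.trans hXN
  have hQLTX : QL M i ≤ TX := le_inf hQLX (hQLT.trans hTU)
  have hTTX : T ≤ normalizer (TX : Set G) :=
    Half.le_normalizer_inf (hTN.trans hNX) (hTU.trans le_normalizer)
  have hTXC : TX ⊓ C₁ ≤ o2 C₁ := inf_le_of (hO := hO) rfl hTX2 hTXX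
  -- `[C₁, TX] ≤ Q`
  have hcomm : ∀ t ∈ TX, ∀ c ∈ C₁, c * t * c⁻¹ * t⁻¹ ∈ Q := fun t ht c hc => hOQ ((hTXX ht).2 c hc)
  have hcomm' : ∀ t ∈ TX, ∀ c ∈ C₁, t * c * t⁻¹ * c⁻¹ ∈ Q := fun t ht c hc => by
    have h1 := inv_mem (hcomm t ht c hc)
    have e : (c * t * c⁻¹ * t⁻¹)⁻¹ = t * c * t⁻¹ * c⁻¹ := by group
    rwa [e] at h1
  -- `TX ≤ N(Q)`
  have hTXQ : TX ≤ normalizer (Q : Set G) := le_nor_of fun t ht q hq => by
    have h1 := hcomm' t ht q (hQC hq)
    have e : t * q * t⁻¹ = (t * q * t⁻¹ * q⁻¹) * q := by group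
    rw [e]
    exact mul_mem h1 hq
  -- `TX ≤ N(R)`
  have hTXR : TX ≤ normalizer (R : Set G) := by
    by_cases hle : TX ≤ Q
    · exact hle.trans (hQC.trans ((centralizer_le hRV).trans (centralizer_le_normalizer _)))
    obtain ⟨z, hz, hzQ, hzf⟩ := NLFree.exists_fix_mod (S := TX) (M := TX ⊓ Q) (Q := TX) hTX2 inf_le_left le_rfl
      (Half.le_normalizer_inf le_normalizer hTXQ) le_normalizer (fun h => hle (h.trans inf_le_right))
    have hzQ' : z ∉ Q := fun h => hzQ ⟨hz, h⟩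
    have hzC : z ∈ CL M := by
      refine ⟨hTXQ hz, fun l x hx => ?_⟩
      by_cases h : l = i
      · subst h
        have h1 := inv_mem (mem_inf.1 (hzf x (hQLTX hx))).2
        have e : (x * z * x⁻¹ * z⁻¹)⁻¹ = z * x * z⁻¹ * x⁻¹ := by group
        rwa [e] at h1
      · exact hcomm' z hz x (hQLC l h hx)
    have hzS : z ∈ SLQ M := Up.mem_SLQ M hC hup (hTX2.to_le (zpowers_le.2 hz)) (zpowers_le.2 hzC) (mem_zpowers z)
    obtain ⟨hzst, b, hb⟩ := Up.up_of_comm M hC hup (SLQ_le_S M hC hzS) (hzC.2 i)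
    have hzV : ∀ v ∈ V₁, z * v * z⁻¹ ∈ V₁ := fun v hv => (mem_normalizer_iff.1 (hTXN hz) v).1 hv
    have hb0 : b ≠ 0 := by
      rintro rfl
      apply hzQ'
      apply hOQ
      apply hTXC
      refine ⟨hz, mem_centralizer_iff.2 fun v hv => ?_⟩
      have h1 : z * v * z⁻¹ = v := by
        refine ext_fac M.toNatV (hzV v hv) hv ?_
        rw [hb v hv, up_zero, ap_one]
      exact (mul_inv_eq_iff_eq_mul.1 h1).symm
    refine le_nor_of fun t ht r hr => ?_
    have hrV := hRV hr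
    have htr : t * r * t⁻¹ ∈ V₁ := (mem_normalizer_iff.1 (hTXN ht) r).1 hrV
    have hzr : z * r * z⁻¹ = r := by
      refine ext_fac M.toNatV (hzV r hrV) hrV ?_
      rw [hb r hrV]
      apply NatPair.ext2
      · rw [NatPair.ap_zero', up_00, up_01, ((mem_line M.toNatV).1 hr).2]
        simp
      · rw [NatPair.ap_one', up_10, up_11]
        simp
    have hq := (mem_inf.1 (hzf t ht)).2
    have h1 : z * (t * r * t⁻¹) * z⁻¹ = t * r * t⁻¹ := by
      have h2 := o2P_comm M hq (hVz (hzV _ htr))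
      have h3 : t * (z * r * z⁻¹) * t⁻¹ =
          (t * z * t⁻¹ * z⁻¹) * (z * (t * r * t⁻¹) * z⁻¹) * (t * z * t⁻¹ * z⁻¹)⁻¹ := by group
      rw [h2, hzr] at h3
      calc z * (t * r * t⁻¹) * z⁻¹
          = z * (t * r * t⁻¹) * z⁻¹ * (t * z * t⁻¹ * z⁻¹) * (t * z * t⁻¹ * z⁻¹)⁻¹ := by group
        _ = t * r * t⁻¹ := h3.symm
    rw [hR, mem_line]
    refine ⟨htr, ?_⟩
    have h4 := hb _ htr
    rw [h1] at h4
    have h5 := congrFun h4 0
    rw [NatPair.ap_zero', up_00, up_01] at h5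
    have h6 : b * M.e (t * r * t⁻¹) i 1 = 0 := by linear_combination -h5
    exact (mul_eq_zero.1 h6).resolve_left hb0
  -- `TX ≤ T`
  have hTXT : TX ≤ T := by
    have h1 : TX ≤ GF M := by
      intro t ht
      rw [mem_GF]
      refine ⟨hTXQ ht, fun l => ?_⟩
      by_cases h : l = i
      · subst h
        exact le_normalizer_sup' (hTXR.trans (nor_line_le M _)) hTXQ ht
      · refine le_nor_of (K := TX) (fun t ht x hx => ?_) ht
        have hx' : x ∈ C₁ := (sup_le (hQLC l h) hQC) hx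
        have e : t * x * t⁻¹ = (t * x * t⁻¹ * x⁻¹) * x := by group
        rw [e]
        exact mul_mem (mem_sup_right (hcomm' t ht x hx')) hx
    have h2 : GF M ⊓ (S : Subgroup G) ≤ T := Up.inf_GF_le M hC hup
    have h3 : ¬ 2 ∣ (GF M ⊓ (S : Subgroup G)).relIndex (GF M) :=
      TwoPlus.not_dvd_inf (H := GF M ⊔ (S : Subgroup G)) le_sup_right
        (MinSimple.Basic.not_dvd_relIndex S le_sup_right) le_sup_left (sup_le le_normalizer (S_normalizes_GF M))
    have h4 : IsPGroup 2 ↥(TX ⊔ GF M ⊓ (S : Subgroup G)) :=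
      hTX2.to_sup_of_normal_left' (hT2.to_le h2) (h2.trans hTTX)
    exact (le_sup_left.trans (two_le_of h4 le_sup_right (sup_le h1 inf_le_left) h3)).trans h2
  exact ⟨hTXT, hTXs, hQLX⟩

omit hC hup [Finite F] [CharP F 2] in
/-- `up b` on `V₁`, in terms of `pre` -/
theorem ind_pre {i : Fin k} {x : G} {A : Matrix.SpecialLinearGroup (Fin 2) F}
    (hxn : ∀ v ∈ fac M.toNatV i, x * v * x⁻¹ ∈ fac M.toNatV i)
    (h : ∀ v ∈ fac M.toNatV i, M.e (x * v * x⁻¹) i = ap A (M.e v i)) : (pre M.toNatV i).Ind x A := by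
  intro y
  refine ext_fac M.toNatV (hxn _ ((pre M.toNatV i).e_mem y)) ((pre M.toNatV i).e_mem _) ?_
  rw [h _ ((pre M.toNatV i).e_mem y), pre_e, pre_e]

omit hC hup [Finite F] [CharP F 2] in
theorem pre_ind {i : Fin k} {x : G} {A : Matrix.SpecialLinearGroup (Fin 2) F} (h : (pre M.toNatV i).Ind x A) :
    ∀ v ∈ fac M.toNatV i, M.e (x * v * x⁻¹) i = ap A (M.e v i) := by
  intro v hv
  obtain ⟨y, rfl⟩ := ((pre M.toNatV i).mem_iff v).1 hv
  rw [h y, pre_e, pre_e]

/-- `X` induces `SL₂(F)` on `V₁` -/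
theorem lift_XB {i : Fin k} (hQLX : QL M i ≤ XB M i) (A : Matrix.SpecialLinearGroup (Fin 2) F) :
    ∃ g ∈ XB M i, (pre M.toNatV i).Ind g A := by
  have hXn : normalizer (fac M.toNatV i : Set G) ≤ normalizer (XB M i : Set G) := N_le_nor (NLFree.le_normalizer_cent le_rfl)
  have hup' : ∀ b : F, ∃ g ∈ XB M i, (pre M.toNatV i).Ind g (up b) := by
    intro b
    obtain ⟨x, hx, hxb⟩ := hup i b
    exact ⟨x, hQLX hx, ind_pre M (fun v hv =>
      (mem_normalizer_iff.1 (stab_normalizes _ i (QL_le_stab M hC i hx)) v).1 hv) hxb⟩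
  have hlo : ∀ b : F, ∃ g ∈ XB M i, (pre M.toNatV i).Ind g (lo b) := by
    intro b
    obtain ⟨x, hx, hxb⟩ := hup' (-b)
    obtain ⟨w, hw, hwA⟩ := exists_lift M.toNatV i (wm 1 one_ne_zero)
    have hw' : (pre M.toNatV i).Ind w (wm 1 one_ne_zero) := ind_pre M (fun v hv => grp_conj_fac hw hv) fun v hv =>
      hwA v hv.1
    refine ⟨w * x * w⁻¹, (mem_normalizer_iff.1 (hXn (grp_normalizes M.toNatV {i} {i} hw)) x).1 hx, ?_⟩
    have h1 := (hw'.mul _ hxb).mul _ (hw'.inv _)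
    have e : wm (1 : F) one_ne_zero * up (-b) * (wm 1 one_ne_zero)⁻¹ = lo b := by
      rw [wm_up, mul_inv_cancel_right]
      congr 1
      simp
    rwa [e] at h1
  obtain ⟨a, b, c, d, rfl⟩ := exists_up_lo A
  obtain ⟨x₁, h1, h1'⟩ := hup' a
  obtain ⟨x₂, h2, h2'⟩ := hlo b
  obtain ⟨x₃, h3, h3'⟩ := hup' c
  obtain ⟨x₄, h4, h4'⟩ := hlo d
  exact ⟨x₁ * x₂ * x₃ * x₄, mul_mem (mul_mem (mul_mem h1 h2) h3) h4, ((h1'.mul _ h2').mul _ h3').mul _ h4'⟩

omit hC hup in
theorem cent_mem_XB {i : Fin k} {c : G} (hc : c ∈ o2 (centralizer (fac M.toNatV i : Set G))) : c ∈ XB M i := by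
  have hcC := ZN.o2_le _ hc
  refine ⟨centralizer_le_normalizer _ hcC, fun x hx => ?_⟩
  exact mul_mem ((mem_normalizer_iff.1 (ZN.le_normalizer_o2 _ hx) c).1 hc) (inv_mem hc)

/-- If `X` normalises the `SL₂(F)` on `V₁` then `QL M i ≤ O₂(C_X(r))`. -/
theorem QL_le_o2_of_norm {i : Fin k} (hQLX : QL M i ≤ XB M i) {r : G} (hr : r ∈ line M.toNatV i) (hr1 : r ≠ 1)
    (hn : ∀ g ∈ XB M i, ∀ h ∈ XB M i, ∀ A, (pre M.toNatV i).Ind h A → ∃ B, (pre M.toNatV i).Ind (g * h * g⁻¹) B) :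
    QL M i ≤ o2 (XB M i ⊓ centralizer ({r} : Set G)) := by
  set V₁ : Subgroup G := fac M.toNatV i with hV₁
  set C₁ : Subgroup G := centralizer (V₁ : Set G) with hC₁
  set X : Subgroup G := XB M i with hX
  set H : Subgroup G := centralizer ({r} : Set G) with hH
  have hRV : line M.toNatV i ≤ V₁ := line_le _ _
  have hXN : X ≤ normalizer (V₁ : Set G) := cenMod_le
  have hrV : r ∈ V₁ := hRV hr
  have hr0 : M.e r i 0 ≠ 0 := by
    intro h
    apply hr1
    refine ext_fac M.toNatV hrV (one_mem _) ?_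
    rw [e_one]
    exact NatPair.ext2 h ((mem_line M.toNatV).1 hr).2
  have hQLH : QL M i ≤ H := fun x hx => mem_centralizer_singleton_iff.2
    (mem_centralizer_iff.1 (o2_cent_line' M i hx) r hr).symm
  have hQLind : ∀ x ∈ QL M i, ∃ b : F, (pre M.toNatV i).Ind x (up b) := by
    intro x hx
    obtain ⟨b, hb⟩ := o2_up_big M hC hx
    exact ⟨b, ind_pre M (fun v hv =>
      (mem_normalizer_iff.1 (stab_normalizes _ i (QL_le_stab M hC i hx)) v).1 hv) hb⟩
  let Y : Subgroup G :=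
    { carrier := {x | x ∈ X ⊓ H ∧ ∃ b : F, (pre M.toNatV i).Ind x (up b)}
      one_mem' := ⟨one_mem _, 0, by rw [up_zero]; exact (pre M.toNatV i).ind_one⟩
      mul_mem' := by
        rintro x y ⟨h1, b, hb⟩ ⟨h2, c, hc⟩
        refine ⟨mul_mem h1 h2, b + c, ?_⟩
        rw [← up_mul]
        exact hb.mul _ hc
      inv_mem' := by
        rintro x ⟨h1, b, hb⟩
        refine ⟨inv_mem h1, -b, ?_⟩
        rw [← up_inv]
        exact hb.inv _ }
  have hYXH : Y ≤ X ⊓ H := fun y hy => hy.1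
  have hYn : X ⊓ H ≤ normalizer (Y : Set G) := by
    refine le_nor_of ?_
    rintro g hg x ⟨hx, b, hb⟩
    refine ⟨mul_mem (mul_mem hg hx) (inv_mem hg), ?_⟩
    obtain ⟨B, hB⟩ := hn g hg.1 x hx.1 _ hb
    have hgr : g * r * g⁻¹ = r := mul_inv_eq_iff_eq_mul.2 (mem_centralizer_singleton_iff.1 hg.2)
    have hxr : x * r * x⁻¹ = r := mul_inv_eq_iff_eq_mul.2 (mem_centralizer_singleton_iff.1 hx.2)
    have h1 : g * x * g⁻¹ * r * (g * x * g⁻¹)⁻¹ = r := by
      have hgr' : g⁻¹ * r * g = r := by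
        conv_lhs => rw [← hgr]
        group
      calc g * x * g⁻¹ * r * (g * x * g⁻¹)⁻¹ = g * (x * (g⁻¹ * r * g) * x⁻¹) * g⁻¹ := by group
        _ = r := by rw [hgr', hxr, hgr]
    have h2 := pre_ind M hB r hrV
    rw [h1] at h2
    have h3 := congrFun h2 0
    have h4 := congrFun h2 1
    rw [NatPair.ap_zero', ((mem_line M.toNatV).1 hr).2, mul_zero, add_zero] at h3
    rw [NatPair.ap_one', ((mem_line M.toNatV).1 hr).2, mul_zero, add_zero] at h4
    have h00 : ent B 0 0 = 1 := by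
      have : (ent B 0 0 - 1) * M.e r i 0 = 0 := by linear_combination -h3
      exact sub_eq_zero.1 ((mul_eq_zero.1 this).resolve_right hr0)
    have h10 : ent B 1 0 = 0 := (mul_eq_zero.1 h4.symm).resolve_right hr0
    have h11 : ent B 1 1 = 1 := by
      have := det_eq B
      rw [h00, h10] at this
      linear_combination this
    refine ⟨ent B 0 1, ?_⟩
    have e : B = up (ent B 0 1) := ext_ent (by rw [h00, up_00]) (by rw [up_01]) (by rw [h10, up_10])
      (by rw [h11, up_11])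
    rw [← e]
    exact hB
  have hQLY : QL M i ≤ Y := fun x hx => ⟨⟨hQLX hx, hQLH hx⟩, hQLind x hx⟩
  have hOY : o2 C₁ ≤ Y := by
    intro c hc
    have hcC := ZN.o2_le _ hc
    refine ⟨⟨cent_mem_XB M hc, mem_centralizer_singleton_iff.2 (mem_centralizer_iff.1 hcC r hrV).symm⟩, 0, ?_⟩
    rw [up_zero]
    intro x
    rw [ap_one, ← mem_centralizer_iff.1 hcC _ ((pre M.toNatV i).e_mem x), mul_inv_cancel_right]
  have hYO : Y ≤ normalizer (o2 C₁ : Set G) := (hYXH.trans (inf_le_left.trans hXN)).trans (nor_le_o2C M i)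
  set W : Subgroup G := QL M i ⊔ o2 C₁ with hW
  have hW2 : IsPGroup 2 W := (QL_two M i).to_sup_of_normal_right' (o2_isPGroup _) (hQLY.trans hYO)
  have hYW : Y ≤ normalizer (W : Set G) := by
    intro y hy
    obtain ⟨b, hb⟩ := hy.2
    obtain ⟨x, hx, hxb⟩ := hup i b
    have hxi : (pre M.toNatV i).Ind x (up b) := ind_pre M (fun v hv =>
      (mem_normalizer_iff.1 (stab_normalizes _ i (QL_le_stab M hC i hx)) v).1 hv) hxb
    have hcY : x⁻¹ * y ∈ Y := mul_mem (inv_mem (hQLY hx)) hy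
    have hcC : x⁻¹ * y ∈ C₁ := by
      have h1 := (hxi.inv _).mul _ hb
      rw [inv_mul_cancel] at h1
      refine mem_centralizer_iff.2 fun v hv => ?_
      obtain ⟨z, rfl⟩ := ((pre M.toNatV i).mem_iff v).1 hv
      have h2 := h1 z
      rw [ap_one] at h2
      exact (mul_inv_eq_iff_eq_mul.1 h2).symm
    have hcW : x⁻¹ * y ∈ normalizer (W : Set G) := by
      have hK : C₁ ≤ normalizer (W : Set G) := by
        refine le_nor_of fun c hc w hw => ?_
        have hmap : cj c W ≤ W := by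
          change Subgroup.map _ _ ≤ _
          rw [hW, Subgroup.map_sup]
          refine sup_le ?_ ?_
          · rintro _ ⟨x', hx', rfl⟩
            change c * x' * c⁻¹ ∈ _
            have h5 : c * x' * c⁻¹ * x'⁻¹ ∈ o2 C₁ := (hQLX hx').2 c hc
            have e : c * x' * c⁻¹ = (c * x' * c⁻¹ * x'⁻¹) * x' := by group
            rw [e]
            exact mul_mem (mem_sup_right h5) (mem_sup_left hx')
          · change cj c (o2 C₁) ≤ _
            rw [cj_eq_of_mem_normalizer (ZN.le_normalizer_o2 _ hc)]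
            exact le_sup_right
        exact hmap ⟨w, hw, rfl⟩
      exact hK hcC
    have hxW : x ∈ normalizer (W : Set G) := le_normalizer (mem_sup_left hx)
    have := mul_mem hxW hcW
    rwa [mul_inv_cancel_left] at this
  have h1 : W ≤ o2 Y := VModule.le_o2 (sup_le hQLY hOY) hW2 hYW
  have h2 : o2 Y ≤ o2 (X ⊓ H) := VModule.le_o2 ((ZN.o2_le _).trans hYXH) (o2_isPGroup _)
    (hYn.trans (ZN.normalizer_le_normalizer_o2 _))
  exact le_sup_left.trans (h1.trans h2)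

omit hC hup [Finite F] [CharP F 2] in
/-- four elements -/
theorem four_eq {R : Subgroup G} (h4 : Nat.card R = 4) (hsq : ∀ x ∈ R, x * x = 1) {r a y : G} (hr : r ∈ R)
    (hr1 : r ≠ 1) (ha : a ∈ R) (ha1 : a ≠ 1) (har : a ≠ r) (hy : y ∈ R) (hy1 : y ≠ 1) (hyr : y ≠ r) :
    y = a ∨ y = r * a := by
  by_contra hcon
  rw [not_or] at hcon
  have hsub : ({1, r, a, r * a, y} : Set G) ⊆ (R : Set G) := by
    rintro x (rfl | rfl | rfl | rfl | rfl)
    · exact one_mem _
    · exact hr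
    · exact ha
    · exact mul_mem hr ha
    · exact hy
  have hfin : (R : Set G).Finite := Set.toFinite _
  have h1 := Set.ncard_le_ncard hsub hfin
  have h2 : (R : Set G).ncard = 4 := h4
  have hra1 : r * a ≠ 1 := by
    intro h
    apply har
    have h3 := hsq r hr
    exact mul_left_cancel (h.trans h3.symm)
  have h5 : ({1, r, a, r * a, y} : Set G).ncard = 5 := by
    have e1 : (1 : G) ∉ ({r, a, r * a, y} : Set G) := by
      simp only [Set.mem_insert_iff, Set.mem_singleton_iff, not_or]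
      exact ⟨hr1.symm, ha1.symm, hra1.symm, hy1.symm⟩
    have e2 : r ∉ ({a, r * a, y} : Set G) := by
      simp only [Set.mem_insert_iff, Set.mem_singleton_iff, not_or]
      refine ⟨har.symm, fun h => ha1 ?_, hyr.symm⟩
      exact (left_eq_mul.1 h)
    have e3 : a ∉ ({r * a, y} : Set G) := by
      simp only [Set.mem_insert_iff, Set.mem_singleton_iff, not_or]
      refine ⟨fun h => hr1 ?_, fun h => hcon.1 h.symm⟩
      exact (right_eq_mul.1 h)
    have e4 : r * a ∉ ({y} : Set G) := by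
      simp only [Set.mem_singleton_iff]
      exact fun h => hcon.2 h.symm
    rw [Set.ncard_insert_of_notMem e1 (Set.toFinite _), Set.ncard_insert_of_notMem e2 (Set.toFinite _),
      Set.ncard_insert_of_notMem e3 (Set.toFinite _), Set.ncard_insert_of_notMem e4 (Set.toFinite _),
      Set.ncard_singleton]
  omega

/-- a 2-element `t ∈ C_G(R)` which normalises `X ∩ U` acts on `V₁` as some `up b`, if there are no transvections -/
theorem up_of_tvfree {i : Fin k} (hF : Nat.card F = 4) {TX : Subgroup G} (hTXT : TX ≤ stab M.toNatV i)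
    (hQLTX : QL M i ≤ TX) {N : Subgroup G} (htv : ∀ g ∈ N, ∀ c, ¬ NatPair.PreMod.Tv (fac M.toNatV i) c g)
    (hTXN : TX ≤ N) {t : G} (htN : t ∈ N) (htV : t ∈ normalizer (fac M.toNatV i : Set G))
    (ht2 : ∃ n : ℕ, t ^ 2 ^ n = 1) (htX : t ∈ normalizer (TX : Set G))
    (htR : ∀ r ∈ line M.toNatV i, t * r * t⁻¹ = r) : ∃ b : F, (pre M.toNatV i).Ind t (up b) := by
  have hfact : Fact (Nat.Prime 2) := ⟨Nat.prime_two⟩
  set V₁ : Subgroup G := fac M.toNatV i with hV₁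
  set R : Subgroup G := line M.toNatV i with hR
  have hRV : R ≤ V₁ := line_le _ _
  have htv' : ∀ v ∈ V₁, t * v * t⁻¹ ∈ V₁ := fun v hv => (mem_normalizer_iff.1 htV v).1 hv
  -- the commutators
  have hcoord : ∀ {x v : G} {b : F}, (∀ v ∈ V₁, x * v * x⁻¹ ∈ V₁) →
      (∀ v ∈ V₁, M.e (x * v * x⁻¹) i = ap (up b) (M.e v i)) → v ∈ V₁ → M.e (x * v * x⁻¹ * v⁻¹) i = ![b * M.e v i 1, 0] := by
    intro x v b hxn hxb hv
    rw [M.mul _ (hxn v hv).1 _ (inv_mem hv.1), e_inv M.toNatV hv.1, Pi.add_apply, Pi.neg_apply, hxb v hv]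
    apply NatPair.ext2
    · rw [Pi.add_apply, NatPair.ap_zero', up_00, up_01]
      simp
    · rw [Pi.add_apply, NatPair.ap_one', up_10, up_11]
      simp
  obtain ⟨u, hu, hue⟩ := exists_fac M.toNatV i ![0, 1]
  -- `t` acts on `V₁ / R` as a scalar
  obtain ⟨x, hx, hxb⟩ := hup i 1
  have hxn : ∀ v ∈ V₁, x * v * x⁻¹ ∈ V₁ := fun v hv =>
    (mem_normalizer_iff.1 (stab_normalizes _ i (QL_le_stab M hC i hx)) v).1 hv
  have hx' : t * x * t⁻¹ ∈ TX := (mem_normalizer_iff.1 htX x).1 (hQLTX hx)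
  have hxst : t * x * t⁻¹ ∈ stab M.toNatV i := hTXT hx'
  have htR' : ∀ r ∈ R, t⁻¹ * r * t = r := fun r hr => by
    conv_lhs => rw [← htR r hr]
    group
  have hxR : ∀ r ∈ R, t * x * t⁻¹ * r * (t * x * t⁻¹)⁻¹ = r := by
    intro r hr
    have h1 : x * r * x⁻¹ = r := by
      rw [← mem_centralizer_iff.1 (o2_cent_line' M i hx) r hr, mul_inv_cancel_right]
    calc t * x * t⁻¹ * r * (t * x * t⁻¹)⁻¹ = t * (x * (t⁻¹ * r * t) * x⁻¹) * t⁻¹ := by group
      _ = r := by rw [htR' r hr, h1, htR r hr]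
  obtain ⟨b', hb'⟩ : ∃ b' : F, ∀ v ∈ V₁, M.e (t * x * t⁻¹ * v * (t * x * t⁻¹)⁻¹) i = ap (up b') (M.e v i) := by
    refine exists_up (SP M (stab_le _ _ hxst)) hxR fun v hv => ?_
    obtain ⟨n, hn⟩ := S.isPGroup' ⟨_, stab_le _ _ hxst⟩
    exact comm_line M.toNatV (SP M) hxst ⟨n, congrArg Subtype.val hn⟩
      (fun r hr => mul_inv_eq_iff_eq_mul.1 (hxR r hr)) hv
  have hx'n : ∀ v ∈ V₁, t * x * t⁻¹ * v * (t * x * t⁻¹)⁻¹ ∈ V₁ := fun v hv =>
    (mem_normalizer_iff.1 (stab_normalizes _ i hxst) v).1 hv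
  have hkey : ∀ v ∈ V₁, M.e v i 1 = b' * M.e (t * v * t⁻¹) i 1 := by
    intro v hv
    have h1 := hcoord hxn hxb hv
    have h2 : x * v * x⁻¹ * v⁻¹ ∈ R := by
      rw [hR, mem_line]
      exact ⟨mul_mem (hxn v hv) (inv_mem hv), by rw [h1]; rfl⟩
    have h3 := htR _ h2
    have e : t * (x * v * x⁻¹ * v⁻¹) * t⁻¹ =
        t * x * t⁻¹ * (t * v * t⁻¹) * (t * x * t⁻¹)⁻¹ * (t * v * t⁻¹)⁻¹ := by group
    have h4 := hcoord hx'n hb' (htv' v hv)
    rw [← e, h3, h1] at h4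
    have := congrFun h4 0
    simpa using this
  have hb0 : b' ≠ 0 := by
    intro h0
    have := hkey u hu
    rw [hue, h0] at this
    simp at this
  have hsc : ∀ v ∈ V₁, M.e (t * v * t⁻¹) i 1 = b'⁻¹ * M.e v i 1 := fun v hv => by
    rw [hkey v hv, inv_mul_cancel_left₀ hb0]
  have hpow : ∀ n : ℕ, ∀ v ∈ V₁, t ^ n * v * (t ^ n)⁻¹ ∈ V₁ ∧ M.e (t ^ n * v * (t ^ n)⁻¹) i 1 = b'⁻¹ ^ n * M.e v i 1 := by
    intro n
    induction n with
    | zero => intro v hv; simpa using hv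
    | succ n ih =>
      intro v hv
      obtain ⟨h5, h6⟩ := ih v hv
      have e : t ^ (n + 1) * v * (t ^ (n + 1))⁻¹ = t * (t ^ n * v * (t ^ n)⁻¹) * t⁻¹ := by
        rw [pow_succ']; group
      rw [e]
      exact ⟨htv' _ h5, by rw [hsc _ h5, h6]; ring⟩
  have hb1 : b'⁻¹ = 1 := by
    obtain ⟨n, hn⟩ := ht2
    have h5 := (hpow (2 ^ n) u hu).2
    rw [hn, hue] at h5
    have e : (1 : G) * u * 1⁻¹ = u := by group
    rw [e, hue] at h5
    have h5' : b'⁻¹ ^ 2 ^ n = 1 := by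
      have h7 : b'⁻¹ ^ 2 ^ n * (1 : F) = 1 := h5.symm
      rwa [mul_one] at h7
    have h6 : (b'⁻¹ - 1) ^ 2 ^ n = 0 := by
      rw [sub_pow_char_pow, one_pow, h5', sub_self]
    exact sub_eq_zero.1 ((pow_eq_zero_iff (by positivity)).1 h6)
  have hsc' : ∀ v ∈ V₁, M.e (t * v * t⁻¹) i 1 = M.e v i 1 := fun v hv => by rw [hsc v hv, hb1, one_mul]
  -- correct by an element of `QL M i`
  obtain ⟨y, hy, hyb⟩ := hup i (M.e (t * u * t⁻¹) i 0)
  have hyn : ∀ v ∈ V₁, y * v * y⁻¹ ∈ V₁ := fun v hv =>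
    (mem_normalizer_iff.1 (stab_normalizes _ i (QL_le_stab M hC i hy)) v).1 hv
  have hyi : (pre M.toNatV i).Ind y (up (M.e (t * u * t⁻¹) i 0)) := ind_pre M hyn hyb
  have hyu : y * u * y⁻¹ = t * u * t⁻¹ := by
    refine ext_fac M.toNatV (hyn u hu) (htv' u hu) ?_
    rw [hyb u hu]
    apply NatPair.ext2
    · rw [NatPair.ap_zero', up_00, up_01, hue]
      simp
    · rw [NatPair.ap_one', up_10, up_11, hue, hsc' u hu, hue]
      simp
  set s := y⁻¹ * t with hs
  have hsu : s * u * s⁻¹ = u := by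
    calc s * u * s⁻¹ = y⁻¹ * (t * u * t⁻¹) * y := by rw [hs]; group
      _ = u := by rw [← hyu]; group
  have hyR : ∀ r ∈ R, y⁻¹ * r * y = r := by
    intro r hr
    have h1 := mem_centralizer_iff.1 (o2_cent_line' M i hy) r hr
    calc y⁻¹ * r * y = y⁻¹ * (r * y) := by group
      _ = y⁻¹ * (y * r) := by rw [h1]
      _ = r := by group
  have hsR : ∀ r ∈ R, s * r * s⁻¹ = r := by
    intro r hr
    calc s * r * s⁻¹ = y⁻¹ * (t * r * t⁻¹) * y := by rw [hs]; group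
      _ = r := by rw [htR r hr, hyR r hr]
  have hyst := QL_le_stab M hC i hy
  have hsV : s ∈ normalizer (V₁ : Set G) := mul_mem (inv_mem (stab_normalizes _ i hyst)) htV
  have hsN : s ∈ N := mul_mem (inv_mem (hTXN (hQLTX hy))) htN
  -- `C_{V₁}(s)`
  set Cs : Subgroup G := V₁ ⊓ centralizer ({s} : Set G) with hCs
  have hmemCs : ∀ {v : G}, v ∈ V₁ → s * v * s⁻¹ = v → v ∈ Cs := fun hv h =>
    ⟨hv, mem_centralizer_singleton_iff.2 (mul_inv_eq_iff_eq_mul.1 h).symm⟩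
  have hCs' : ∀ v ∈ Cs, s * v * s⁻¹ = v := fun v hv =>
    mul_inv_eq_iff_eq_mul.2 (mem_centralizer_singleton_iff.1 hv.2).symm
  have hRC : R ≤ Cs := fun r hr => hmemCs (hRV hr) (hsR r hr)
  have huC : u ∈ Cs := hmemCs hu hsu
  have huR : u ∉ R := fun h => by
    have := ((mem_line M.toNatV).1 h).2
    rw [hue] at this
    simp at this
  by_cases hall : V₁ ≤ Cs
  · refine ⟨M.e (t * u * t⁻¹) i 0, ?_⟩
    have h1 : (pre M.toNatV i).Ind s 1 := fun x => by
      rw [ap_one, hCs' _ (hall ((pre M.toNatV i).e_mem x))]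
    have h2 := hyi.mul _ h1
    rw [mul_one] at h2
    rwa [hs, mul_inv_cancel_left] at h2
  · exfalso
    have hcR : Nat.card R = 4 := by rw [hR, card_line, hF]
    have hcV : Nat.card V₁ = 16 := by rw [hV₁, card_fac, hF]; norm_num
    have hlt1 : R < Cs := lt_of_le_of_ne hRC fun h => huR (by rw [h]; exact huC)
    have hcard1 : Nat.card R < Nat.card Cs := by
      refine lt_of_le_of_ne (Subgroup.card_le_of_le hRC) fun h => hlt1.ne ?_
      exact Subgroup.eq_of_le_of_card_ge hRC h.ge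
    have hCsV : Cs ≤ V₁ := inf_le_left
    have hrel : Nat.card Cs * Cs.relIndex V₁ = Nat.card V₁ := by
      have := Subgroup.relIndex_mul_relIndex ⊥ Cs V₁ bot_le hCsV
      rwa [Subgroup.relIndex_bot_left, Subgroup.relIndex_bot_left] at this
    have hd4 : Nat.card R ∣ Nat.card Cs := Subgroup.card_dvd_of_le hRC
    have hrel2 : Cs.relIndex V₁ = 2 := by
      have hne1 : Cs.relIndex V₁ ≠ 1 := fun h => hall (Subgroup.relIndex_eq_one.1 h)
      rw [hcV] at hrel
      rw [hcR] at hcard1 hd4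
      obtain ⟨m, hm⟩ := hd4
      rw [hm] at hrel hcard1
      have hm2 : 2 ≤ m := by omega
      have h5 : m * Cs.relIndex V₁ = 4 := by nlinarith
      have h6 : Cs.relIndex V₁ ≤ 2 := by
        by_contra h7
        push Not at h7
        nlinarith
      have h7 : Cs.relIndex V₁ ≠ 0 := by
        intro h0
        rw [h0] at h5
        omega
      omega
    obtain ⟨v₀, hv₀, hv₀C⟩ := SetLike.not_le_iff_exists.1 hall
    have hsv₀ : s * v₀ * s⁻¹ ∈ V₁ := (mem_normalizer_iff.1 hsV v₀).1 hv₀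
    have hcomm : ∀ a ∈ V₁, ∀ b ∈ V₁, a * b = b * a := fun a ha b hb => NV.comm M.toNatV ha.1 hb.1
    refine htv s hsN (v₀⁻¹ * (s * v₀ * s⁻¹)) ⟨mul_mem (inv_mem hv₀) hsv₀, fun h => hv₀C ?_, hsV, fun v hv => ?_,
      v₀, hv₀, fun h => hv₀C (hmemCs hv₀ h)⟩
    · exact hmemCs hv₀ (inv_mul_eq_one.1 h).symm
    · by_cases hvC : v ∈ Cs
      · exact Or.inl (hCs' v hvC)
      · right
        have h3 := Subgroup.mul_mem_iff_of_index_two (H := Cs.subgroupOf V₁) hrel2 (a := ⟨v, hv⟩)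
          (b := ⟨v₀⁻¹, inv_mem hv₀⟩)
        rw [mem_subgroupOf, mem_subgroupOf, mem_subgroupOf] at h3
        have h4 : v * v₀⁻¹ ∈ Cs := h3.2 ⟨fun h => absurd h hvC, fun h => absurd (by simpa using inv_mem h) hv₀C⟩
        have h5 := hCs' _ h4
        calc s * v * s⁻¹ = (s * (v * v₀⁻¹) * s⁻¹) * (s * v₀ * s⁻¹) := by group
          _ = v * v₀⁻¹ * (s * v₀ * s⁻¹) := by rw [h5]
          _ = v * (v₀⁻¹ * (s * v₀ * s⁻¹)) := by group

/-- **A 2-group `U₀`, `stab M i ≤ U₀ ≤ N_G(V₁) ∩ N_G(R)`, acts semilinearly on `V₁`.** -/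
theorem nm_mix {i : Fin k} {U₀ : Subgroup G} (hU₀2 : IsPGroup 2 U₀) (hTU₀ : stab M.toNatV i ≤ U₀)
    (hU₀V : U₀ ≤ normalizer (fac M.toNatV i : Set G)) (hU₀R : U₀ ≤ normalizer (line M.toNatV i : Set G)) :
    ∀ t ∈ U₀, (pre M.toNatV i).Nm t := by
  have hfact : Fact (Nat.Prime 2) := ⟨Nat.prime_two⟩
  set V₁ : Subgroup G := fac M.toNatV i with hV₁
  set R : Subgroup G := line M.toNatV i with hR
  set T : Subgroup G := stab M.toNatV i with hT
  set N₁ : Subgroup G := normalizer (V₁ : Set G) with hN₁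
  set C₁ : Subgroup G := centralizer (V₁ : Set G) with hC₁
  have hRV : R ≤ V₁ := line_le _ _
  have hT2 : IsPGroup 2 T := S.isPGroup'.to_le (stab_le _ _)
  have hTN : T ≤ N₁ := stab_normalizes _ i
  have hQLT : QL M i ≤ T := QL_le_stab M hC i
  have hNC : N₁ ≤ normalizer (C₁ : Set G) := NLFree.le_normalizer_cent le_rfl
  obtain ⟨U, hU₀U, hUN, hU2, hUs⟩ := Half.exists_sylow_le hU₀2 hU₀V
  obtain ⟨hTXT, hTXs, hQLX⟩ := xframe M hC hup hU2 (hTU₀.trans hU₀U) hUN hUs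
  set X : Subgroup G := XB M i with hX
  have hXN : X ≤ N₁ := cenMod_le
  have hNX : N₁ ≤ normalizer (X : Set G) := N_le_nor hNC
  set TX : Subgroup G := X ⊓ U with hTX
  have hTX2 : IsPGroup 2 TX := hU2.to_le inf_le_right
  have hTXX : TX ≤ X := inf_le_left
  have hTXN : TX ≤ N₁ := hTXX.trans hXN
  have hQLTX : QL M i ≤ TX := le_inf hQLX (hQLT.trans (hTU₀.trans hU₀U))
  -- `r`
  have hR2 : IsPGroup 2 R := (S.isPGroup'.to_le (V_le_S M)).to_le (hRV.trans (fac_le _ _))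
  obtain ⟨r, hr, hr1, hrc⟩ := Half.exists_fixed hR2 (line_ne_bot' (M := M.toNatV) i) hU₀2 hU₀R
  have hrf : r ∈ V₁ := hRV hr
  have hrS : ∀ t ∈ T, t * r = r * t := fun t ht => mul_inv_eq_iff_eq_mul.1 (hrc t (hTU₀ ht))
  set H : Subgroup G := centralizer ({r} : Set G) with hH
  have hTH : T ≤ H := fun t ht => mem_centralizer_singleton_iff.2 (hrS t ht)
  set O : Subgroup G := o2 (X ⊓ H) with hOdef
  have hOT : O ≤ T := by
    have h1 : TX ≤ X ⊓ H := le_inf hTXX (hTXT.trans hTH)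
    have h2 : ¬ 2 ∣ TX.relIndex (X ⊓ H) := fun h => hTXs (h.trans
      ⟨_, (Subgroup.relIndex_mul_relIndex TX (X ⊓ H) X h1 inf_le_left).symm⟩)
    exact (VModule.o2_le_of_sylow hTX2 h2).trans hTXT
  by_cases hcen : O ≤ centralizer (V₁ : Set G)
  swap
  · intro t ht
    refine nm_of_o2 (pre M.toNatV i) hrf hr1 (o2_isPGroup _ : IsPGroup 2 O) (hOT.trans hTN)
      (fun o ho => Nm_stab (SP M) M.toNatV i o (hOT ho)) (fun o ho => hrS o (hOT ho)) (fun n hn hnr => ?_) hcen t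
      (hU₀V ht)
    have h1 : n ∈ normalizer (H : Set G) := le_normalizer (mem_centralizer_singleton_iff.2 hnr)
    refine ZN.normalizer_le_normalizer_o2 _ ?_
    exact Half.le_normalizer_inf (K := N₁ ⊓ normalizer (H : Set G)) (inf_le_left.trans hNX) inf_le_right ⟨hn, h1⟩
  -- `O` centralises `V₁`
  have hVX : V₁ ≤ X := by
    intro v hv
    refine ⟨le_normalizer hv, fun c hc => ?_⟩
    have h1 := mem_centralizer_iff.1 hc v hv
    have e : c * v * c⁻¹ * v⁻¹ = 1 := by rw [← h1]; group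
    rw [e]
    exact one_mem _
  have hlift := lift_XB M hC hup (i := i) hQLX
  have hTXNm : ∀ t ∈ TX, (pre M.toNatV i).Nm t := fun t ht => Nm_stab (SP M) M.toNatV i t (hTXT ht)
  rcases (pre M.toNatV i).dich_subX hXN hVX hlift hTX2 hTXX hTXs hTXNm with hn | hexc
  · -- `X` normalises the `SL₂(F)`
    exfalso
    have h1 := QL_le_o2_of_norm M hC hup hQLX hr hr1 hn
    obtain ⟨x, hx, hxb⟩ := hup i 1
    obtain ⟨u, hu, hue⟩ := exists_fac M.toNatV i ![0, 1]
    have h2 := mem_centralizer_iff.1 (hcen (h1 hx)) u hu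
    have h3 := hxb u hu
    have h4 : x * u * x⁻¹ = u := by rw [← h2, mul_inv_cancel_right]
    rw [h4, hue] at h3
    have h5 := congrFun h3 0
    rw [NatPair.ap_zero', up_00, up_01] at h5
    simp at h5
  · have h4 := hexc.card
    have htv := NatPair.PreMod.tv_free (pre M.toNatV i) hXN hlift hTX2 hTXX hTXs hTXNm h4.ge hexc.fuse hNX
    have hUTX : U₀ ≤ normalizer (TX : Set G) :=
      Half.le_normalizer_inf (hU₀V.trans hNX) (hU₀U.trans le_normalizer)
    -- the elements of `U₀` which centralise `R`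
    have hstep : ∀ t ∈ U₀, (∀ r ∈ R, t * r * t⁻¹ = r) → ∃ b : F, (pre M.toNatV i).Ind t (up b) := by
      intro t ht htR
      obtain ⟨n, hn⟩ := hU₀2 ⟨t, ht⟩
      exact up_of_tvfree M hC hup h4 hTXT hQLTX htv hTXN (hU₀V ht) (hU₀V ht) ⟨n, congrArg Subtype.val hn⟩
        (hUTX ht) htR
    intro t ht
    by_cases htR : ∀ r ∈ R, t * r * t⁻¹ = r
    · obtain ⟨b, hb⟩ := hstep t ht htR
      exact PreMod.Nm.of_ind _ hb
    · -- an element of `TX` which moves `R`
      have hcR : Nat.card R = 4 := by rw [hR, card_line, h4]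
      obtain ⟨x, hx, hxR⟩ : ∃ x ∈ TX, ∃ ρ ∈ R, x * ρ * x⁻¹ ≠ ρ := by
        by_contra hcon
        push Not at hcon
        obtain ⟨w, -, -, -, h2⟩ := hexc.point
        have h3 : R ≤ V₁ ⊓ centralizer (TX : Set G) := fun ρ hρ =>
          ⟨hRV hρ, mem_centralizer_iff.2 fun x hx => mul_inv_eq_iff_eq_mul.1 (hcon x hx ρ hρ)⟩
        have h5 := Subgroup.card_le_of_le h3
        rw [h2, hcR] at h5
        omega
      have hxT : x ∈ T := hTXT hx
      have hxU : x ∈ U₀ := hTU₀ hxT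
      have hsq : ∀ x ∈ R, x * x = 1 := fun x hx => NV.sq M.toNatV (hRV hx).1
      -- a third element
      obtain ⟨a, ha, ha1, har⟩ : ∃ a ∈ R, a ≠ 1 ∧ a ≠ r := by
        by_contra hcon
        push Not at hcon
        have h5 : (R : Set G) ⊆ {1, r} := fun y hy => by
          by_cases hy1 : y = 1
          · exact Or.inl hy1
          · exact Or.inr (hcon y hy hy1)
        have h6 := Set.ncard_le_ncard h5 (Set.toFinite _)
        have h7 : (R : Set G).ncard = 4 := hcR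
        rw [Set.ncard_pair hr1.symm, h7] at h6
        omega
      -- the elements of `U₀` on `R`
      have hfa : ∀ g ∈ U₀, g * a * g⁻¹ = a ∨ g * a * g⁻¹ = r * a := by
        intro g hg
        refine four_eq hcR hsq hr hr1 ha ha1 har ((mem_normalizer_iff.1 (hU₀R hg) a).1 ha) (fun h => ha1 ?_)
          (fun h => har ?_)
        · have e : a = g⁻¹ * (g * a * g⁻¹) * g := by group
          rw [e, h]; group
        · have h5 := hrc g hg
          have e : a = g⁻¹ * (g * a * g⁻¹) * g := by group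
          rw [e, h]
          have e2 : r = g⁻¹ * (g * r * g⁻¹) * g := by group
          rw [h5] at e2
          exact e2.symm
      have hall : ∀ g ∈ U₀, g * a * g⁻¹ = a → ∀ ρ ∈ R, g * ρ * g⁻¹ = ρ := by
        intro g hg hga ρ hρ
        by_cases hρ1 : ρ = 1
        · rw [hρ1]; group
        by_cases hρr : ρ = r
        · rw [hρr]; exact hrc g hg
        rcases four_eq hcR hsq hr hr1 ha ha1 har hρ hρ1 hρr with h5 | h5
        · rw [h5]; exact hga
        · rw [h5]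
          calc g * (r * a) * g⁻¹ = (g * r * g⁻¹) * (g * a * g⁻¹) := by group
            _ = r * a := by rw [hrc g hg, hga]
      have hmv : ∀ g ∈ U₀, (∃ ρ ∈ R, g * ρ * g⁻¹ ≠ ρ) → g * a * g⁻¹ = r * a := by
        rintro g hg ⟨ρ, hρ, hne⟩
        exact (hfa g hg).resolve_left fun h => hne (hall g hg h ρ hρ)
      push Not at htR
      have h5 := hmv t ht htR
      have h6 := hmv x hxU hxR
      have h7 : ∀ ρ ∈ R, x⁻¹ * t * ρ * (x⁻¹ * t)⁻¹ = ρ := by
        refine hall _ (mul_mem (inv_mem hxU) ht) ?_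
        calc x⁻¹ * t * a * (x⁻¹ * t)⁻¹ = x⁻¹ * (t * a * t⁻¹) * x := by group
          _ = x⁻¹ * (x * a * x⁻¹) * x := by rw [h5, h6]
          _ = a := by group
      obtain ⟨b, hb⟩ := hstep _ (mul_mem (inv_mem hxU) ht) h7
      have h8 : (pre M.toNatV i).Nm (x⁻¹ * t) := PreMod.Nm.of_ind _ hb
      intro h A hA
      obtain ⟨B, hB⟩ := h8 h A hA
      obtain ⟨B', hB'⟩ := hTXNm x hx _ B hB
      refine ⟨B', ?_⟩
      have e : x * (x⁻¹ * t * h * (x⁻¹ * t)⁻¹) * x⁻¹ = t * h * t⁻¹ := by group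
      rwa [e] at hB'

end big

section mixed

variable {G : Type u} [Group G] [Finite G] {F F' : Type} [Field F] [Finite F] [CharP F 2] [Field F'] [Finite F']
  [CharP F' 2] {S S' : Sylow 2 G} {P V D P' V' D' : Subgroup G} {k k' : ℕ}

/-- mixed pairs: `QL M l` induces the full root group on `fac M l` -/
theorem fullUp_of_mix {M : NatD F S P V D k} {M' : NatD F' S' P' V' D' k'} {i : Fin k} {i' : Fin k'}
    (L : Cv.LineD M M' i i') (hC : ∀ l, QL M l ≤ (S : Subgroup G)) (hC' : ∀ l, QL M' l ≤ (S' : Subgroup G))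
    (hu : ¬ Cv.UnM M i) : FullUp M := by
  intro l b
  obtain ⟨u, hu1, hue⟩ := exists_fac M.toNatV l ![0, 1]
  obtain ⟨r, hr1, hre⟩ := exists_fac M.toNatV l ![b, 0]
  have hrl : r ∈ line M.toNatV l := (mem_line M.toNatV).2 ⟨hr1, by rw [hre]; rfl⟩
  have hul : u ∉ line M.toNatV l := fun h => by
    have := ((mem_line M.toNatV).1 h).2
    rw [hue] at this
    simp at this
  obtain ⟨a, ha, har⟩ := ((fullAt_of L hC hC' hu).all l).full u hu1 hul r hrl
  have haQ : a ∈ QL M l := KX_le (char2_line' M l) (fun y hy => NV.sq M.toNatV (line_le _ _ hy).1) ha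
  obtain ⟨b', hb'⟩ := o2_up_big M hC haQ
  have haf : a * u * a⁻¹ ∈ fac M.toNatV l :=
    (mem_normalizer_iff.1 (stab_normalizes _ l (QL_le_stab M hC l haQ)) u).1 hu1
  have h1 : M.e (a * u * a⁻¹ * u⁻¹) l 0 = b' := by
    rw [M.mul _ haf.1 _ (inv_mem hu1.1), e_inv M.toNatV hu1.1, Pi.add_apply, Pi.neg_apply, hb' u hu1, hue]
    rw [Pi.add_apply, NatPair.ap_zero', up_00, up_01]
    simp
  have h2 : b' = b := by
    rw [← h1, har, hre]; rfl
  exact ⟨a, haQ, by rw [← h2]; exact hb'⟩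

/-- **Mixed pairs: every 2-group `U`, `stab M i ≤ U ≤ N_G(V₁) ∩ N_G(R)`, acts semilinearly on `V₁`.** -/
theorem nm_mixed {M : NatD F S P V D k} {M' : NatD F' S' P' V' D' k'} {i : Fin k} {i' : Fin k'}
    (L : Cv.LineD M M' i i') (hC : ∀ l, QL M l ≤ (S : Subgroup G)) (hC' : ∀ l, QL M' l ≤ (S' : Subgroup G))
    (hu : ¬ Cv.UnM M i) {U : Subgroup G} (hU2 : IsPGroup 2 U) (hTU : stab M.toNatV i ≤ U)
    (hUV : U ≤ normalizer (fac M.toNatV i : Set G)) (hUR : U ≤ normalizer (line M.toNatV i : Set G)) :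
    ∀ t ∈ U, (pre M.toNatV i).Nm t := nm_mix M hC (fullUp_of_mix L hC hC' hu) hU2 hTU hUV hUR

end mixed

end Cfsg.Agent.Omega.IId.NV
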