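import Cfsg.Agent.Omega.IId.CvBig.Cut
import Cfsg.Agent.Omega.IId.CvBig.NormBig
import Cfsg.Agent.Omega.IId.CvBig.NormMix
import Cfsg.Agent.Omega.IId.CvBig.CElOf
import Cfsg.Agent.Omega.IId.Cv.TwoFourEnd

/-!
# CvBig, CASE 2a, `q ≥ 4`, any `k`: the partners (`partnerK_self`, `partnerK_mixed`) and the plug of helper796's `big2A4`
-/

set_option autoImplicit false
set_option linter.unusedSectionVars false

namespace Cfsg.Agent.Omega.IId.NV

open Subgroup Cfsg Cfsg.Agent.ZN Cfsg.Agent.ZN.ChoiceBase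
open Cfsg.Agent.Omega.MinPar Cfsg.Agent.Omega.FFThm
open Cfsg.Agent.Omega.Mix (RMod Char2)
open Cfsg.Agent.Omega.IId.M4 (toRMod toRMod_line nmG)
open Cfsg.Agent.Omega.IId.Cv (LineD UnM OverT)
open Cfsg.Agent.Omega.IId.Cv.TwoFour (Partner vec10_ne)

universe u

section partner

variable {G : Type u} [Group G] [Finite G] {F : Type} [Field F] [Finite F] [CharP F 2] {S : Sylow 2 G}
  {P V D : Subgroup G} {k : ℕ} (M : NatD F S P V D k) (hC : ∀ l, QL M l ≤ (S : Subgroup G)) {i : Fin k}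
include hC

/-- the partner `V_i^c` -/
theorem partnerK_self {c : G} (hc : c ∈ normalizer (line M.toNatV i : Set G))
    (hne : ∃ v ∈ fac M.toNatV i, ∃ w ∈ fac M.toNatV i, v * (c * w * c⁻¹) ≠ c * w * c⁻¹ * v) :
    Partner (line M.toNatV i) (toRMod (pre M.toNatV i)) ((toRMod (pre M.toNatV i)).conj c) where
  K' := by
    have h1 := BTwo.cj_mono (g := c) (fac_le_KX_self M hC i)
    rwa [BTwo.cj_eq_self_iff.2 (normalizer_le_normalizer_KX _ hc)] at h1
  VQ := fac_le_QL_self M hC i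
  QN := (QL_le_stab M hC i).trans (stab_le_nmG (SP M) M.toNatV i)
  QN' := by
    have h1 := BTwo.cj_mono (g := c) ((QL_le_stab M hC i).trans (stab_le_nmG (SP M) M.toNatV i))
    have h2 : BTwo.cj c (QL M i) = QL M i := BTwo.cj_eq_self_iff.2 (ZN.le_normalizer_o2 _ hc)
    rw [h2] at h1
    exact h1
  ne := by
    obtain ⟨v, hv, w, hw, h⟩ := hne
    exact ⟨v, hv, _, BTwo.conj_mem_cj hw, h⟩
  line := ⟨![1, 0], vec10_ne, by rw [toRMod_line, pre_line]⟩
  line' := by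
    refine ⟨![1, 0], vec10_ne, ?_⟩
    have h1 := (toRMod (pre M.toNatV i)).conj_line c ![1, 0]
    rw [toRMod_line, pre_line] at h1
    exact ((BTwo.cj_eq_self_iff.2 hc).symm.trans h1.symm)

/-- the partner `V'_{i'}` of a pair -/
theorem partnerK_mixed {F' : Type} [Field F'] [Finite F'] [CharP F' 2] {S' : Sylow 2 G} {P' V' D' : Subgroup G}
    {k' : ℕ} (M' : NatD F' S' P' V' D' k') (hC' : ∀ l, QL M' l ≤ (S' : Subgroup G)) {i' : Fin k'}
    (L : LineD M M' i i') :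
    Partner (line M.toNatV i) (toRMod (pre M.toNatV i)) (toRMod (pre M'.toNatV i')) where
  K' := by rw [show line M.toNatV i = _ from L.eq']; exact fac_le_KX_self M' hC' i'
  VQ := fac_le_QL_self M hC i
  QN := (QL_le_stab M hC i).trans (stab_le_nmG (SP M) M.toNatV i)
  QN' := by
    rw [show line M.toNatV i = _ from L.eq']
    exact (QL_le_stab M' hC' i').trans (stab_le_nmG (SP M') M'.toNatV i')
  ne := L.ne
  line := ⟨![1, 0], vec10_ne, by rw [toRMod_line, pre_line]⟩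
  line' := ⟨![1, 0], vec10_ne, by rw [toRMod_line, pre_line]; exact L.eq'⟩

end partner

/-- helper796's `big2A4` as a proposition -/
def Big2A4P : Prop :=
  ∀ (G : Type u) [Group G] [Finite G] (F : Type) [Field F] [Finite F] [CharP F 2] (S : Sylow 2 G)
    (P V D : Subgroup G) (k : ℕ) (M : NatD F S P V D k) (i : Fin k), 2 < k → (∀ l, QL M l ≤ (S : Subgroup G)) →
    D ≠ ⊥ → ∀ (F' : Type) [Field F'] [Finite F'] [CharP F' 2] (V' N' : Subgroup G) (M' : RMod F' V' N'),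
    Partner (line M.toNatV i) (toRMod (pre M.toNatV i)) M' →
    (∀ U : Subgroup G, IsPGroup 2 U → stab M.toNatV i ≤ U → U ≤ normalizer (fac M.toNatV i : Set G) →
      U ≤ normalizer (line M.toNatV i : Set G) → ∀ t ∈ U, (pre M.toNatV i).Nm t) → 4 ≤ Nat.card F →
    ∃ T₁, OverT M i T₁

end Cfsg.Agent.Omega.IId.NV

namespace Cfsg.Agent.Omega.IId.Cv

open Cfsg Cfsg.Agent.Omega.Frame Cfsg.Agent.Omega.IId.NV

universe u

/-- `Big2A4 K` from `big2A4`. -/
theorem big2A4_of (h : Big2A4P.{u}) (K : Cls.{u}) : Big2A4 K := by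
  intro G _ _ S _ P F _ _ _ V D k M hk hC hD i hu h4
  have hN := nmBig G S P F V D k M hC i hu h4
  obtain ⟨c, hc, v, hv, w, hw, hne⟩ := hu
  exact h G F S P V D k M i hk hC hD F _ _ _ (partnerK_self M hC hc ⟨v, hv, w, hw, hne⟩)
    (fun U _ _ hUV _ t ht => hN t (hUV ht)) h4

/-- a Sylow 2-subgroup of `N_G(R)` over `stab M i` normalises `V_i`: `V_i` mixed, `q ≥ 4`, `D ≠ 1`. -/
theorem over_mixed_of (h : Big2A4P.{u}) {G : Type u} [Group G] [Finite G] {F F' : Type} [Field F] [Finite F] [CharP F 2] [Field F']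
    [Finite F'] [CharP F' 2] {S S' : Sylow 2 G} {P V D P' V' D' : Subgroup G} {k k' : ℕ} {M : NatD F S P V D k}
    {M' : NatD F' S' P' V' D' k'} {i : Fin k} {i' : Fin k'} (L : LineD M M' i i')
    (hC : ∀ l, QL M l ≤ (S : Subgroup G)) (hC' : ∀ l, QL M' l ≤ (S' : Subgroup G)) (hu : ¬ UnM M i) (hk : 2 < k)
    (hD : D ≠ ⊥) (h4 : 4 ≤ Nat.card F) : ∃ T₁, OverT M i T₁ :=
  h G F S P V D k M i hk hC hD F' _ _ _ (partnerK_mixed M hC M' hC' L)
    (fun _ hU2 hTU hUV hUR => nm_mixed L hC hC' hu hU2 hTU hUV hUR) h4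

/-- mixed pairs are impossible for `q ≥ 4`, `k > 2`, `D ≠ 1` -/
theorem mixed_false_of (h : Big2A4P.{u}) {G : Type u} [Group G] [Finite G] {F F' : Type} [Field F] [Finite F] [CharP F 2] [Field F']
    [Finite F'] [CharP F' 2] {S S' : Sylow 2 G} {P V D P' V' D' : Subgroup G} {k k' : ℕ} {M : NatD F S P V D k}
    {M' : NatD F' S' P' V' D' k'} {i : Fin k} {i' : Fin k'} (L : LineD M M' i i')
    (hC : ∀ l, QL M l ≤ (S : Subgroup G)) (hC' : ∀ l, QL M' l ≤ (S' : Subgroup G)) (hu : ¬ UnM M i)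
    (hu' : ¬ UnM M' i') (hk : 2 < k) (hD : D ≠ ⊥) (h4 : 4 ≤ Nat.card F) : False := by
  obtain ⟨T₁, hT⟩ := over_mixed_of h L hC hC' hu hk hD h4
  exact mixK_end L hC hC' hu hu' (by omega) hT.two hT.fac hT.line hT.syl

end Cfsg.Agent.Omega.IId.Cv
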