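import Cfsg.Agent.Omega.IId.Cv.Half
import Cfsg.Agent.Omega.IId.Cv.LineAct

/-!
# `|C_R(T)| |D| ≤ |Ω₁(Z(S))|` (after `CvBig/One.lean`, with fewer imports; helper796)
-/

set_option autoImplicit false
set_option linter.unusedSectionVars false

namespace Cfsg.Agent.Omega.IId.CvBig.Four

open Subgroup Cfsg
open Cfsg.Agent.ZN (o2 zc zl)
open Cfsg.Agent.Lib.SL2Mat Cfsg.Agent.MinSimple
open Cfsg.Agent.Omega.MinPar Cfsg.Agent.Omega.FFThm

universe u

section vec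

open Cfsg.Agent.ZN.ChoiceBase

variable {G : Type u} [Group G] {F : Type} [Field F] {S P V : Subgroup G} {k : ℕ} (N : NatV F S P V k)

/-- The norm of `f ∈ C_{V_i}(stab N i)`. -/
theorem exists_vec_cent (hSP : S ≤ P) {i : Fin k} {f : G} (hf : f ∈ NV.fac N i) (hc : ∀ t ∈ NV.stab N i, t * f = f * t) :
    ∃ z ∈ V, N.e z i = N.e f i ∧ ∀ s ∈ S, s * z = z * s := by
  choose s hs hsl using fun l => NV.exists_trans N hSP i l
  have key : ∀ x ∈ S, ∀ l, ∀ y ∈ S, cj y (NV.fac N i) = NV.fac N l → cj x (NV.fac N i) = NV.fac N l →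
      x * f * x⁻¹ = y * f * y⁻¹ := by
    intro x hx l y hy h1 h2
    have h3 : y⁻¹ * x ∈ NV.stab N i := by
      refine mem_inf.2 ⟨mul_mem (inv_mem hy) hx, ?_⟩
      rw [mem_normalizer_iff_cj, ← cj_cj, h2, ← h1, cj_cj, inv_mul_cancel, cj_one]
    have h4 := hc _ h3
    calc x * f * x⁻¹ = y * (y⁻¹ * x * f) * x⁻¹ := by group
      _ = y * (f * (y⁻¹ * x)) * x⁻¹ := by rw [h4]
      _ = y * f * y⁻¹ := by group
  have ha : ∀ l, s l * f * (s l)⁻¹ ∈ NV.fac N l := by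
    intro l
    rw [← hsl l, mem_cj]
    have e : (s l)⁻¹ * (s l * f * (s l)⁻¹) * s l = f := by group
    rwa [e]
  obtain ⟨z, hz, hez⟩ := N.surj fun l => N.e (s l * f * (s l)⁻¹) l
  refine ⟨z, hz, ?_, fun t ht => ?_⟩
  · rw [hez]
    have h1 : s i * f * (s i)⁻¹ = 1 * f * 1⁻¹ := key _ (hs i) i 1 (one_mem _) (cj_one _) (hsl i)
    simp only [one_mul, inv_one, mul_one] at h1
    simp only [h1]
  · have hzt : t * z * t⁻¹ = z := by
      refine NV.e_inj N (NV.cj_mem N (hSP ht) hz) hz (funext fun j => ?_)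
      obtain ⟨l, rfl⟩ := (NV.sg N (hSP ht)).surjective j
      have h0 : N.e ((s l * f * (s l)⁻¹)⁻¹ * z) l = 0 := by
        rw [N.mul _ (inv_mem (ha l).1) _ hz, NV.e_inv N (ha l).1, hez, Pi.add_apply, Pi.neg_apply, neg_add_cancel]
      have h1 := (NV.sg_spec N (hSP ht) (mul_mem (inv_mem (ha l).1) hz) l).2 h0
      have e1 : t * ((s l * f * (s l)⁻¹)⁻¹ * z) * t⁻¹ = (t * s l * f * (t * s l)⁻¹)⁻¹ * (t * z * t⁻¹) := by group
      have h2 : t * s l * f * (t * s l)⁻¹ = s (NV.sg N (hSP ht) l) * f * (s (NV.sg N (hSP ht) l))⁻¹ := by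
        refine key _ (mul_mem ht (hs l)) _ _ (hs _) (hsl _) ?_
        rw [← cj_cj, hsl l, ← NV.sg_eq_iff N (hSP ht)]
      rw [e1, h2, N.mul _ (inv_mem (ha _).1) _ (NV.cj_mem N (hSP ht) hz), NV.e_inv N (ha _).1, Pi.add_apply,
        Pi.neg_apply, neg_add_eq_zero] at h1
      rw [← h1, hez]
    calc t * z = t * z * t⁻¹ * t := by group
      _ = z * t := by rw [hzt]

end vec

section one

open Cfsg.Agent.Omega.IId.NV (zl_le_zz o2_le_S SP V_le_S)

variable {G : Type u} [Group G] [Finite G] {F : Type} [Field F] [Finite F] [CharP F 2] {S : Sylow 2 G}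
  {P V D : Subgroup G} {k : ℕ} (M : NatD F S P V D k)

theorem inf_DN (M : NatD F S P V D k) {v : G} (hv : v ∈ V) (hd : v ∈ D) : v = 1 := by
  have h : v ∈ V ⊓ D := mem_inf.2 ⟨hv, hd⟩
  rwa [M.inf, mem_bot] at h

theorem D_le_zcS (M : NatD F S P V D k) : D ≤ zc (S : Subgroup G) := by
  intro d hd
  have h1 := (zl_le_zz M) (M.D_le hd)
  rw [VModule.mem_zc]
  refine ⟨o2_le_S M (VModule.zc_le _ h1), fun t ht => ?_, (VModule.mem_zc.1 h1).2.2⟩
  exact (mem_centralizer_iff.1 (M.cD (SP M ht)) d hd).symm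

/-- `|C_R(T)| |D| ≤ |Ω₁(Z(S))|`, `T = stab M i`, `R = line M i`, any `k` -/
theorem card_zc_ge (i : Fin k) :
    Nat.card (NV.line M.toNatV i ⊓ centralizer (NV.stab M.toNatV i : Set G) : Subgroup G) * Nat.card D ≤
      Nat.card (zc (S : Subgroup G)) := by
  have hex : ∀ f : (NV.line M.toNatV i ⊓ centralizer (NV.stab M.toNatV i : Set G) : Subgroup G),
      ∃ z ∈ V, M.e z i = M.e (f : G) i ∧ ∀ s ∈ (S : Subgroup G), s * z = z * s := fun f =>
    exists_vec_cent M.toNatV (SP M) (NV.line_le _ _ f.2.1) fun t ht => mem_centralizer_iff.1 f.2.2 t ht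
  choose z hzV hze hzc using hex
  rw [← Nat.card_prod]
  refine Nat.card_le_card_of_injective (fun p => (⟨z p.1 * p.2, mul_mem (VModule.mem_zc.2
    ⟨V_le_S M (hzV p.1), hzc p.1, by rw [pow_two]; exact NV.sq M.toNatV (hzV p.1)⟩) (D_le_zcS M p.2.2)⟩ :
      zc (S : Subgroup G))) ?_
  rintro ⟨p, q⟩ ⟨p', q'⟩ heq
  have h4 : z p * q = z p' * q' := congrArg Subtype.val heq
  have h5 : (z p')⁻¹ * z p = q' * (q : G)⁻¹ := by
    calc (z p')⁻¹ * z p = (z p')⁻¹ * (z p * q) * (q : G)⁻¹ := by group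
      _ = (z p')⁻¹ * (z p' * q') * (q : G)⁻¹ := by rw [h4]
      _ = q' * (q : G)⁻¹ := by group
  have h6 : (z p')⁻¹ * z p = 1 := inf_DN M
    (mul_mem (inv_mem (hzV p')) (hzV p)) (by rw [h5]; exact mul_mem q'.2 (inv_mem q.2))
  have h7 : (q' : G) = q := by
    rw [h6] at h5
    exact mul_inv_eq_one.1 h5.symm
  have h8 : z p' = z p := inv_mul_eq_one.1 h6
  have h9 : (p : G) = p' := by
    refine NV.ext_fac M.toNatV (NV.line_le _ _ p.2.1) (NV.line_le _ _ p'.2.1) ?_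
    rw [← hze p, ← hze p', h8]
  exact Prod.ext (Subtype.ext h9) (Subtype.ext h7.symm)

end one

end Cfsg.Agent.Omega.IId.CvBig.Four
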