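import Cfsg.Agent.Omega.IId.CvBig.FourNat
import Cfsg.Agent.Omega.IId.CvBig.FourZc

/-!
# CvBig, CASE 2a, `q ≥ 4`, `k ≥ 3` (helper796; bb OMEGA #21992)

`M : NatD F S P V D k`, `T = stab M i`, `R = line M i`, `QL M i = O₂(N_G(R))`.

* `exists_xN` : `1 ≠ x ∈ Ω₁(Z(S')) ∩ Wh ∩ C(X_i)` for a Sylow 2-subgroup `S' ≥ T` of `G` (`D ≠ 1`);
* `exists_T₁` : a 2-group `T₁ ≥ T` normalises `V_i` and is Sylow in `N_G(R)`.
-/

set_option autoImplicit false
set_option linter.unusedSectionVars false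

namespace Cfsg.Agent.Omega.IId.CvBig.Four

open Subgroup Cfsg Cfsg.Agent.Lib.SL2Mat Cfsg.Agent.Omega.BTwo Cfsg.Agent.Omega.IId.Cv.TwoFour
open Cfsg.Agent.ZN (o2 zc zl)
open Cfsg.Agent.MinSimple
open Cfsg.Agent.Omega.MinPar Cfsg.Agent.Omega.FFThm
open Cfsg.Agent.Omega.Mix (RMod Pt pt Char2)
open Cfsg.Agent.Omega.IId.M4 (toRMod toRMod_line nmG)
open Cfsg.Agent.Omega.IId.NV (KX mem_KX normalizer_le_normalizer_KX KX_le QL SP V_le_S V_le_zz)
open Cfsg.Agent.Omega.F4Leaf.Syl.LocP (exists_step le_of_odd)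

universe u

/-- a Sylow 2-subgroup of `N` over `A` -/
theorem exists_syl_over {G : Type u} [Group G] [Finite G] {A N : Subgroup G} (hA : IsPGroup 2 A) (hAN : A ≤ N) :
    ∃ T : Subgroup G, IsPGroup 2 T ∧ A ≤ T ∧ T ≤ N ∧ ¬ 2 ∣ T.relIndex N := by
  have : Fact (Nat.Prime 2) := ⟨Nat.prime_two⟩
  have h1 : IsPGroup 2 (A.subgroupOf N) := hA.comap_of_injective (Subgroup.subtype _) (Subgroup.subtype_injective _)
  obtain ⟨Q, hQ⟩ := h1.exists_le_sylow
  refine ⟨(Q : Subgroup N).map N.subtype, Q.isPGroup'.map _, ?_, ?_, ?_⟩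
  · intro x hx
    exact ⟨⟨x, hAN hx⟩, hQ (mem_subgroupOf.2 hx), rfl⟩
  · rintro _ ⟨x, -, rfl⟩
    exact x.2
  · rw [relIndex, subgroupOf, comap_map_eq_self_of_injective (subtype_injective N)]
    exact Q.not_dvd_index

/-- a 2-group `X ≥ A` in `N`, `X ≠ A`, if `A` is not Sylow in `N` -/
theorem exists_over_two {G : Type u} [Group G] [Finite G] {A N : Subgroup G} (hA : IsPGroup 2 A) (hAN : A ≤ N)
    (h2 : 2 ∣ A.relIndex N) : ∃ T : Subgroup G, IsPGroup 2 T ∧ A ≤ T ∧ T ≤ N ∧ ¬ T ≤ A := by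
  obtain ⟨T, hT2, hAT, hTN, hT⟩ := exists_syl_over hA hAN
  refine ⟨T, hT2, hAT, hTN, fun h => hT ?_⟩
  rwa [le_antisymm h hAT]

/-- the abstract end -/
theorem kill_all {G : Type u} [Group G] [Finite G] {κ : Type*} [Finite κ] {ι : κ → Type*} {Vf Lf : κ → Subgroup G}
    {R K : ∀ l, ι l → Subgroup G} {Q : Subgroup G} {o : ∀ l, ι l} {T Th : Subgroup G} {i j : κ}
    (ft : FT Vf Lf R K Q o T i) (fs : FS Vf Lf R K Q o Th i) (hTT : T ≤ Th) (hj : j ≠ i) {x u : G} {S' : Subgroup G}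
    (hx : x ∈ Wh Vf K Q) (hxX : x ∈ centralizer (XK (K i) : Set G))
    (hch : centralizer ({x} : Set G) ⊓ centralizer (O2 (centralizer ({x} : Set G)) : Set G) ≤
      O2 (centralizer ({x} : Set G)))
    (hS2 : IsPGroup 2 S') (hTS : Th ≤ S') (hSx : S' ≤ centralizer ({x} : Set G)) (huS : u ∈ S')
    (huT : u ∈ normalizer (Th : Set G)) (huR : u ∈ normalizer (R i (o i) : Set G)) (hun : u ∉ Th)
    (huu : u * u ∈ Th)
    (hN : ∀ w, FA (Vf i) (Lf i) (R i) (K i) (o i) Th w →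
      ∃ n ∈ NF (Vf i) (K i) w, n ∉ normalizer (R i (o i) : Set G))
    (hK : ∀ n, T ≤ normalizer (cj n (R i (o i)) : Set G) → T ≤ normalizer (cj n (K i (o i)) : Set G))
    (hk : ∀ j, ∃ m, m ≠ i ∧ m ≠ j)
    (kp : ∀ t : G, t ∉ T → t ∈ normalizer (T : Set G) → t * t ∈ T → t ∈ normalizer (R i (o i) : Set G) →
      (∀ l, l ≠ i → ∃ m, m ≠ i ∧ cj t (R l (o l)) = R m (o m)) → False) : False := by
  obtain ⟨v, hv⟩ := fs.step hj hx hxX hch hS2 hTS hSx huS huT huR hun huu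
  have hA := fs.fa hv
  obtain ⟨m, hm, hmR⟩ := hN v hA
  obtain ⟨Rc, Kc, s⟩ := exists_sv ft.toFr hA hTT hv.wW hK hm hmR
  exact ft.kill s hk kp

variable {G : Type u} [Group G] [Finite G] {F : Type} [Field F] [Finite F] [CharP F 2] {S : Sylow 2 G}
  {P V D : Subgroup G} {k : ℕ} (M : NatD F S P V D k)

theorem hKN (i : Fin k) (n : G)
    (h : NV.stab M.toNatV i ≤ normalizer (cj n (pt (rm M i) (i₀ (rm M i))) : Set G)) :
    NV.stab M.toNatV i ≤ normalizer (cj n (Kx (rm M i) (i₀ (rm M i))) : Set G) := by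
  have e : cj n (Kx (rm M i) (i₀ (rm M i))) = KX (cj n (pt (rm M i) (i₀ (rm M i)))) := cj_KX _ _
  rw [e]
  exact h.trans (normalizer_le_normalizer_KX _)

theorem mem_N_line {i : Fin k} {g : G} (h : g ∈ normalizer (NV.line M.toNatV i : Set G)) :
    g ∈ normalizer (pt (rm M i) (i₀ (rm M i)) : Set G) := by
  rw [pt_i₀]
  exact h

section x

variable (hC : ∀ l, QL M l ≤ (S : Subgroup G)) (al : ∀ l, AtLine (rm M l) ![1, 0])
include hC al

/-- `Ω₁(Z(S')) ≤ Wh` for a Sylow 2-subgroup `S' ≥ stab M i` of `G` -/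
theorem zc_le_Wh {i j : Fin k} (hj : j ≠ i) {S' : Subgroup G} (hTS : NV.stab M.toNatV i ≤ S') :
    zc S' ≤ Wh (fun l => NV.fac M.toNatV l) (fun l => Kx (rm M l)) (o2 P) := by
  intro z hz
  have hf := ftN M hC al i
  have hc := (VModule.mem_zc.1 hz).2.1
  have hQ : z ∈ centralizer (o2 P : Set G) := mem_centralizer_iff.2 fun q hq => hc q (hTS (hf.QT hq))
  have hQQ : ∀ q ∈ QQ (pt (rm M i) (i₀ (rm M i))), z * q = q * z := fun q hq => (hc q (hTS (hf.QQT i hq))).symm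
  refine hf.toFr.Vm hj (a := i₀ (rm M i)) (mem_Uc (hf.ch i _ (mem_inf.2 ⟨?_, ?_⟩)) hQQ) hQ
  · apply centralizer_le_normalizer
    rw [mem_centralizer_iff]
    intro r hr
    exact mem_centralizer_iff.1 hQ r (hf.V_le_Q i ((rm M i).pt_le _ hr))
  · rw [mem_centralizer_iff]
    exact fun q hq => (hQQ q hq).symm

/-- **`1 ≠ x ∈ Ω₁(Z(S')) ∩ C(X_i)`** -/
theorem exists_xN (hD : D ≠ ⊥) {i j : Fin k} (hj : j ≠ i) {S' : Sylow 2 G}
    (hTS : NV.stab M.toNatV i ≤ (S' : Subgroup G)) :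
    ∃ x ∈ zc (S' : Subgroup G), x ≠ 1 ∧ x ∈ centralizer (XK (Kx (rm M i)) : Set G) := by
  classical
  by_contra hcon
  push Not at hcon
  have hfr := frN M hC al
  have hW := zc_le_Wh M hC al hj hTS
  have hfact : Fact (Nat.Prime 2) := ⟨Nat.prime_two⟩
  have hcard : Nat.card (zc (S' : Subgroup G)) = Nat.card (zc (S : Subgroup G)) := by
    refine Half.card_zc_of_card_eq S S'.isPGroup' ?_
    rw [S'.card_eq_multiplicity, S.card_eq_multiplicity]
  set A : Subgroup G := NV.line M.toNatV i ⊓ centralizer (NV.stab M.toNatV i : Set G) with hA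
  have h1 : Nat.card (zc (S' : Subgroup G)) ≤ Nat.card A := by
    have hex : ∀ f : zc (S' : Subgroup G), ∃ a : A, (a : G)⁻¹ * f ∈ centralizer (XK (Kx (rm M i)) : Set G) := by
      intro f
      obtain ⟨a, ha, h2⟩ := hfr.dec (hW f.2) i
      have hc := (VModule.mem_zc.1 f.2).2.1
      have hst : ∀ t ∈ NV.stab M.toNatV i, t * a = a * t := by
        intro t ht
        have h3 : t * a * t⁻¹ ∈ NV.fac M.toNatV i :=
          conj_mem_of_normalizer (NV.stab_normalizes M.toNatV i ht) ha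
        have h4 : t * (a⁻¹ * f) * t⁻¹ ∈ centralizer (XK (Kx (rm M i)) : Set G) :=
          conj_mem_of_normalizer (normalizer_le_normalizer_centralizer _
            ((hfr.kt i).L_le_NX (NV.stab_le_nmG (SP M) M.toNatV i ht))) h2
        have e : t * (a⁻¹ * f) * t⁻¹ = (t * a * t⁻¹)⁻¹ * f := by
          calc t * (a⁻¹ * f) * t⁻¹ = t * a⁻¹ * t⁻¹ * (t * f) * t⁻¹ := by group
            _ = t * a⁻¹ * t⁻¹ * (f * t) * t⁻¹ := by rw [hc t (hTS ht)]
            _ = (t * a * t⁻¹)⁻¹ * f := by group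
        rw [e] at h4
        exact mul_inv_eq_iff_eq_mul.1 (hfr.comp_eq h3 ha h4 h2)
      exact ⟨⟨a, mem_inf.2 ⟨NV.fix_le_line M.toNatV (SP M) ha hst, mem_centralizer_iff.2 hst⟩⟩, h2⟩
    choose φ hφ using hex
    refine Nat.card_le_card_of_injective φ fun f f' hff => ?_
    by_contra hne
    refine hcon ((f : G)⁻¹ * f') (mul_mem (inv_mem f.2) f'.2) (fun h => hne ?_) ?_
    · exact Subtype.ext (inv_mul_eq_one.1 h)
    · have e : (f : G)⁻¹ * f' = ((φ f : G)⁻¹ * f)⁻¹ * ((φ f' : G)⁻¹ * f') := by rw [hff]; group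
      rw [e]
      exact mul_mem (inv_mem (hφ f)) (hφ f')
  have h2 : Nat.card A * Nat.card D ≤ Nat.card (zc (S : Subgroup G)) := card_zc_ge M i
  have h3 : 1 < Nat.card D := (Subgroup.one_lt_card_iff_ne_bot _).2 hD
  have h4 : 0 < Nat.card A := Nat.card_pos
  rw [hcard] at h1
  have h5 : Nat.card A * 2 ≤ Nat.card A * Nat.card D := Nat.mul_le_mul_left _ h3
  omega

end x

/-- **CASE 2a is impossible, `q ≥ 4`, `k ≥ 3`, `D ≠ 1`**; `AtLine` is given -/
theorem exists_T₁ (hk : 2 < k) (hC : ∀ l, QL M l ≤ (S : Subgroup G)) (hD : D ≠ ⊥)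
    (al : ∀ l, AtLine (rm M l) ![1, 0]) {i : Fin k}
    (hT : ∀ U : Subgroup G, IsPGroup 2 U → NV.stab M.toNatV i ≤ U → U ≤ normalizer (NV.fac M.toNatV i : Set G) →
      U ≤ normalizer (NV.line M.toNatV i : Set G) → ∀ t ∈ U, (NV.pre M.toNatV i).Nm t)
    (h4 : 4 ≤ Nat.card F) : ∃ T₁ : Subgroup G, IsPGroup 2 T₁ ∧ NV.stab M.toNatV i ≤ T₁ ∧
      T₁ ≤ normalizer (NV.fac M.toNatV i : Set G) ∧ T₁ ≤ normalizer (NV.line M.toNatV i : Set G) ∧
      ¬ 2 ∣ T₁.relIndex (normalizer (NV.line M.toNatV i : Set G)) := by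
  by_contra hno
  have hthird : ∀ j : Fin k, ∃ m, m ≠ i ∧ m ≠ j := by
    intro j
    classical
    by_contra hcon
    push Not at hcon
    have h1 : (Finset.univ : Finset (Fin k)) ⊆ {i, j} := by
      intro x _
      rw [Finset.mem_insert, Finset.mem_singleton]
      by_cases hx : x = i
      · exact Or.inl hx
      · exact Or.inr (hcon x hx)
    have h2 := Finset.card_le_card h1
    rw [Finset.card_univ, Fintype.card_fin] at h2
    have h3 : ({i, j} : Finset (Fin k)).card ≤ 2 := Finset.card_le_two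
    omega
  obtain ⟨j, hj, -⟩ := hthird i
  have hst : NV.stab M.toNatV i ≤ normalizer (NV.fac M.toNatV i : Set G) ⊓ normalizer (NV.line M.toNatV i : Set G) :=
    le_inf (NV.stab_normalizes _ _) (NV.stab_normalizes_line M.toNatV (SP M) i)
  obtain ⟨Th, hTh2, hTTh, hThN, hsyl⟩ := exists_syl_over (S.isPGroup'.to_le (NV.stab_le _ _)) hst
  have hThV := hThN.trans inf_le_left
  have hThR := hThN.trans inf_le_right
  have hd : 2 ∣ Th.relIndex (normalizer (NV.line M.toNatV i : Set G)) := by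
    by_contra h
    exact hno ⟨Th, hTh2, hTTh, hThV, hThR, h⟩
  obtain ⟨X, hX2, hThX, hXN, hXT⟩ := exists_over_two hTh2 hThR hd
  obtain ⟨w, hwX, hwN, hwT⟩ := exists_step hTh2 hX2 (hThX.trans le_normalizer) hXT
  obtain ⟨n, hn1, hn2⟩ := exists_pow_sq (hX2.to_le (by rw [zpowers_le]; exact hwX)) hwT
  obtain ⟨S', hS'⟩ := hX2.exists_le_sylow
  have hft := ftN M hC al i
  have hTS : Th ≤ (S' : Subgroup G) := hThX.trans hS'
  obtain ⟨x, hx, hx1, hxX⟩ := exists_xN M hC al hD hj (hTTh.trans hTS)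
  have hx' := VModule.mem_zc.1 hx
  have hfs : FS (fun l => NV.fac M.toNatV l) (fun l => nmG (NV.pre M.toNatV l)) (fun l => pt (rm M l))
      (fun l => Kx (rm M l)) (o2 P) (fun l => i₀ (rm M l)) Th i :=
    { toFr := hft.toFr
      Th2 := hTh2
      ThV := hThV
      ThL := fun t ht => ⟨hThV ht, hT Th hTh2 hTTh hThV hThR t ht, hT Th hTh2 hTTh hThV hThR _ (inv_mem ht)⟩
      ThR := by
        show Th ≤ normalizer (pt (rm M i) (i₀ (rm M i)) : Set G)
        rw [pt_i₀]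
        exact hThR
      syl := by
        show ¬ 2 ∣ Th.relIndex (_ ⊓ normalizer (pt (rm M i) (i₀ (rm M i)) : Set G))
        rw [pt_i₀]
        exact hsyl
      QTh := hft.QT.trans hTTh
      QQTh := fun l => (hft.QQT l).trans hTTh }
  exact kill_all hft hfs hTTh hj (u := w ^ n) (S' := (S' : Subgroup G)) (zc_le_Wh M hC al hj (hTTh.trans hTS) hx) hxX
    (MinSimple.Basic.char2_centralizer M.hG hx'.2.2 hx1) S'.isPGroup' hTS
    (fun s hs => mem_centralizer_singleton_iff.2 (hx'.2.1 s hs)) (hS' (pow_mem hwX n)) (pow_mem hwN n)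
    (mem_N_line M (pow_mem (hXN hwX) n)) hn1 hn2 (fun v hA => exists_N (al i) hA h4) (hKN M i) hthird
    (kpN M hC al i)

end Cfsg.Agent.Omega.IId.CvBig.Four
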