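import Cfsg.Agent.Omega.IId.CvBig.FourBase

/-!
# CvBig, CASE 2a, all `q`, `k ≥ 3`: the group `⟨V, V^w⟩` (helper796)

`FA V L R K i Th w` : `Th` Sylow in `N(V) ∩ N(R i)`, `w ∈ N(Th) ∩ N(R i)`, `V^w ≠ V`, `V^w ≤ V C(X)`, `[V^w, C_Th(V)] = 1`.

* `FA.A_NV` : the elements of `AA ∩ N(V)` act on `PP` as elements of `K i`;
* `FA.mover`, `FA.delta_mem`.
-/

set_option autoImplicit false
set_option linter.unusedSectionVars false

namespace Cfsg.Agent.Omega.IId.CvBig.Four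

open Subgroup Cfsg.Agent.Omega.BTwo Cfsg.Agent.Omega.IId.Cv.TwoFour

variable {G : Type*} [Group G]

theorem exists_sylow_mul' [Finite G] {T₁ K K₀ M : Subgroup G} (hTM : T₁ ≤ M) (hKM : K ≤ M)
    (hodd' : ¬ 2 ∣ T₁.relIndex M) (hTK : T₁ ≤ normalizer (K : Set G))
    (hK₀ : K₀ ≤ K) (hn : K ≤ normalizer (K₀ : Set G)) (hodd : ∀ c ∈ K, Odd (orderOf c) → c ∈ K₀) {k : G}
    (hk : k ∈ K) : ∃ t ∈ T₁, t ∈ K ∧ t⁻¹ * k ∈ K₀ := by
  have hfact : Fact (Nat.Prime 2) := ⟨Nat.prime_two⟩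
  have h1 : T₁.relIndex K ∣ T₁.relIndex M := by
    rw [relIndex_sup_norm hTK, ← Subgroup.relIndex_mul_relIndex T₁ (K ⊔ T₁) M le_sup_right (sup_le hKM hTM)]
    exact Dvd.intro _ rfl
  have h2 : ¬ 2 ∣ T₁.relIndex K := fun h => hodd' (h.trans h1)
  have hnorm : (K₀.subgroupOf K).Normal := (normal_subgroupOf_iff_le_normalizer hK₀).2 hn
  have hq : IsPGroup 2 (K ⧸ K₀.subgroupOf K) := by
    intro y
    obtain ⟨⟨c, hc⟩, rfl⟩ := QuotientGroup.mk_surjective y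
    obtain ⟨n, m, hm, hnm⟩ := Nat.exists_eq_two_pow_mul_odd (orderOf_pos c).ne'
    refine ⟨n, ?_⟩
    rw [← QuotientGroup.mk_pow, QuotientGroup.eq_one_iff, mem_subgroupOf]
    change c ^ 2 ^ n ∈ K₀
    refine hodd _ (pow_mem hc _) ?_
    have h3 : orderOf (c ^ 2 ^ n) = m := by
      rw [orderOf_pow' _ (by positivity), hnm, Nat.gcd_mul_right_left, Nat.mul_div_cancel_left _ (by positivity)]
    rw [h3]
    exact hm
  obtain ⟨n, hn'⟩ := IsPGroup.iff_card.mp hq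
  have h3 : K₀.relIndex K = 2 ^ n := hn'
  set M : Subgroup G := (T₁ ⊓ K) ⊔ K₀ with hM
  have h4 : M.relIndex K ∣ 2 ^ n := by
    rw [← h3]
    exact relIndex_dvd_of_le_left K le_sup_right
  have h5 : M.relIndex K ∣ T₁.relIndex K := by
    rw [← inf_relIndex_right T₁ K]
    exact relIndex_dvd_of_le_left K le_sup_left
  have h6 : (2 ^ n).Coprime (T₁.relIndex K) :=
    Nat.Coprime.pow_left n ((Nat.Prime.coprime_iff_not_dvd Nat.prime_two).mpr h2)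
  have h7 : K ≤ M := by
    rw [← relIndex_eq_one]
    exact Nat.eq_one_of_dvd_coprimes h6 h4 h5
  obtain ⟨t, ht, h8⟩ := mem_sup_norm (inf_le_right.trans hn : T₁ ⊓ K ≤ normalizer (K₀ : Set G)) (h7 hk)
  exact ⟨t, ht.1, ht.2, h8⟩

variable {ι : Type*}

structure FA (V L : Subgroup G) (R K : ι → Subgroup G) (i : ι) (Th : Subgroup G) (w : G) : Prop where
  bt : KT V L R K
  Th2 : IsPGroup 2 Th
  ThV : Th ≤ normalizer (V : Set G)
  ThL : Th ≤ L
  ThR : Th ≤ normalizer (R i : Set G)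
  syl : ¬ 2 ∣ Th.relIndex (normalizer (V : Set G) ⊓ normalizer (R i : Set G))
  KTh : K i ≤ Th
  wT : w ∈ normalizer (Th : Set G)
  wR : w ∈ normalizer (R i : Set G)
  ww : w * w ∈ Th
  wV : cj w V ≠ V
  VV' : ∀ v ∈ V, ∀ v' ∈ cj w V, v * v' = v' * v
  split : ∀ v ∈ cj w V, ∃ a ∈ V, a⁻¹ * v ∈ centralizer (XK K : Set G)
  cT : ∀ s ∈ Th, s ∈ centralizer (V : Set G) → s ∈ centralizer (cj w V : Set G)

/-- `C_F(X)` -/
def F0 (V : Subgroup G) (K : ι → Subgroup G) (w : G) : Subgroup G := PP V w ⊓ centralizer (XK K : Set G)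

theorem F0_le (V : Subgroup G) (K : ι → Subgroup G) (w : G) : F0 V K w ≤ PP V w := inf_le_left

theorem comm_mul {g v f : G} (hf : g * f = f * g) : g * (v * f) * g⁻¹ * (v * f)⁻¹ = g * v * g⁻¹ * v⁻¹ := by
  have e : f * g⁻¹ = g⁻¹ * f := by
    calc f * g⁻¹ = g⁻¹ * (g * f) * g⁻¹ := by group
      _ = g⁻¹ * f := by rw [hf]; group
  calc g * (v * f) * g⁻¹ * (v * f)⁻¹ = g * v * (f * g⁻¹) * f⁻¹ * v⁻¹ := by group
    _ = g * v * g⁻¹ * v⁻¹ := by rw [e]; group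

theorem conj_mul_cen {g v f : G} (hf : g * f = f * g) : g * (v * f) * g⁻¹ = g * v * g⁻¹ * f := by
  calc g * (v * f) * g⁻¹ = g * v * g⁻¹ * (g * f) * g⁻¹ := by group
    _ = g * v * g⁻¹ * f := by rw [hf]; group

namespace FA

variable {V L : Subgroup G} {R K : ι → Subgroup G} {i : ι} {Th : Subgroup G} {w : G} (h : FA V L R K i Th w)
include h

theorem cj_V' : cj w (cj w V) = V := by
  rw [← cj_mul]
  exact cj_eq_self_iff.2 (h.ThV h.ww)

theorem V'_comm : ∀ a ∈ cj w V, ∀ c ∈ cj w V, a * c = c * a := by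
  intro a ha c hc
  have h1 := h.bt.V_comm _ (mem_cj.1 ha) _ (mem_cj.1 hc)
  calc a * c = w * ((w⁻¹ * a * w) * (w⁻¹ * c * w)) * w⁻¹ := by group
    _ = c * a := by rw [h1]; group

theorem V'_sq : ∀ a ∈ cj w V, a * a = 1 := by
  intro a ha
  have h1 := h.bt.V_sq _ (mem_cj.1 ha)
  calc a * a = w * ((w⁻¹ * a * w) * (w⁻¹ * a * w)) * w⁻¹ := by group
    _ = 1 := by rw [h1]; group

theorem mem_P {y : G} : y ∈ PP V w ↔ ∃ v ∈ V, ∃ v' ∈ cj w V, v * v' = y := by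
  constructor
  · intro hy
    have h1 : V ≤ normalizer (cj w V : Set G) := fun v hv =>
      centralizer_le_normalizer _ (mem_centralizer_iff.2 fun v' hv' => (h.VV' v hv v' hv').symm)
    obtain ⟨a, ha, hc⟩ := mem_sup_norm h1 hy
    exact ⟨a, ha, _, hc, by group⟩
  · rintro ⟨v, hv, v', hv', rfl⟩
    exact mul_mem (V_le_P V w hv) (V'_le_P V w hv')

theorem P_comm : ∀ a ∈ PP V w, ∀ c ∈ PP V w, a * c = c * a := by
  intro a ha c hc
  obtain ⟨v, hv, v', hv', rfl⟩ := h.mem_P.1 ha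
  obtain ⟨u, hu, u', hu', rfl⟩ := h.mem_P.1 hc
  have c1 : Commute v u := h.bt.V_comm v hv u hu
  have c2 : Commute v u' := h.VV' v hv u' hu'
  have c3 : Commute v' u := (h.VV' u hu v' hv').symm
  have c4 : Commute v' u' := h.V'_comm v' hv' u' hu'
  exact ((c1.mul_right c2).mul_left (c3.mul_right c4)).eq

theorem P_sq : ∀ a ∈ PP V w, a * a = 1 := by
  intro a ha
  obtain ⟨v, hv, v', hv', rfl⟩ := h.mem_P.1 ha
  have c2 := h.VV' v hv v' hv'
  calc v * v' * (v * v') = v * (v' * v) * v' := by group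
    _ = (v * v) * (v' * v') := by rw [← c2]; group
    _ = 1 := by rw [h.bt.V_sq v hv, h.V'_sq v' hv', one_mul]

theorem P_two : IsPGroup 2 (PP V w) := by
  rintro ⟨a, ha⟩
  refine ⟨1, Subtype.ext ?_⟩
  change a ^ 2 ^ 1 = 1
  rw [pow_one, pow_two]
  exact h.P_sq a ha

theorem R_le_P : R i ≤ PP V w := (h.bt.R_le i).trans (V_le_P V w)

theorem R_le_C : R i ≤ CP V (K i) w := le_inf h.R_le_P (h.bt.R_cen_K i)

theorem TV' : Th ≤ normalizer (cj w V : Set G) := by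
  rw [normalizer_cj, ← cj_eq_self_iff.2 h.wT]
  exact cj_mono h.ThV

theorem wP : w ∈ normalizer (PP V w : Set G) := by
  rw [← cj_eq_self_iff, PP, cj_sup, h.cj_V', sup_comm]

theorem T_P : Th ≤ normalizer (PP V w : Set G) := by
  intro t ht
  rw [← cj_eq_self_iff, PP, cj_sup, cj_eq_self_iff.2 (h.ThV ht), cj_eq_self_iff.2 (h.TV' ht)]

theorem XV' {g v : G} (hg : g ∈ XK K) (hv : v ∈ cj w V) : g * v * g⁻¹ * v⁻¹ ∈ V := by
  obtain ⟨a, ha, hc⟩ := h.split v hv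
  have h1 := mem_centralizer_iff.1 hc g hg
  have e : g * v * g⁻¹ * v⁻¹ = g * a * g⁻¹ * a⁻¹ := by
    calc g * v * g⁻¹ * v⁻¹ = g * a * g⁻¹ * (g * (a⁻¹ * v) * g⁻¹) * v⁻¹ := by group
      _ = g * a * g⁻¹ * a⁻¹ := by rw [h1]; group
  rw [e]
  exact mul_mem (conj_mem_of_normalizer (h.bt.X_le_NV hg) ha) (inv_mem ha)

theorem bP {g : G} (hg : g ∈ XK K) : g ∈ normalizer (PP V w : Set G) := by
  have key : ∀ g ∈ XK K, ∀ y ∈ PP V w, g * y * g⁻¹ ∈ PP V w := by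
    intro g hg y hy
    obtain ⟨v, hv, v', hv', rfl⟩ := h.mem_P.1 hy
    have e : g * (v * v') * g⁻¹ = (g * v * g⁻¹) * ((g * v' * g⁻¹ * v'⁻¹) * v') := by group
    rw [e]
    exact mul_mem (V_le_P V w (conj_mem_of_normalizer (h.bt.X_le_NV hg) hv))
      (mul_mem (V_le_P V w (h.XV' hg hv')) (V'_le_P V w hv'))
  exact le_normalizer_of key hg

theorem dec {y : G} (hy : y ∈ PP V w) : ∃ v ∈ V, ∃ f ∈ F0 V K w, y = v * f := by
  obtain ⟨v, hv, v', hv', rfl⟩ := h.mem_P.1 hy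
  obtain ⟨a, ha, hf⟩ := h.split _ hv'
  exact ⟨v * a, mul_mem hv ha, a⁻¹ * v', mem_inf.2 ⟨mul_mem (inv_mem (V_le_P V w ha)) (V'_le_P V w hv'), hf⟩, by
    group⟩

theorem V_F0 {v : G} (hv : v ∈ V) (hf : v ∈ F0 V K w) : v = 1 := h.bt.cen_VX hv (mem_inf.1 hf).2

theorem F0_le_C : F0 V K w ≤ CP V (K i) w := fun _ hf =>
  mem_inf.2 ⟨(mem_inf.1 hf).1, cen_XK_le K i (mem_inf.1 hf).2⟩

theorem dec_C {y : G} (hy : y ∈ CP V (K i) w) : ∃ r ∈ R i, ∃ f ∈ F0 V K w, y = r * f := by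
  obtain ⟨v, hv, f, hf, rfl⟩ := h.dec (CP_le _ _ _ hy)
  refine ⟨v, kt_R_of_cen h.bt hv ?_, f, hf, rfl⟩
  have e : v = v * f * f⁻¹ := by group
  rw [e]
  exact mul_mem (mem_inf.1 hy).2 (inv_mem (cen_XK_le K i (mem_inf.1 hf).2))

theorem norm_C {g : G} (hg : g ∈ normalizer (PP V w : Set G)) (hgR : g ∈ normalizer (R i : Set G)) :
    g ∈ normalizer (CP V (K i) w : Set G) := by
  rw [← cj_eq_self_iff, CP, cj_inf, cj_eq_self_iff.2 hg, ← centralizer_cj,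
    cj_eq_self_iff.2 (h.bt.N_K i hgR)]

theorem mem_C {e y : G} (he : e ∈ K i) (hn : e ∉ centralizer (V : Set G)) (hy : y ∈ PP V w)
    (hc : e * y = y * e) : y ∈ CP V (K i) w := by
  have b := h.bt
  obtain ⟨v, hv, f, hf, rfl⟩ := h.dec hy
  have hfW : f ∈ centralizer (K i : Set G) := cen_XK_le K i (mem_inf.1 hf).2
  refine mem_inf.2 ⟨hy, mul_mem (b.R_cen_K i ?_) hfW⟩
  by_contra hR
  apply hn
  have h1 : e * v = v * e := by
    have h2 := mem_centralizer_iff.1 hfW e he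
    calc e * v = e * (v * f) * f⁻¹ := by group
      _ = v * (f * e) * f⁻¹ := by rw [hc]; group
      _ = v * (e * f) * f⁻¹ := by rw [h2]
      _ = v * e := by group
  rw [mem_centralizer_iff]
  exact fun a ha => (b.reg (b.K_Q i he) hv hR h1 a ha).symm

/-! ### The stability group -/

theorem norm_A {g y : G} (hg : g ∈ normalizer (PP V w : Set G)) (hgR : g ∈ normalizer (R i : Set G))
    (hy : y ∈ AA V (R i) (K i) w) : g * y * g⁻¹ ∈ AA V (R i) (K i) w := by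
  have h1 := h.norm_C hg hgR
  exact mem_inf.2 ⟨mem_inf.2 ⟨conj_cenMod h1 hg hy.1.1, conj_cenMod hgR h1 hy.1.2⟩,
    conj_mem_of_normalizer (normalizer_le_normalizer_centralizer _ hgR) hy.2⟩

omit h in
theorem A_P : AA V (R i) (K i) w ≤ normalizer (PP V w : Set G) :=
  (inf_le_left.trans inf_le_left).trans (cenMod_normalizes (CP_le _ _ _))

omit h in
theorem A_R : AA V (R i) (K i) w ≤ normalizer (R i : Set G) := fun _ hg => hg.1.2.1

theorem cen_le_A : centralizer (PP V w : Set G) ≤ AA V (R i) (K i) w := by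
  intro c hc
  have h1 : centralizer (PP V w : Set G) ≤ centralizer (CP V (K i) w : Set G) := centralizer_le (CP_le _ _ _)
  have h2 : centralizer (PP V w : Set G) ≤ centralizer (R i : Set G) := centralizer_le h.R_le_P
  have key : ∀ y ∈ PP V w, c * y * c⁻¹ * y⁻¹ = 1 := by
    intro y hy
    rw [← mem_centralizer_iff.1 hc y hy]
    group
  refine mem_inf.2 ⟨mem_inf.2 ⟨⟨centralizer_le_normalizer _ (h1 hc), fun y hy => ?_⟩,
    ⟨centralizer_le_normalizer _ (h2 hc), fun y hy => ?_⟩⟩, h2 hc⟩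
  · rw [key y hy]; exact one_mem _
  · rw [key y (CP_le _ _ _ hy)]; exact one_mem _

theorem A_odd {c : G} (hc : c ∈ AA V (R i) (K i) w) (ho : Odd (orderOf c)) : c ∈ centralizer (PP V w : Set G) := by
  have hR : ∀ r ∈ R i, c * r = r * c := fun r hr => (mem_centralizer_iff.1 hc.2 r hr).symm
  have hC : ∀ y ∈ CP V (K i) w, c * y = y * c := by
    intro y hy
    have h1 := hc.1.2.2 y hy
    exact comm_of_odd ho (h.P_two.to_le h.R_le_P) h1 (hR _ h1)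
  rw [mem_centralizer_iff]
  intro y hy
  have h1 := hc.1.1.2 y hy
  exact (comm_of_odd ho (h.P_two.to_le (CP_le _ _ _)) h1 (hC _ h1)).symm

/-- **(a)** -/
theorem A_NV [Finite G] {δ : G} (hδ : δ ∈ AA V (R i) (K i) w) (hV : δ ∈ normalizer (V : Set G)) :
    ∃ u ∈ K i, u * δ ∈ centralizer (PP V w : Set G) := by
  obtain ⟨t, ht, htA, hc⟩ := exists_sylow_mul' (T₁ := Th) (K := AA V (R i) (K i) w ⊓ normalizer (V : Set G))
    (K₀ := centralizer (PP V w : Set G)) (le_inf h.ThV h.ThR) (le_inf inf_le_right (inf_le_left.trans A_R)) h.syl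
    (le_normalizer_of fun t ht y hy => mem_inf.2 ⟨h.norm_A (h.T_P ht) (h.ThR ht) hy.1,
      mul_mem (mul_mem (h.ThV ht) hy.2) (inv_mem (h.ThV ht))⟩)
    (le_inf h.cen_le_A ((centralizer_le (V_le_P V w)).trans (centralizer_le_normalizer _)))
    (inf_le_left.trans (A_P.trans (normalizer_le_normalizer_centralizer _)))
    (fun c hc ho => h.A_odd hc.1 ho) (mem_inf.2 ⟨hδ, hV⟩)
  obtain ⟨u, hu, hut⟩ := lemA h.bt (h.ThL ht) (h.Th2.to_le (by rw [zpowers_le]; exact ht)) fun r hr =>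
    (mem_centralizer_iff.1 htA.1.2 r hr).symm
  have h1 := h.cT _ (mul_mem (h.KTh hu) ht) hut
  have h2 : u * t ∈ centralizer (PP V w : Set G) := by
    rw [mem_centralizer_iff]
    intro y hy
    obtain ⟨v, hv, v', hv', rfl⟩ := h.mem_P.1 hy
    have c1 : Commute v (u * t) := mem_centralizer_iff.1 hut v hv
    have c2 : Commute v' (u * t) := mem_centralizer_iff.1 h1 v' hv'
    exact (c1.mul_left c2).eq
  refine ⟨u, hu, ?_⟩
  have e : u * δ = (u * t) * (t⁻¹ * δ) := by group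
  rw [e]
  exact mul_mem h2 hc

/-! ### The movers -/

theorem mover {e e' b : G} (he : e ∈ K i) (he' : e' ∈ K i) (hb : b ∈ XK K)
    (hR : b ∈ normalizer (R i : Set G))
    (c1 : ∀ v ∈ V, e' * (b * v * b⁻¹) * e'⁻¹ * (b * v * b⁻¹)⁻¹ = e * v * e⁻¹ * v⁻¹)
    (c2 : ∀ v ∈ V, b * (e * v * e⁻¹ * v⁻¹) * b⁻¹ = e' * v * e'⁻¹ * v⁻¹) :
    Mv (PP V w) (CP V (K i) w) (R i) V e e' b where
  bN := h.bP hb
  bR := hR
  c1 := by
    intro y hy
    obtain ⟨v, hv, f, hf', rfl⟩ := h.dec hy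
    have hf := (mem_inf.1 hf').2
    have h1 := mem_centralizer_iff.1 hf b hb
    have h2 := mem_centralizer_iff.1 hf e (K_le_X K i he)
    have h3 := mem_centralizer_iff.1 hf e' (K_le_X K i he')
    rw [conj_mul_cen h1, comm_mul h3, comm_mul h2]
    exact c1 v hv
  c2 := by
    intro y hy
    obtain ⟨v, hv, f, hf', rfl⟩ := h.dec hy
    have hf := (mem_inf.1 hf').2
    have h2 := mem_centralizer_iff.1 hf e (K_le_X K i he)
    have h3 := mem_centralizer_iff.1 hf e' (K_le_X K i he')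
    rw [comm_mul h3, comm_mul h2]
    exact c2 v hv
  bC := by
    intro y hy
    obtain ⟨r, hr, f, hf', rfl⟩ := h.dec_C hy
    have hf := (mem_inf.1 hf').2
    rw [comm_mul (mem_centralizer_iff.1 hf b hb)]
    exact mul_mem (conj_mem_of_normalizer hR hr) (inv_mem hr)
  bU := by
    intro y hy
    obtain ⟨v, hv, f, hf', rfl⟩ := h.dec hy
    have hf := (mem_inf.1 hf').2
    rw [comm_mul (mem_centralizer_iff.1 hf b hb)]
    exact mul_mem (conj_mem_of_normalizer (h.bt.X_le_NV hb) hv) (inv_mem hv)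

/-- `b⁻¹ b'` is in the stability group -/
theorem delta_mem [Finite G] {U U' : Subgroup G} {e e' b b' : G} (he : e ∈ K i)
    (hn : e ∉ centralizer (V : Set G)) (m : Mv (PP V w) (CP V (K i) w) (R i) U e e' b)
    (m' : Mv (PP V w) (CP V (K i) w) (R i) U' e e' b') : b⁻¹ * b' ∈ AA V (R i) (K i) w := by
  have bt := h.bt
  have heT : e ∈ Th := h.KTh he
  have hN : b⁻¹ * b' ∈ normalizer (PP V w : Set G) := mul_mem (inv_mem m.bN) m'.bN
  have hR : b⁻¹ * b' ∈ normalizer (R i : Set G) := mul_mem (inv_mem m.bR) m'.bR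
  have hC := h.norm_C hN hR
  refine mem_inf.2 ⟨mem_inf.2 ⟨⟨hC, fun y hy => ?_⟩, ⟨hR, fun y hy => ?_⟩⟩, ?_⟩
  · set z := b' * y * b'⁻¹ with hz
    have hzP : z ∈ PP V w := conj_mem_of_normalizer m'.bN hy
    set y' := b⁻¹ * z * b with hy'
    have hy'P : y' ∈ PP V w := conj_inv_mem_of_normalizer m.bN hzP
    have e1 := m.c1 y' hy'P
    have e2 := m'.c1 y hy
    have e3 : b * y' * b⁻¹ = z := by rw [hy']; group
    rw [e3] at e1
    rw [← hz, e1] at e2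
    have e4 : b⁻¹ * b' * y * (b⁻¹ * b')⁻¹ * y⁻¹ = y' * y⁻¹ := by rw [hy', hz]; group
    rw [e4]
    have hyy : y' * y⁻¹ ∈ PP V w := mul_mem hy'P (inv_mem hy)
    refine h.mem_C he hn hyy ?_
    set s := e * y * e⁻¹ * y⁻¹ with hs
    have hsP : s ∈ PP V w := mul_mem (conj_mem_of_normalizer (h.T_P heT) hy) (inv_mem hy)
    have h1 := h.P_comm s hsP _ hyy
    calc e * (y' * y⁻¹) = (e * y' * e⁻¹ * y'⁻¹) * (y' * y⁻¹) * s⁻¹ * e := by rw [hs]; group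
      _ = (s * (y' * y⁻¹)) * s⁻¹ * e := by rw [e2]
      _ = y' * y⁻¹ * e := by rw [h1]; group
  · have h1 := m'.bC y hy
    have hy1 : b⁻¹ * y * b ∈ CP V (K i) w := conj_inv_mem_of_normalizer (h.norm_C m.bN m.bR) hy
    have h2 := m.bC _ hy1
    have h3 := conj_inv_mem_of_normalizer m.bR h1
    have e4 : b⁻¹ * b' * y * (b⁻¹ * b')⁻¹ * y⁻¹ =
        (b⁻¹ * (b' * y * b'⁻¹ * y⁻¹) * b) * (b * (b⁻¹ * y * b) * b⁻¹ * (b⁻¹ * y * b)⁻¹)⁻¹ := by group
    rw [e4]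
    exact mul_mem h3 (inv_mem h2)
  · rw [mem_centralizer_iff]
    intro r hr
    obtain ⟨j, hj, -⟩ := bt.third i i
    have hn' : ¬ ∀ a ∈ V, e * a = a * e := fun hc => hn (by
      rw [mem_centralizer_iff]
      exact fun a ha => (hc a ha).symm)
    obtain ⟨v, hv, rfl⟩ := bt.full (bt.K_Q i he) hn' hj r hr
    have hvP := V_le_P V w (bt.R_le j hv)
    have h1 := m.c2 v hvP
    have h2 := m'.c2 v hvP
    set r := e * v * e⁻¹ * v⁻¹ with hr'
    have h3 : b * r * b⁻¹ = b' * r * b'⁻¹ := h1.trans h2.symm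
    calc r * (b⁻¹ * b') = b⁻¹ * (b * r * b⁻¹) * b' := by group
      _ = b⁻¹ * b' * r := by rw [h3]; group

/-- a mover is fixed point free on `V / R i` -/
theorem fpf {e e' b : G} (he : e ∈ K i) (he' : e' ∈ K i)
    (hee : e⁻¹ * e' ∉ centralizer (V : Set G))
    (c1 : ∀ v ∈ V, e' * (b * v * b⁻¹) * e'⁻¹ * (b * v * b⁻¹)⁻¹ = e * v * e⁻¹ * v⁻¹) :
    ∀ v ∈ V, b * v * b⁻¹ * v⁻¹ ∈ R i → v ∈ R i := by
  have bt := h.bt
  intro v hv hr
  by_contra hvR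
  set r := b * v * b⁻¹ * v⁻¹ with hr'
  have h1 := c1 v hv
  have e1 : b * v * b⁻¹ = r * v := by rw [hr']; group
  have h2 := bt.conj_R (bt.K_Q i he') hr
  have h3 : e' * v * e'⁻¹ * v⁻¹ ∈ V := bt.R_le i (bt.QV i _ (bt.K_Q i he') v hv)
  have h4 := bt.V_comm _ (bt.R_le i hr) _ h3
  have h5 : e' * v * e'⁻¹ * v⁻¹ = e * v * e⁻¹ * v⁻¹ := by
    rw [← h1, e1]
    calc e' * v * e'⁻¹ * v⁻¹ = (r * (e' * v * e'⁻¹ * v⁻¹)) * r⁻¹ := by rw [h4]; group
      _ = ((e' * r * e'⁻¹) * (e' * v * e'⁻¹ * v⁻¹)) * r⁻¹ := by rw [h2]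
      _ = e' * (r * v) * e'⁻¹ * (r * v)⁻¹ := by group
  have h6 : e⁻¹ * e' * v = v * (e⁻¹ * e') := by
    have h7 : e' * v * e'⁻¹ = e * v * e⁻¹ := mul_right_cancel h5
    calc e⁻¹ * e' * v = e⁻¹ * (e' * v * e'⁻¹) * e' := by group
      _ = v * (e⁻¹ * e') := by rw [h7]; group
  apply hee
  rw [mem_centralizer_iff]
  exact fun a ha => (bt.reg (bt.K_Q i (mul_mem (inv_mem he) he')) hv hvR h6 a ha).symm

/-- **`δ ∈ AA` with `C_F(X) ≤ V [δ, V]`** -/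
theorem exists_delta [Finite G] (hFQ : FQ V R K i)
    (h4 : ∃ e ∈ K i, e ∉ centralizer (V : Set G) ∧ ∃ e' ∈ K i, e' ∉ centralizer (V : Set G) ∧
      e⁻¹ * e' ∉ centralizer (V : Set G)) :
    ∃ δ ∈ AA V (R i) (K i) w, ∀ f ∈ F0 V K w, ∃ u ∈ V, ∃ v ∈ V, f = v * (δ * u * δ⁻¹) := by
  obtain ⟨e, he, hn, e', he', hn', hee⟩ := h4
  obtain ⟨b, hb, hbR, c1, c2⟩ := hFQ e he hn e' he' hn'
  have m := h.mover he he' hb hbR c1 c2
  have hwR := h.wR
  have key : ∀ a ∈ K i, a ∉ centralizer (V : Set G) →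
      w⁻¹ * a * w ∈ K i ∧ w⁻¹ * a * w ∉ centralizer (V : Set G) := by
    intro a ha han
    refine ⟨conj_inv_mem_of_normalizer (h.bt.N_K i hwR) ha, fun hc => han ?_⟩
    have h1 := h.cT _ (conj_inv_mem_of_normalizer h.wT (h.KTh ha)) hc
    have h2 : a ∈ cj w (centralizer (cj w V : Set G)) := by
      rw [mem_cj]; exact h1
    rwa [← centralizer_cj, h.cj_V'] at h2
  have hee1 : (w⁻¹ * e * w)⁻¹ * (w⁻¹ * e' * w) ∉ centralizer (V : Set G) := by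
    have h1 := (key _ (mul_mem (inv_mem he) he') hee).2
    have e1 : (w⁻¹ * e * w)⁻¹ * (w⁻¹ * e' * w) = w⁻¹ * (e⁻¹ * e') * w := by group
    rw [e1]
    exact h1
  obtain ⟨k1, k2⟩ := key e he hn
  obtain ⟨k3, k4⟩ := key e' he' hn'
  obtain ⟨b₀, hb₀, hbR₀, d1, d2⟩ := hFQ _ k1 k2 _ k3 k4
  have m' := (h.mover k1 k3 hb₀ hbR₀ d1 d2).conj h.wP (h.norm_C h.wP hwR) hwR
  have hsurj := Hyp.surj_of_fpf h.bt (h.bt.X_le_NV hb₀) (h.fpf k1 k3 hee1 d1)
  set b' := w * b₀ * w⁻¹ with hb'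
  refine ⟨b⁻¹ * b', h.delta_mem he hn m m', fun f hf => ?_⟩
  have hA := h.delta_mem he hn m m'
  set δ := b⁻¹ * b' with hδ
  -- `f = v v'`
  obtain ⟨v, hv, v', hv', rfl⟩ := h.mem_P.1 (F0_le V K w hf)
  obtain ⟨u₀, hu₀, r, hr, hvr⟩ := hsurj _ (mem_cj.1 hv')
  -- `v' = (w r w⁻¹) [b', w u₀ w⁻¹]`
  set u := w * u₀ * w⁻¹ with hu
  have huP : u ∈ PP V w := V'_le_P V w (conj_mem_cj hu₀)
  have hrw : w * r * w⁻¹ ∈ R i := conj_mem_of_normalizer hwR hr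
  have e1 : v' = (w * r * w⁻¹) * (b' * u * b'⁻¹ * u⁻¹) := by
    calc v' = w * (w⁻¹ * v' * w) * w⁻¹ := by group
      _ = _ := by rw [hvr, hu, hb']; group
  -- `u = x g`, `[b', u] = (V) * (δ x δ⁻¹) ...`
  obtain ⟨x, hx, g, hg, hxg⟩ := h.dec huP
  have hδg : δ * g * δ⁻¹ * g⁻¹ ∈ R i := hA.1.2.2 g (h.F0_le_C hg)
  have hδx : δ * x * δ⁻¹ * x⁻¹ ∈ CP V (K i) w := hA.1.1.2 x (V_le_P V w hx)
  obtain ⟨ρ, hρ, D, hD, hρD⟩ := h.dec_C hδx
  have hbD := mem_centralizer_iff.1 (mem_inf.1 hD).2 b hb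
  have hbg := mem_centralizer_iff.1 (mem_inf.1 hg).2 b hb
  have hbV := h.bt.X_le_NV hb
  refine ⟨x, hx, ?_⟩
  -- everything in the abelian group `PP`
  have hσ : δ * g * δ⁻¹ = (δ * g * δ⁻¹ * g⁻¹) * g := by group
  set σ := δ * g * δ⁻¹ * g⁻¹ with hσ'
  have hδx' : δ * x * δ⁻¹ = ρ * D * x := by
    rw [← hρD]; group
  have hb'u : b' * u * b'⁻¹ = (b * (ρ * x * σ) * b⁻¹) * (D * g) := by
    have c1 : Commute D x := h.P_comm D (F0_le V K w hD) x (V_le_P V w hx)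
    have c2 : Commute D σ := h.P_comm D (F0_le V K w hD) σ (h.R_le_P hδg)
    have e2 : b' = b * δ := by rw [hδ]; group
    calc b' * u * b'⁻¹ = b * ((δ * x * δ⁻¹) * (δ * g * δ⁻¹)) * b⁻¹ := by rw [e2, hxg]; group
      _ = b * (ρ * (D * (x * σ)) * g) * b⁻¹ := by rw [hδx', hσ]; group
      _ = b * (ρ * ((x * σ) * D) * g) * b⁻¹ := by rw [(c1.mul_right c2).eq]
      _ = (b * (ρ * x * σ) * b⁻¹) * (b * (D * g) * b⁻¹) := by group
      _ = _ := by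
        have e3 : b * (D * g) * b⁻¹ = D * g := by
          calc b * (D * g) * b⁻¹ = (b * D) * g * b⁻¹ := by group
            _ = D * (b * g) * b⁻¹ := by rw [hbD]; group
            _ = D * g := by rw [hbg]; group
        rw [e3]
  have hVm : b * (ρ * x * σ) * b⁻¹ ∈ V :=
    conj_mem_of_normalizer hbV (mul_mem (mul_mem (h.bt.R_le i hρ) hx) (h.bt.R_le i hδg))
  -- `D = ρ⁻¹ (δ x δ⁻¹) x⁻¹`
  have hxP := V_le_P V w hx
  have hδxP : δ * x * δ⁻¹ ∈ PP V w := conj_mem_of_normalizer (A_P hA) hxP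
  refine ⟨v * (w * r * w⁻¹) * (b * (ρ * x * σ) * b⁻¹) * x⁻¹ * ρ⁻¹ * x⁻¹, ?_, ?_⟩
  · exact mul_mem (mul_mem (mul_mem (mul_mem (mul_mem hv (h.bt.R_le i hrw)) hVm) (inv_mem hx))
      (inv_mem (h.bt.R_le i hρ))) (inv_mem hx)
  · rw [e1, hb'u, hxg, hδx']
    set A := b * (ρ * x * σ) * b⁻¹ with hAdef
    have c1 : Commute D x := h.P_comm D (F0_le V K w hD) x hxP
    have c2 : Commute g x := h.P_comm g (F0_le V K w hg) x hxP
    have c3 : Commute D ρ := h.P_comm D (F0_le V K w hD) ρ (h.R_le_P hρ)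
    calc v * (w * r * w⁻¹ * (A * (D * g) * (x * g)⁻¹))
        = v * (w * r * w⁻¹) * A * (D * x⁻¹) := by
          have e4 : (D * g) * (x * g)⁻¹ = D * x⁻¹ := by group
          calc v * (w * r * w⁻¹ * (A * (D * g) * (x * g)⁻¹))
              = v * (w * r * w⁻¹) * A * ((D * g) * (x * g)⁻¹) := by group
            _ = _ := by rw [e4]
      _ = v * (w * r * w⁻¹) * A * (x⁻¹ * D) := by rw [c1.inv_right.eq]
      _ = v * (w * r * w⁻¹) * A * x⁻¹ * ρ⁻¹ * x⁻¹ * (x * (ρ * D)) := by group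
      _ = v * (w * r * w⁻¹) * A * x⁻¹ * ρ⁻¹ * x⁻¹ * (ρ * D * x) := by
          have c4 : Commute x (ρ * D) := h.P_comm x hxP _ (mul_mem (h.R_le_P hρ) (F0_le V K w hD))
          rw [c4.eq]

end FA

end Cfsg.Agent.Omega.IId.CvBig.Four
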