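import Cfsg.Agent.Omega.IId.CvBig.FourF
import Cfsg.Agent.Omega.IId.Cv.TwoFourR

/-!
# CvBig, CASE 2a, `q ≥ 4`, `k ≥ 3`: `δ` is linear (helper796)

`V = F ⊕ F`, `F₀ = C_F(X)`.  `Act M F₀ g h D γ` : `g` acts as `(r, l) ↦ (r + h l, l) D(l)`, `c ↦ c + γ(c)`.

* `exists_N` : some `n ∈ NF` (`[F, n] ≤ F₀`, `[F₀, n] = 1`) moves `R i`.
-/

set_option autoImplicit false
set_option linter.unusedSectionVars false

namespace Cfsg.Agent.Omega.IId.CvBig.Four

open Subgroup Cfsg.Agent.Lib.SL2Mat Cfsg.Agent.Omega.BTwo Cfsg.Agent.Omega.IId.Cv.TwoFour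
open Cfsg.Agent.Omega.NatPair (dt dt_add dt_smul exists_smul_of_dt exists_comb ap ap_smul ap_add ap_zero' ap_one'
  ap_mul ap_inv_ap ap_ap_inv ap_one exists_ap exists_ap_e ap_up_e ext2)
open Cfsg.Agent.Omega.Mix (RMod Pt pt Char2)
open Cfsg.Agent.Omega.IId.NV (KX mem_KX normalizer_le_normalizer_KX KX_le)

universe u

variable {G : Type u} [Group G]

/-- `{n : [PP, n] ≤ F0, [F0, n] = 1}` -/
def NF {ι : Type*} (V : Subgroup G) (K : ι → Subgroup G) (w : G) : Subgroup G :=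
  cenMod (F0 V K w) (PP V w) ⊓ centralizer (F0 V K w : Set G)

section rmod

variable {F : Type*} [Field F] {V N : Subgroup G} {M : RMod F V N}

/-- the root groups -/
def Kx (M : RMod F V N) (i : Pt M) : Subgroup G := KX (pt M i)

theorem e2_mul (a b c d : F) : M.e ![a, b] * M.e ![c, d] = M.e ![a + c, b + d] := by
  rw [← M.e_add]
  congr 1
  apply ext2
  · simp
  · simp

theorem e2_inj {a b c d : F} (h : M.e ![a, b] = M.e ![c, d]) : a = c ∧ b = d := by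
  have h1 := M.e_inj h
  exact ⟨congrFun h1 0, congrFun h1 1⟩

theorem exists_e2 {v : G} (hv : v ∈ V) : ∃ a b, M.e ![a, b] = v := by
  obtain ⟨y, rfl⟩ := (M.mem_iff v).1 hv
  refine ⟨y 0, y 1, ?_⟩
  have e : (![y 0, y 1] : Fin 2 → F) = y := by
    apply ext2 <;> simp
  rw [e]

theorem e2_zero : M.e ![(0 : F), 0] = 1 := by
  rw [← M.e_zero]
  have e : (![0, 0] : Fin 2 → F) = 0 := by
    apply ext2 <;> simp
  rw [e]

theorem line10_iff {v : G} : v ∈ M.line ![1, 0] ↔ ∃ r : F, M.e ![r, 0] = v := by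
  rw [M.mem_line]
  have e : ∀ c : F, c • (![1, 0] : Fin 2 → F) = ![c, 0] := fun c => by
    apply ext2 <;> simp
  simp only [e]

theorem line01_iff {v : G} : v ∈ M.line ![0, 1] ↔ ∃ l : F, M.e ![0, l] = v := by
  rw [M.mem_line]
  have e : ∀ c : F, c • (![0, 1] : Fin 2 → F) = ![0, c] := fun c => by
    apply ext2 <;> simp
  simp only [e]

theorem ind2 {g : G} {A : Matrix.SpecialLinearGroup (Fin 2) F} (hA : M.Ind g A) (r l : F) :
    g * M.e ![r, l] * g⁻¹ = M.e ![ent A 0 0 * r + ent A 0 1 * l, ent A 1 0 * r + ent A 1 1 * l] := by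
  rw [hA]
  rfl

/-- the action of an element of the stability group -/
structure Act (M : RMod F V N) (F₀ : Subgroup G) (g : G) (h : F → F) (D : F → G) (γ : G → F) : Prop where
  e : ∀ r l : F, g * M.e ![r, l] * g⁻¹ = M.e ![r + h l, l] * D l
  c : ∀ c ∈ F₀, g * c * g⁻¹ = c * M.e ![γ c, 0]
  D_mem : ∀ l, D l ∈ F₀

section act

variable [Finite G] [Finite F] [CharP F 2] {Th : Subgroup G} {w : G} (hA : FA V N (pt M) (Kx M) (i₀ M) Th w)
include hA

theorem F0_comm {f v : G} (hf : f ∈ F0 V (Kx M) w) (hv : v ∈ V) : f * v = v * f :=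
  hA.P_comm f (F0_le _ _ _ hf) v (V_le_P V w hv)

theorem F0_comm' {f f' : G} (hf : f ∈ F0 V (Kx M) w) (hf' : f' ∈ F0 V (Kx M) w) : f * f' = f' * f :=
  hA.P_comm f (F0_le _ _ _ hf) f' (F0_le _ _ _ hf')

theorem F0_sq {f : G} (hf : f ∈ F0 V (Kx M) w) : f * f = 1 := hA.P_sq f (F0_le _ _ _ hf)

theorem eu {a b c d : F} {f f' : G} (hf : f ∈ F0 V (Kx M) w) (hf' : f' ∈ F0 V (Kx M) w)
    (h : M.e ![a, b] * f = M.e ![c, d] * f') : a = c ∧ b = d ∧ f = f' := by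
  have h1 : (M.e ![c, d])⁻¹ * M.e ![a, b] = f' * f⁻¹ := by
    calc (M.e ![c, d])⁻¹ * M.e ![a, b] = (M.e ![c, d])⁻¹ * (M.e ![a, b] * f) * f⁻¹ := by group
      _ = f' * f⁻¹ := by rw [h]; group
  have h2 : (M.e ![c, d])⁻¹ * M.e ![a, b] = 1 :=
    hA.V_F0 (mul_mem (inv_mem (M.e_mem _)) (M.e_mem _)) (by rw [h1]; exact mul_mem hf' (inv_mem hf))
  have h3 : M.e ![a, b] = M.e ![c, d] := (inv_mul_eq_one.1 h2).symm
  obtain ⟨h4, h5⟩ := e2_inj h3
  refine ⟨h4, h5, ?_⟩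
  rw [h3] at h
  exact mul_left_cancel h

theorem Act.mul {g₁ g₂ : G} {h₁ h₂ : F → F} {D₁ D₂ : F → G} {γ₁ γ₂ : G → F}
    (a₁ : Act M (F0 V (Kx M) w) g₁ h₁ D₁ γ₁) (a₂ : Act M (F0 V (Kx M) w) g₂ h₂ D₂ γ₂) :
    Act M (F0 V (Kx M) w) (g₁ * g₂) (fun l => h₁ l + h₂ l + γ₁ (D₂ l)) (fun l => D₁ l * D₂ l)
      (fun c => γ₁ c + γ₂ c) where
  e := by
    intro r l
    have h0 : g₁ * (M.e ![r + h₂ l, l] * D₂ l) * g₁⁻¹ = (g₁ * M.e ![r + h₂ l, l] * g₁⁻¹) * (g₁ * D₂ l * g₁⁻¹) := by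
      group
    calc g₁ * g₂ * M.e ![r, l] * (g₁ * g₂)⁻¹ = g₁ * (g₂ * M.e ![r, l] * g₂⁻¹) * g₁⁻¹ := by group
      _ = (M.e ![r + h₂ l + h₁ l, l] * D₁ l) * (D₂ l * M.e ![γ₁ (D₂ l), 0]) := by
        rw [a₂.e, h0, a₁.e, a₁.c _ (a₂.D_mem l)]
      _ = M.e ![r + h₂ l + h₁ l, l] * (D₁ l * D₂ l * M.e ![γ₁ (D₂ l), 0]) := by group
      _ = M.e ![r + h₂ l + h₁ l, l] * M.e ![γ₁ (D₂ l), 0] * (D₁ l * D₂ l) := by
        rw [F0_comm hA (mul_mem (a₁.D_mem l) (a₂.D_mem l)) (M.e_mem _)]; group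
      _ = _ := by
        rw [e2_mul]
        congr 3
        · ring_nf
        · ring_nf
  c := by
    intro c hc
    have h0 : g₁ * (c * M.e ![γ₂ c, 0]) * g₁⁻¹ = (g₁ * c * g₁⁻¹) * (g₁ * M.e ![γ₂ c, 0] * g₁⁻¹) := by group
    have h00 : h₁ 0 = 0 ∧ D₁ 0 = 1 := by
      have h1 := a₁.e 0 0
      rw [e2_zero, mul_one, mul_inv_cancel] at h1
      have h2 : M.e ![(0 : F), 0] * 1 = M.e ![0 + h₁ 0, 0] * D₁ 0 := by rw [e2_zero, one_mul]; exact h1
      obtain ⟨h3, -, h4⟩ := eu hA (one_mem _) (a₁.D_mem 0) h2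
      exact ⟨by rw [zero_add] at h3; exact h3.symm, h4.symm⟩
    calc g₁ * g₂ * c * (g₁ * g₂)⁻¹ = g₁ * (g₂ * c * g₂⁻¹) * g₁⁻¹ := by group
      _ = (c * M.e ![γ₁ c, 0]) * (M.e ![γ₂ c, 0]) := by
        rw [a₂.c c hc, h0, a₁.c c hc, a₁.e, h00.1, h00.2, mul_one, add_zero]
      _ = c * (M.e ![γ₁ c, 0] * M.e ![γ₂ c, 0]) := by group
      _ = _ := by rw [e2_mul, add_zero]
  D_mem := fun l => mul_mem (a₁.D_mem l) (a₂.D_mem l)

variable {g : G} {h : F → F} {D : F → G} {γ : G → F} (a : Act M (F0 V (Kx M) w) g h D γ)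
include a

theorem Act.zero : h 0 = 0 ∧ D 0 = 1 := by
  have h1 := a.e 0 0
  rw [e2_zero, mul_one, mul_inv_cancel] at h1
  have h2 : M.e ![(0 : F), 0] * 1 = M.e ![0 + h 0, 0] * D 0 := by rw [e2_zero, one_mul]; exact h1
  obtain ⟨h3, -, h4⟩ := eu hA (one_mem _) (a.D_mem 0) h2
  exact ⟨by rw [zero_add] at h3; exact h3.symm, h4.symm⟩

theorem Act.add (l l' : F) : h (l + l') = h l + h l' ∧ D (l + l') = D l * D l' := by
  have h1 := a.e 0 (l + l')
  have h2 : M.e ![(0 : F), l + l'] = M.e ![(0 : F), l] * M.e ![(0 : F), l'] := by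
    rw [e2_mul, add_zero]
  have h3 : g * (M.e ![(0 : F), l] * M.e ![(0 : F), l']) * g⁻¹ =
      (g * M.e ![(0 : F), l] * g⁻¹) * (g * M.e ![(0 : F), l'] * g⁻¹) := by group
  rw [h2, h3, a.e, a.e] at h1
  have h4 : M.e ![0 + h l, l] * D l * (M.e ![0 + h l', l'] * D l') = M.e ![h l + h l', l + l'] * (D l * D l') := by
    calc M.e ![0 + h l, l] * D l * (M.e ![0 + h l', l'] * D l')
        = M.e ![0 + h l, l] * (D l * M.e ![0 + h l', l']) * D l' := by group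
      _ = (M.e ![0 + h l, l] * M.e ![0 + h l', l']) * (D l * D l') := by
        rw [F0_comm hA (a.D_mem l) (M.e_mem _)]; group
      _ = _ := by rw [e2_mul, zero_add, zero_add]
  rw [h4] at h1
  obtain ⟨h5, -, h6⟩ := eu hA (mul_mem (a.D_mem l) (a.D_mem l')) (a.D_mem _) h1
  exact ⟨by rw [h5, zero_add], h6.symm⟩

theorem Act.g_add {c c' : G} (hc : c ∈ F0 V (Kx M) w) (hc' : c' ∈ F0 V (Kx M) w) : γ (c * c') = γ c + γ c' := by
  have h1 := a.c _ (mul_mem hc hc')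
  have h2 : g * (c * c') * g⁻¹ = (g * c * g⁻¹) * (g * c' * g⁻¹) := by group
  rw [h2, a.c c hc, a.c c' hc'] at h1
  have h3 : c * M.e ![γ c, 0] * (c' * M.e ![γ c', 0]) = M.e ![γ c + γ c', 0] * (c * c') := by
    calc c * M.e ![γ c, 0] * (c' * M.e ![γ c', 0]) = c * (M.e ![γ c, 0] * c') * M.e ![γ c', 0] := by group
      _ = (c * c') * (M.e ![γ c, 0] * M.e ![γ c', 0]) := by rw [← F0_comm hA hc' (M.e_mem _)]; group
      _ = _ := by rw [e2_mul, add_zero, F0_comm hA (mul_mem hc hc') (M.e_mem _)]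
  rw [h3, F0_comm hA (mul_mem hc hc') (M.e_mem _)] at h1
  obtain ⟨h5, -, -⟩ := eu hA (mul_mem hc hc') (mul_mem hc hc') h1
  exact h5.symm

/-- conjugation by a torus element -/
theorem Act.dil {x : G} {t : F} {ht : t ≠ 0} (hx : x ∈ XK (Kx M)) (hxI : M.Ind x (dg t ht)) :
    Act M (F0 V (Kx M) w) (x * g * x⁻¹) (fun l => t * h (t * l)) (fun l => D (t * l)) (fun c => t * γ c) := by
  have hf : ∀ f ∈ F0 V (Kx M) w, x * f * x⁻¹ = f := by
    intro f hf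
    rw [mem_centralizer_iff.1 (mem_inf.1 hf).2 x hx, mul_inv_cancel_right]
  have hf' : ∀ f ∈ F0 V (Kx M) w, x⁻¹ * f * x = f := by
    intro f hf1
    calc x⁻¹ * f * x = x⁻¹ * (x * f * x⁻¹) * x := by rw [hf f hf1]
      _ = f := by group
  have hi : ∀ r l : F, x⁻¹ * M.e ![r, l] * x = M.e ![t⁻¹ * r, t * l] := by
    intro r l
    have h1 := ind2 hxI (t⁻¹ * r) (t * l)
    rw [dg_00, dg_01, dg_10, dg_11, zero_mul, zero_mul, add_zero, zero_add, mul_inv_cancel_left₀ ht,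
      inv_mul_cancel_left₀ ht] at h1
    rw [← h1]; group
  have hd : ∀ r l : F, x * M.e ![r, l] * x⁻¹ = M.e ![t * r, t⁻¹ * l] := by
    intro r l
    have h1 := ind2 hxI r l
    rw [dg_00, dg_01, dg_10, dg_11, zero_mul, zero_mul, add_zero, zero_add] at h1
    exact h1
  refine ⟨fun r l => ?_, fun c hc => ?_, fun l => a.D_mem _⟩
  · calc x * g * x⁻¹ * M.e ![r, l] * (x * g * x⁻¹)⁻¹ = x * (g * (x⁻¹ * M.e ![r, l] * x) * g⁻¹) * x⁻¹ := by group
      _ = x * (M.e ![t⁻¹ * r + h (t * l), t * l] * D (t * l)) * x⁻¹ := by rw [hi, a.e]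
      _ = (x * M.e ![t⁻¹ * r + h (t * l), t * l] * x⁻¹) * (x * D (t * l) * x⁻¹) := by group
      _ = M.e ![r + t * h (t * l), l] * D (t * l) := by
        rw [hd, hf _ (a.D_mem _), mul_add, mul_inv_cancel_left₀ ht, inv_mul_cancel_left₀ ht]
  · calc x * g * x⁻¹ * c * (x * g * x⁻¹)⁻¹ = x * (g * (x⁻¹ * c * x) * g⁻¹) * x⁻¹ := by group
      _ = (x * c * x⁻¹) * (x * M.e ![γ c, 0] * x⁻¹) := by rw [hf' c hc, a.c c hc]; group
      _ = c * M.e ![t * γ c, 0] := by rw [hd, hf c hc, mul_zero]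

end act

variable [Finite G] [Finite F] [CharP F 2] {Th : Subgroup G} {w : G}

omit [Finite G] [Finite F] [CharP F 2] in
theorem exists_up' (al : AtLine M ![1, 0]) {x : G} (hx : x ∈ QQ (M.line ![1, 0])) : ∃ β : F, M.Ind x (up β) :=
  exists_up (al.QU hx)

/-- **(a) in coordinates** -/
theorem Act.lin (al : AtLine M ![1, 0]) (hA : FA V N (pt M) (Kx M) (i₀ M) Th w)
    {g : G} {h : F → F} {D : F → G} {γ : G → F}
    (a : Act M (F0 V (Kx M) w) g h D γ) (hg : g ∈ AA V (pt M (i₀ M)) (Kx M (i₀ M)) w) (hD : ∀ l, D l = 1) :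
    (∃ β, ∀ l, h l = β * l) ∧ ∀ c ∈ F0 V (Kx M) w, γ c = 0 := by
  have hgV : g ∈ normalizer (V : Set G) := by
    refine mem_normalizer_of_conj fun v hv => ?_
    obtain ⟨r, l, rfl⟩ := exists_e2 (M := M) hv
    rw [a.e, hD, mul_one]
    exact M.e_mem _
  obtain ⟨u, hu, hug⟩ := hA.A_NV hg hgV
  obtain ⟨β, hβ⟩ := exists_up' al (al.KQ hu)
  have hu2 : ∀ r l : F, u * M.e ![r, l] * u⁻¹ = M.e ![r + β * l, l] := by
    intro r l
    have h1 := ind2 hβ r l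
    rw [up_00, up_01, up_10, up_11, one_mul, zero_mul, zero_add, one_mul] at h1
    exact h1
  refine ⟨⟨-β, fun l => ?_⟩, fun c hc => ?_⟩
  · have h1 := mem_centralizer_iff.1 hug _ (V_le_P V w (M.e_mem ![0, l]))
    have h2 : M.e ![0 + h l + β * l, l] = M.e ![0, l] := by
      calc M.e ![0 + h l + β * l, l] = u * (g * M.e ![0, l] * g⁻¹) * u⁻¹ := by rw [a.e, hD, mul_one, hu2]
        _ = (u * g * M.e ![0, l]) * (u * g)⁻¹ := by group
        _ = M.e ![0, l] := by rw [← h1]; group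
    have h3 := (e2_inj h2).1
    linear_combination h3
  · have h1 := mem_centralizer_iff.1 hug _ (F0_le V (Kx M) w hc)
    have huc : u * c = c * u := mem_centralizer_iff.1 (mem_inf.1 hc).2 u (K_le_X (Kx M) (i₀ M) hu)
    have h2 : c * M.e ![γ c, 0] = c := by
      calc c * M.e ![γ c, 0] = c * (u * M.e ![γ c, 0] * u⁻¹) := by rw [hu2, mul_zero, add_zero]
        _ = (c * u) * M.e ![γ c, 0] * u⁻¹ := by group
        _ = u * (c * M.e ![γ c, 0]) * u⁻¹ := by rw [← huc]; group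
        _ = u * (g * c * g⁻¹) * u⁻¹ := by rw [a.c c hc]
        _ = (u * g * c) * (u * g)⁻¹ := by group
        _ = c := by rw [← h1]; group
    have h3 : M.e ![γ c, 0] = M.e ![0, 0] := by
      rw [e2_zero]
      exact mul_left_cancel (h2.trans (mul_one c).symm)
    exact (e2_inj h3).1

/-- the elements of the stability group in coordinates -/
theorem exists_act (hA : FA V N (pt M) (Kx M) (i₀ M) Th w) {g : G}
    (hg : g ∈ AA V (pt M (i₀ M)) (Kx M (i₀ M)) w) :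
    ∃ (h : F → F) (D : F → G) (γ : G → F), Act M (F0 V (Kx M) w) g h D γ := by
  have hline : ∀ r : F, M.e ![r, 0] ∈ pt M (i₀ M) := fun r => line10_iff.2 ⟨r, rfl⟩
  have h1 : ∀ l : F, ∃ r : F, ∃ f ∈ F0 V (Kx M) w, g * M.e ![0, l] * g⁻¹ = M.e ![r, l] * f := by
    intro l
    have h2 := hg.1.1.2 _ (V_le_P V w (M.e_mem ![0, l]))
    obtain ⟨ρ, hρ, f, hf, e⟩ := hA.dec_C h2
    obtain ⟨r, rfl⟩ := line10_iff.1 hρ
    refine ⟨r, f, hf, ?_⟩
    calc g * M.e ![0, l] * g⁻¹ = (g * M.e ![0, l] * g⁻¹ * (M.e ![0, l])⁻¹) * M.e ![0, l] := by group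
      _ = M.e ![r, 0] * (f * M.e ![0, l]) := by rw [e]; group
      _ = (M.e ![r, 0] * M.e ![0, l]) * f := by rw [F0_comm hA hf (M.e_mem _)]; group
      _ = M.e ![r, l] * f := by rw [e2_mul, add_zero, zero_add]
  choose h D hD e using h1
  have h2 : ∀ c ∈ F0 V (Kx M) w, ∃ r : F, g * c * g⁻¹ = c * M.e ![r, 0] := by
    intro c hc
    have h3 := hg.1.2.2 c (hA.F0_le_C hc)
    obtain ⟨r, hr⟩ := line10_iff.1 h3
    refine ⟨r, ?_⟩
    calc g * c * g⁻¹ = (g * c * g⁻¹ * c⁻¹) * c := by group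
      _ = M.e ![r, 0] * c := by rw [hr]
      _ = c * M.e ![r, 0] := (F0_comm hA hc (M.e_mem _)).symm
  classical
  refine ⟨h, D, fun c => if hc : c ∈ F0 V (Kx M) w then (h2 c hc).choose else 0, fun r l => ?_, fun c hc => ?_, hD⟩
  · have h3 : g * M.e ![r, 0] * g⁻¹ = M.e ![r, 0] := by
      rw [← mem_centralizer_iff.1 hg.2 _ (hline r), mul_inv_cancel_right]
    have h4 : M.e ![r, l] = M.e ![r, 0] * M.e ![0, l] := by rw [e2_mul, add_zero, zero_add]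
    calc g * M.e ![r, l] * g⁻¹ = (g * M.e ![r, 0] * g⁻¹) * (g * M.e ![0, l] * g⁻¹) := by rw [h4]; group
      _ = (M.e ![r, 0] * M.e ![h l, l]) * D l := by rw [h3, e]; group
      _ = _ := by rw [e2_mul, zero_add]
  · rw [dif_pos hc]
    exact (h2 c hc).choose_spec

/-- `h` is linear -/
theorem h_lin (al : AtLine M ![1, 0]) (hA : FA V N (pt M) (Kx M) (i₀ M) Th w)
    {g : G} {h : F → F} {D : F → G} {γ : G → F}
    (a : Act M (F0 V (Kx M) w) g h D γ) (hg : g ∈ AA V (pt M (i₀ M)) (Kx M (i₀ M)) w) :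
    (∃ μ, ∀ l, γ (D l) = μ * l) ∧ ∀ l, h l = h 1 * l := by
  have h20 : (2 : F) = 0 := CharTwo.two_eq_zero
  -- `g²`
  obtain ⟨⟨μ, hμ⟩, -⟩ := (Act.mul hA a a).lin al hA (mul_mem hg hg) fun l => F0_sq hA (a.D_mem l)
  have hμ' : ∀ l, γ (D l) = μ * l := fun l => by
    have := hμ l
    linear_combination this - h l * h20
  refine ⟨⟨μ, hμ'⟩, ?_⟩
  have key : ∀ t : F, ∃ c, ∀ l, h (t * l) = t * h l + c * l := by
    intro t
    by_cases ht0 : t = 0
    · exact ⟨0, fun l => by simp [ht0, (Act.zero hA a).1]⟩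
    by_cases ht1 : 1 + t = 0
    · have ht : t = 1 := by linear_combination ht1 - h20
      exact ⟨0, fun l => by rw [ht, one_mul, one_mul, zero_mul, add_zero]⟩
    obtain ⟨x, hx, hxI⟩ := al.ind_X (dg t ht0)
    obtain ⟨y, hy, hyI⟩ := al.ind_X (dg (1 + t) ht1)
    have ax := Act.dil hA a hx hxI
    have ay := Act.dil hA a hy hyI
    have hN : ∀ {x : G} {t : F} {ht : t ≠ 0}, x ∈ XK (Kx M) → M.Ind x (dg t ht) →
        x * g * x⁻¹ ∈ AA V (pt M (i₀ M)) (Kx M (i₀ M)) w := by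
      intro x t ht hx hxI
      refine hA.norm_A (hA.bP hx) ?_ hg
      show x ∈ normalizer (M.line ![1, 0] : Set G)
      rw [← cj_eq_self_iff]
      have e1 : ap (dg t ht) ![1, 0] = t • ![1, 0] := by
        apply ext2
        · rw [ap_zero']; simp
        · rw [ap_one']; simp
      have e2 := M.cj_line_of_ind hxI ![1, 0]
      rw [e1, M.line_smul ht] at e2
      exact e2
    have am := Act.mul hA ax (Act.mul hA a ay)
    have hDD : ∀ l, D ((1 + t) * l) = D l * D (t * l) := fun l => by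
      rw [add_mul, one_mul, (Act.add hA a _ _).2]
    obtain ⟨⟨β, hβ⟩, -⟩ := am.lin al hA (mul_mem (hN hx hxI) (mul_mem hg (hN hy hyI))) fun l => by
      show D (t * l) * (D l * D ((1 + t) * l)) = 1
      rw [hDD]
      have c1 := F0_comm' hA (a.D_mem (t * l)) (mul_mem (a.D_mem l) (a.D_mem l))
      calc D (t * l) * (D l * (D l * D (t * l))) = D (t * l) * (D l * D l) * D (t * l) := by group
        _ = (D l * D l) * (D (t * l) * D (t * l)) := by rw [c1]; group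
        _ = 1 := by rw [F0_sq hA (a.D_mem l), F0_sq hA (a.D_mem _), one_mul]
    refine ⟨β + μ * (1 + t + t * t), fun l => ?_⟩
    have h1 := hβ l
    have h2 : h ((1 + t) * l) = h l + h (t * l) := by rw [add_mul, one_mul, (Act.add hA a _ _).1]
    have h3 : γ (D l * D ((1 + t) * l)) = γ (D l) + γ (D ((1 + t) * l)) :=
      Act.g_add hA a (a.D_mem _) (a.D_mem _)
    simp only [h2, h3, hμ'] at h1
    linear_combination h1 - (t * h l + t * h (t * l) + h l + μ * l * (1 + 2 * t + t * t)) * h20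
  -- `h (t² l) = t² h l`
  intro l
  obtain ⟨t, ht⟩ : ∃ t : F, l = t * t := FiniteField.isSquare_of_char_two (ringChar.eq F 2) _
  obtain ⟨c, hc⟩ := key t
  have h1 := hc (t * 1)
  have h2 := hc 1
  have e : l = t * (t * 1) := by rw [ht, mul_one]
  rw [e, h1, h2]
  linear_combination (c * t) * h20

/-- **`h = 0`** -/
theorem exists_h0 (al : AtLine M ![1, 0]) (hA : FA V N (pt M) (Kx M) (i₀ M) Th w)
    {δ : G} (hδ : δ ∈ AA V (pt M (i₀ M)) (Kx M (i₀ M)) w)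
    (hon : ∀ f ∈ F0 V (Kx M) w, ∃ u ∈ V, ∃ v ∈ V, f = v * (δ * u * δ⁻¹)) :
    ∃ (δ' : G) (D : F → G) (γ : G → F), Act M (F0 V (Kx M) w) δ' (fun _ => 0) D γ ∧
      (∃ μ, ∀ l, γ (D l) = μ * l) ∧ ∀ f ∈ F0 V (Kx M) w, ∃ l, D l = f := by
  have h20 : (2 : F) = 0 := CharTwo.two_eq_zero
  obtain ⟨h, D, γ, a⟩ := exists_act hA hδ
  obtain ⟨⟨μ, hμ⟩, hh⟩ := h_lin al hA a hδ
  obtain ⟨t, ht, htI⟩ := al.full (up (h 1)) (ap_up_e _)
  have hta : Act M (F0 V (Kx M) w) t (fun l => h 1 * l) (fun _ => 1) (fun _ => 0) := by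
    refine ⟨fun r l => ?_, fun c hc => ?_, fun l => one_mem _⟩
    · have h1 := ind2 htI r l
      rw [up_00, up_01, up_10, up_11, one_mul, zero_mul, zero_add, one_mul] at h1
      rw [h1, mul_one]
    · have h1 : t * c = c * t := mem_centralizer_iff.1 (mem_inf.1 hc).2 t (K_le_X (Kx M) (i₀ M) ht)
      rw [h1, mul_inv_cancel_right, e2_zero, mul_one]
  have am := Act.mul hA hta a
  refine ⟨t * δ, D, γ, ?_, ⟨μ, hμ⟩, fun f hf => ?_⟩
  · refine ⟨fun r l => ?_, fun c hc => ?_, a.D_mem⟩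
    · have h1 := am.e r l
      rw [one_mul] at h1
      rw [h1]
      congr 3
      rw [hh l]
      linear_combination h 1 * l * h20
    · have h1 := am.c c hc
      simp only [zero_add] at h1
      exact h1
  · obtain ⟨u, hu, v, hv, e⟩ := hon f hf
    obtain ⟨r, l, rfl⟩ := exists_e2 (M := M) hu
    obtain ⟨r', l', rfl⟩ := exists_e2 (M := M) hv
    refine ⟨l, ?_⟩
    rw [a.e] at e
    have h1 : M.e ![(0 : F), 0] * f = M.e ![r' + (r + h l), l' + l] * D l := by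
      rw [e2_zero, one_mul, e, ← mul_assoc, e2_mul]
    exact (eu hA hf (a.D_mem l) h1).2.2.symm

/-- **`γ = 0`** -/
theorem gamma_zero (al : AtLine M ![1, 0]) (hA : FA V N (pt M) (Kx M) (i₀ M) Th w)
    {δ : G} {D : F → G} {γ : G → F} (a : Act M (F0 V (Kx M) w) δ (fun _ => 0) D γ)
    (hμ : ∃ μ, ∀ l, γ (D l) = μ * l) (hon : ∀ f ∈ F0 V (Kx M) w, ∃ l, D l = f) :
    ∀ c ∈ F0 V (Kx M) w, γ c = 0 := by
  obtain ⟨μ, hμ⟩ := hμ
  have h20 : (2 : F) = 0 := CharTwo.two_eq_zero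
  by_cases hμ0 : μ = 0
  · intro c hc
    obtain ⟨l, rfl⟩ := hon c hc
    rw [hμ, hμ0, zero_mul]
  intro c hc
  have al1 := al.all vec10_ne (vec01_ne (F := F))
  obtain ⟨k, hk, hkI⟩ := al1.full (lo 1) (by
    apply ext2
    · rw [ap_zero']; simp
    · rw [ap_one']; simp)
  let i₁ : Pt M := ⟨M.line ![0, 1], ![0, 1], vec01_ne, rfl⟩
  have hKX : KX (M.line ![0, 1]) ≤ XK (Kx M) := K_le_X (Kx M) i₁
  have hk2 : ∀ r l : F, k * M.e ![r, l] * k⁻¹ = M.e ![r, r + l] := by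
    intro r l
    have h1 := ind2 hkI r l
    rw [lo_00, lo_01, lo_10, lo_11, one_mul, zero_mul, add_zero, one_mul] at h1
    rw [h1]
  have hkf : ∀ f ∈ F0 V (Kx M) w, k * f * k⁻¹ = f := by
    intro f hf
    rw [mem_centralizer_iff.1 (mem_inf.1 hf).2 k (hKX hk), mul_inv_cancel_right]
  -- `k` centralises `L^δ`
  have hkN : k ∈ normalizer (cj δ (KX (M.line ![0, 1])) : Set G) := by
    rw [cj_KX]
    apply normalizer_le_normalizer_KX
    apply centralizer_le_normalizer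
    rw [mem_centralizer_iff]
    intro y hy
    obtain ⟨l, hl⟩ := line01_iff.1 (mem_cj.1 hy)
    have h1 : y = M.e ![0, l] * D l := by
      have h2 := a.e 0 l
      rw [add_zero] at h2
      rw [← h2, hl]; group
    have h3 : k * y * k⁻¹ = y := by
      calc k * y * k⁻¹ = (k * M.e ![0, l] * k⁻¹) * (k * D l * k⁻¹) := by rw [h1]; group
        _ = y := by rw [hk2, hkf _ (a.D_mem l), zero_add, h1]
    rw [mul_inv_eq_iff_eq_mul] at h3
    exact h3.symm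
  -- `c' = δ c δ⁻¹`
  have hc' : δ * c * δ⁻¹ ∈ centralizer (cj δ (KX (M.line ![0, 1])) : Set G) := by
    rw [centralizer_cj, mem_cj]
    have e : δ⁻¹ * (δ * c * δ⁻¹) * δ = c := by group
    rw [e]
    exact centralizer_le hKX (mem_inf.1 hc).2
  have hz : M.e ![0, γ c] ∈ centralizer (cj δ (KX (M.line ![0, 1])) : Set G) := by
    have h1 := mul_mem (conj_mem_of_normalizer (normalizer_le_normalizer_centralizer _ hkN) hc') (inv_mem hc')
    have h2 : k * (δ * c * δ⁻¹) * k⁻¹ * (δ * c * δ⁻¹)⁻¹ = M.e ![0, γ c] := by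
      rw [a.c c hc]
      calc k * (c * M.e ![γ c, 0]) * k⁻¹ * (c * M.e ![γ c, 0])⁻¹
          = (k * c * k⁻¹) * (k * M.e ![γ c, 0] * k⁻¹) * (M.e ![γ c, 0])⁻¹ * c⁻¹ := by group
        _ = c * (M.e ![γ c, γ c] * (M.e ![γ c, 0])⁻¹) * c⁻¹ := by rw [hkf c hc, hk2, add_zero]; group
        _ = c * M.e ![0, γ c] * c⁻¹ := by
          have h3 : M.e ![γ c, γ c] * (M.e ![γ c, 0])⁻¹ = M.e ![0, γ c] := by
            rw [mul_inv_eq_iff_eq_mul, e2_mul, zero_add, add_zero]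
          rw [h3]
        _ = M.e ![0, γ c] := by rw [F0_comm hA hc (M.e_mem _), mul_inv_cancel_right]
    rwa [h2] at h1
  rw [centralizer_cj, mem_cj] at hz
  -- `δ⁻¹ (0, l) δ = (μ l, l) D(l)`
  set l := γ c with hl
  have hD2 := F0_sq hA (a.D_mem l)
  have h1 : δ⁻¹ * M.e ![0, l] * δ = M.e ![μ * l, l] * D l := by
    have h2 : δ * (M.e ![μ * l, l] * D l) * δ⁻¹ = M.e ![0, l] := by
      calc δ * (M.e ![μ * l, l] * D l) * δ⁻¹ = (δ * M.e ![μ * l, l] * δ⁻¹) * (δ * D l * δ⁻¹) := by group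
        _ = (M.e ![μ * l, l] * D l) * (D l * M.e ![μ * l, 0]) := by
          rw [a.e, a.c _ (a.D_mem l), hμ, add_zero]
        _ = M.e ![μ * l, l] * (D l * D l) * M.e ![μ * l, 0] := by group
        _ = M.e ![μ * l + μ * l, l + 0] := by rw [hD2, mul_one, e2_mul]
        _ = M.e ![0, l] := by
          have h3 : μ * l + μ * l = 0 := by linear_combination (μ * l) * h20
          rw [h3, add_zero]
    rw [← h2]; group
  rw [h1] at hz
  have h2 := mem_centralizer_iff.1 hz k hk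
  have h3 : k * (M.e ![μ * l, l] * D l) * k⁻¹ = M.e ![μ * l, l] * D l := by rw [h2, mul_inv_cancel_right]
  have h4 : M.e ![μ * l, μ * l + l] * D l = M.e ![μ * l, l] * D l := by
    calc M.e ![μ * l, μ * l + l] * D l = (k * M.e ![μ * l, l] * k⁻¹) * (k * D l * k⁻¹) := by
          rw [hk2, hkf _ (a.D_mem l)]
      _ = k * (M.e ![μ * l, l] * D l) * k⁻¹ := by group
      _ = _ := h3
  have h5 := (eu hA (a.D_mem l) (a.D_mem l) h4).2.1
  have h6 : μ * l = 0 := by linear_combination h5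
  exact (mul_eq_zero.1 h6).resolve_left hμ0

/-- **some element of `NF` moves `R i`** -/
theorem exists_N (al : AtLine M ![1, 0]) (hA : FA V N (pt M) (Kx M) (i₀ M) Th w) (h4 : 4 ≤ Nat.card F) :
    ∃ n ∈ NF V (Kx M) w, n ∉ normalizer (pt M (i₀ M) : Set G) := by
  obtain ⟨δ₀, hδ₀, hon₀⟩ := hA.exists_delta al.fq (al.h4 h4)
  obtain ⟨δ, D, γ, a, hμ, hon⟩ := exists_h0 al hA hδ₀ hon₀
  have hγ := gamma_zero al hA a hμ hon
  -- `F0 ≠ 1`
  obtain ⟨f, hf, hf1⟩ : ∃ f ∈ F0 V (Kx M) w, f ≠ 1 := by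
    by_contra hcon
    push Not at hcon
    apply hA.wV
    refine eq_of_le_of_card_ge ?_ (by rw [card_cj])
    intro v hv
    obtain ⟨v', hv', f, hf, e⟩ := hA.dec (V'_le_P V w hv)
    rw [hcon f hf, mul_one] at e
    rw [e]; exact hv'
  obtain ⟨l, rfl⟩ := hon f hf
  obtain ⟨A, hAe⟩ := exists_ap (vec01_ne (F := F)) vec10_ne
  obtain ⟨x, hx, hxI⟩ := al.ind_X A
  have hxe : ∀ c : F, x * M.e ![0, c] * x⁻¹ = M.e ![c, 0] := by
    intro c
    have e1 : (![0, c] : Fin 2 → F) = c • ![0, 1] := by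
      apply ext2 <;> simp
    have e2 : (![c, 0] : Fin 2 → F) = c • ![1, 0] := by
      apply ext2 <;> simp
    rw [e1, e2, hxI, ap_smul, hAe]
  have hxf : ∀ f ∈ F0 V (Kx M) w, x * f * x⁻¹ = f := by
    intro f hf
    rw [mem_centralizer_iff.1 (mem_inf.1 hf).2 x hx, mul_inv_cancel_right]
  have hxf' : ∀ f ∈ F0 V (Kx M) w, x⁻¹ * f * x = f := by
    intro f hf1
    calc x⁻¹ * f * x = x⁻¹ * (x * f * x⁻¹) * x := by rw [hxf f hf1]
      _ = f := by group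
  have hδc : ∀ f ∈ F0 V (Kx M) w, δ * f * δ⁻¹ = f := by
    intro f hf
    rw [a.c f hf, hγ f hf, e2_zero, mul_one]
  have hnc : ∀ f ∈ F0 V (Kx M) w, (x * δ * x⁻¹) * f * (x * δ * x⁻¹)⁻¹ = f := by
    intro f hf
    calc (x * δ * x⁻¹) * f * (x * δ * x⁻¹)⁻¹ = x * (δ * (x⁻¹ * f * x) * δ⁻¹) * x⁻¹ := by group
      _ = f := by rw [hxf' f hf, hδc f hf, hxf f hf]
  have hcen : x * δ * x⁻¹ ∈ centralizer (F0 V (Kx M) w : Set G) := by
    rw [mem_centralizer_iff]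
    intro f hf
    have h1 := hnc f hf
    rw [mul_inv_eq_iff_eq_mul] at h1
    exact h1.symm
  refine ⟨x * δ * x⁻¹, mem_inf.2 ⟨⟨centralizer_le_normalizer _ hcen, fun y hy => ?_⟩, hcen⟩, fun hn => ?_⟩
  · obtain ⟨v, hv, f, hf, rfl⟩ := hA.dec hy
    rw [comm_mul (by
      have h1 := hnc f hf
      rw [mul_inv_eq_iff_eq_mul] at h1
      exact h1)]
    obtain ⟨r, c, hrc⟩ := exists_e2 (M := M) (conj_inv_mem_of_normalizer (hA.bt.X_le_NV hx) hv)
    have h1 : x * δ * x⁻¹ * v * (x * δ * x⁻¹)⁻¹ * v⁻¹ = D c := by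
      calc x * δ * x⁻¹ * v * (x * δ * x⁻¹)⁻¹ * v⁻¹ = x * (δ * (x⁻¹ * v * x) * δ⁻¹) * x⁻¹ * v⁻¹ := by group
        _ = x * (x⁻¹ * v * x * D c) * x⁻¹ * v⁻¹ := by rw [← hrc, a.e, add_zero]
        _ = v * (x * D c * x⁻¹) * v⁻¹ := by group
        _ = D c := by
          rw [hxf _ (a.D_mem c), ← F0_comm hA (a.D_mem c) hv, mul_inv_cancel_right]
    rw [h1]
    exact a.D_mem c
  · have h1 : M.e ![l, 0] ∈ pt M (i₀ M) := line10_iff.2 ⟨l, rfl⟩
    have h2 := conj_mem_of_normalizer hn h1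
    have h3 : x * δ * x⁻¹ * M.e ![l, 0] * (x * δ * x⁻¹)⁻¹ = M.e ![l, 0] * D l := by
      have h4 : x⁻¹ * M.e ![l, 0] * x = M.e ![0, l] := by rw [← hxe]; group
      calc x * δ * x⁻¹ * M.e ![l, 0] * (x * δ * x⁻¹)⁻¹ = x * (δ * (x⁻¹ * M.e ![l, 0] * x) * δ⁻¹) * x⁻¹ := by group
        _ = (x * M.e ![0, l] * x⁻¹) * (x * D l * x⁻¹) := by rw [h4, a.e, add_zero]; group
        _ = _ := by rw [hxe, hxf _ (a.D_mem l)]
    rw [h3] at h2
    have h4 : D l ∈ V := by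
      have h5 := mul_mem (inv_mem (M.e_mem ![l, 0])) (M.pt_le _ h2)
      rwa [inv_mul_cancel_left] at h5
    exact hf1 (hA.V_F0 h4 (a.D_mem l))

end rmod

end Cfsg.Agent.Omega.IId.CvBig.Four
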