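import Cfsg.Agent.Omega.IId.CvBig.Cut
import Cfsg.Agent.Omega.IId.Cv.OneD
import Cfsg.Agent.Omega.IId.Cv.Four
import Cfsg.Agent.Omega.IId.Cv.OneTwo

/-!
# CvBig, `k' = 1`, `V'` unmixed: `BigOne2`, `BigOne4`

* `exists_vec_cent` : an element of `C_{V_i}(stab M i)` is the component of an element of `C_V(S)`, any `k`;
* `card_zc_ge` : `|C_R(T)| |D| ≤ |Ω₁(Z(S))|`, any `k`;
* `D'_ne_bot` : `D' ≠ 1` for `k' = 1`;
* `bigOne2`, `bigOne4`.
-/

set_option autoImplicit false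
set_option linter.unusedSectionVars false

namespace Cfsg.Agent.Omega.IId.CvBig

open Subgroup Cfsg
open Cfsg.Agent.ZN (o2 zc zl)
open Cfsg.Agent.Lib.SL2Mat Cfsg.Agent.MinSimple
open Cfsg.Agent.Omega.MinPar Cfsg.Agent.Omega.FFThm
open Cfsg.Agent.Omega.Frame (Cls)
open Cfsg.Agent.Omega.IId.M4 (exists_cj_eq)
open Cfsg.Agent.Omega.IId.Cv

universe u

section vec

open Cfsg.Agent.ZN.ChoiceBase

variable {G : Type u} [Group G] {F : Type} [Field F] {S P V : Subgroup G} {k : ℕ} (N : NatV F S P V k)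

/-- The norm of `f ∈ C_{V_i}(stab N i)`. -/
theorem exists_vec_cent (hSP : S ≤ P) {i : Fin k} {f : G} (hf : f ∈ NV.fac N i) (hc : ∀ t ∈ NV.stab N i, t * f = f * t) :
    ∃ z ∈ V, N.e z i = N.e f i ∧ ∀ s ∈ S, s * z = z * s := by
  choose s hs hsl using fun l => NV.exists_trans N hSP i l
  have key : ∀ x ∈ S, ∀ l, ∀ y ∈ S, cj y (NV.fac N i) = NV.fac N l → cj x (NV.fac N i) = NV.fac N l →
      x * f * x⁻¹ = y * f * y⁻¹ := by
    intro x hx l y hy h1 h2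
    have h3 : y⁻¹ * x ∈ NV.stab N i := by
      refine mem_inf.2 ⟨mul_mem (inv_mem hy) hx, ?_⟩
      rw [mem_normalizer_iff_cj, ← cj_cj, h2, ← h1, cj_cj, inv_mul_cancel, cj_one]
    have h4 := hc _ h3
    calc x * f * x⁻¹ = y * (y⁻¹ * x * f) * x⁻¹ := by group
      _ = y * (f * (y⁻¹ * x)) * x⁻¹ := by rw [h4]
      _ = y * f * y⁻¹ := by group
  have ha : ∀ l, s l * f * (s l)⁻¹ ∈ NV.fac N l := by
    intro l
    rw [← hsl l, mem_cj]
    have e : (s l)⁻¹ * (s l * f * (s l)⁻¹) * s l = f := by group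
    rwa [e]
  obtain ⟨z, hz, hez⟩ := N.surj fun l => N.e (s l * f * (s l)⁻¹) l
  refine ⟨z, hz, ?_, fun t ht => ?_⟩
  · rw [hez]
    have h1 : s i * f * (s i)⁻¹ = 1 * f * 1⁻¹ := key _ (hs i) i 1 (one_mem _) (cj_one _) (hsl i)
    simp only [one_mul, inv_one, mul_one] at h1
    simp only [h1]
  · have hzt : t * z * t⁻¹ = z := by
      refine NV.e_inj N (NV.cj_mem N (hSP ht) hz) hz (funext fun j => ?_)
      obtain ⟨l, rfl⟩ := (NV.sg N (hSP ht)).surjective j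
      have h0 : N.e ((s l * f * (s l)⁻¹)⁻¹ * z) l = 0 := by
        rw [N.mul _ (inv_mem (ha l).1) _ hz, NV.e_inv N (ha l).1, hez, Pi.add_apply, Pi.neg_apply, neg_add_cancel]
      have h1 := (NV.sg_spec N (hSP ht) (mul_mem (inv_mem (ha l).1) hz) l).2 h0
      have e1 : t * ((s l * f * (s l)⁻¹)⁻¹ * z) * t⁻¹ = (t * s l * f * (t * s l)⁻¹)⁻¹ * (t * z * t⁻¹) := by group
      have h2 : t * s l * f * (t * s l)⁻¹ = s (NV.sg N (hSP ht) l) * f * (s (NV.sg N (hSP ht) l))⁻¹ := by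
        refine key _ (mul_mem ht (hs l)) _ _ (hs _) (hsl _) ?_
        rw [← cj_cj, hsl l, ← NV.sg_eq_iff N (hSP ht)]
      rw [e1, h2, N.mul _ (inv_mem (ha _).1) _ (NV.cj_mem N (hSP ht) hz), NV.e_inv N (ha _).1, Pi.add_apply,
        Pi.neg_apply, neg_add_eq_zero] at h1
      rw [← h1, hez]
    calc t * z = t * z * t⁻¹ * t := by group
      _ = z * t := by rw [hzt]

end vec

section one

open Cfsg.Agent.Omega.IId.NV (zl_le_zz o2_le_S SP V_le_S inf_D S_le_line fac_one exists_sylow_over)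
open Cfsg.Agent.Omega.BTwo (cj mem_cj cj_mono cj_eq_self_iff conj_mem_cj card_cj)

variable {G : Type u} [Group G] [Finite G] {F F' : Type} [Field F] [Finite F] [CharP F 2] [Field F'] [Finite F']
  [CharP F' 2] {S S' : Sylow 2 G} {P P' V V' D D' : Subgroup G} {k : ℕ} (M : NatD F S P V D k)

theorem D_le_zcS (M : NatD F S P V D k) : D ≤ zc (S : Subgroup G) := by
  intro d hd
  have h1 := (zl_le_zz M) (M.D_le hd)
  rw [VModule.mem_zc]
  refine ⟨o2_le_S M (VModule.zc_le _ h1), fun t ht => ?_, (VModule.mem_zc.1 h1).2.2⟩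
  exact (mem_centralizer_iff.1 (M.cD (SP M ht)) d hd).symm

/-- `|C_R(T)| |D| ≤ |Ω₁(Z(S))|`, `T = stab M i`, `R = line M i`, any `k` -/
theorem card_zc_ge (i : Fin k) :
    Nat.card (NV.line M.toNatV i ⊓ centralizer (NV.stab M.toNatV i : Set G) : Subgroup G) * Nat.card D ≤
      Nat.card (zc (S : Subgroup G)) := by
  have hex : ∀ f : (NV.line M.toNatV i ⊓ centralizer (NV.stab M.toNatV i : Set G) : Subgroup G),
      ∃ z ∈ V, M.e z i = M.e (f : G) i ∧ ∀ s ∈ (S : Subgroup G), s * z = z * s := fun f =>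
    exists_vec_cent M.toNatV (SP M) (NV.line_le _ _ f.2.1) fun t ht => mem_centralizer_iff.1 f.2.2 t ht
  choose z hzV hze hzc using hex
  rw [← Nat.card_prod]
  refine Nat.card_le_card_of_injective (fun p => (⟨z p.1 * p.2, mul_mem (VModule.mem_zc.2
    ⟨V_le_S M (hzV p.1), hzc p.1, by rw [pow_two]; exact NV.sq M.toNatV (hzV p.1)⟩) (D_le_zcS M p.2.2)⟩ :
      zc (S : Subgroup G))) ?_
  rintro ⟨p, q⟩ ⟨p', q'⟩ heq
  have h4 : z p * q = z p' * q' := congrArg Subtype.val heq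
  have h5 : (z p')⁻¹ * z p = q' * (q : G)⁻¹ := by
    calc (z p')⁻¹ * z p = (z p')⁻¹ * (z p * q) * (q : G)⁻¹ := by group
      _ = (z p')⁻¹ * (z p' * q') * (q : G)⁻¹ := by rw [h4]
      _ = q' * (q : G)⁻¹ := by group
  have h6 : (z p')⁻¹ * z p = 1 := inf_D (M := M)
    (mul_mem (inv_mem (hzV p')) (hzV p)) (by rw [h5]; exact mul_mem q'.2 (inv_mem q.2))
  have h7 : (q' : G) = q := by
    rw [h6] at h5
    exact mul_inv_eq_one.1 h5.symm
  have h8 : z p' = z p := inv_mul_eq_one.1 h6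
  have h9 : (p : G) = p' := by
    refine NV.ext_fac M.toNatV (NV.line_le _ _ p.2.1) (NV.line_le _ _ p'.2.1) ?_
    rw [← hze p, ← hze p', h8]
  exact Prod.ext (Subtype.ext h9) (Subtype.ext h7.symm)

/-- **`D' ≠ 1`** for `k' = 1`, any `k` -/
theorem D'_ne_bot (M' : NatD F' S' P' V' D' 1) {i : Fin k} {i' : Fin 1}
    (hl : NV.line M.toNatV i = NV.line M'.toNatV i') (hD : D ≠ ⊥ ∨ D' ≠ ⊥) : D' ≠ ⊥ := by
  have : Fact (Nat.Prime 2) := ⟨Nat.prime_two⟩
  intro hD'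
  have hD1 : D ≠ ⊥ := hD.resolve_right fun h => h hD'
  have hS'R : (S' : Subgroup G) ≤ normalizer (NV.line M.toNatV i : Set G) := by
    rw [hl]; exact S_le_line M' i'
  have hT2 : IsPGroup 2 (NV.stab M.toNatV i) := S.isPGroup'.to_le (NV.stab_le _ _)
  obtain ⟨Q, hTQ, hQN⟩ := exists_sylow_over (T₁ := S') hT2 (NV.stab_normalizes_line M.toNatV (SP M) i) hS'R
  obtain ⟨g, hg, hgQ⟩ := exists_cj_eq hS'R hQN S'.isPGroup' Q.isPGroup' (MinSimple.Basic.not_dvd_relIndex S' hS'R)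
    (MinSimple.Basic.not_dvd_relIndex Q hQN)
  have hgR : cj g (NV.line M.toNatV i) = NV.line M.toNatV i := cj_eq_self_iff.2 hg
  -- `Ω₁(Z(S')) ≤ (C_R(T))^g`
  have h1 : zc (S' : Subgroup G) ≤ cj g (NV.line M.toNatV i ⊓ centralizer (NV.stab M.toNatV i : Set G)) := by
    intro z hz
    have hzV : z ∈ V' := by
      obtain ⟨n, hn, d, hd, rfl⟩ := M'.dec z (VModule.zc_le_zl _ _ hz)
      rw [hD', mem_bot] at hd
      subst hd
      rwa [mul_one]
    have hzR : z ∈ NV.line M.toNatV i := by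
      rw [hl]
      refine NV.fix_le_line M'.toNatV (SP M') (by rwa [fac_one M' i']) fun t ht => ?_
      exact (VModule.mem_zc.1 hz).2.1 t (NV.stab_le _ _ ht)
    rw [mem_cj]
    refine mem_inf.2 ⟨?_, mem_centralizer_iff.2 fun t ht => ?_⟩
    · rw [← mem_cj, hgR]; exact hzR
    · have h2 : g * t * g⁻¹ ∈ (S' : Subgroup G) := by
        rw [← hgQ]; exact conj_mem_cj (hTQ ht)
      have h3 := (VModule.mem_zc.1 hz).2.1 _ h2
      calc t * (g⁻¹ * z * g) = g⁻¹ * (g * t * g⁻¹ * z) * g := by group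
        _ = g⁻¹ * (z * (g * t * g⁻¹)) * g := by rw [h3]
        _ = g⁻¹ * z * g * t := by group
  have h2 := Subgroup.card_le_of_le h1
  rw [card_cj] at h2
  have h3 := card_zc_ge M i
  have h4 : Nat.card (zc (S' : Subgroup G)) = Nat.card (zc (S : Subgroup G)) :=
    Half.card_zc_of_card_eq S S'.isPGroup' (by rw [S.card_eq_multiplicity, S'.card_eq_multiplicity])
  have h5 : 1 < Nat.card D := (Subgroup.one_lt_card_iff_ne_bot _).2 hD1
  have h6 : 0 < Nat.card (NV.line M.toNatV i ⊓ centralizer (NV.stab M.toNatV i : Set G) : Subgroup G) := Nat.card_pos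
  nlinarith

end one

open Cfsg.Agent.Omega.IId.NV (pos_one)
open Cfsg.Agent.Omega.NatPair (NatMod)
open Cfsg.Agent.Omega.HOne.Cut (TS0 Three0 More0 EndL known_of_pos)

/-- **`BigOne2`** : `k' = 1`, `V'` unmixed, `q = 2`. -/
theorem bigOne2 {K : Cls.{u}} (hT : TS0.{u, u}) (h3 : Three0.{u, u}) (hm : More0.{u, u})
    (hE : EndL.{u}) : BigOne2 K := by
  intro G _ _ S S' hH P P' hp F F' _ _ _ _ _ _ V V' D D' k M M' hk hC hD i i' L hu hF
  have hL := lineD_of_ent L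
  have hF' : Nat.card F' = 2 := hL.card.trans hF
  have hD' : D' ≠ ⊥ := D'_ne_bot M M' hL.eq' hD
  obtain ⟨N, P₁, o, r, z, p⟩ := pos_one M' hF' hD' hu
  exact known_of_pos hT h3 hm hE (hH.conj S').ctx (hH.conj S').full (hH.conj S').allIn p

/-- **`BigOne4`** : `k' = 1`, `V'` unmixed, `q ≥ 4`. -/
theorem bigOne4 {K : Cls.{u}} (hC : ChainT.{u}) (hE : EndL.{u}) : BigOne4 K := by
  intro G _ _ S S' hH P P' hp F F' _ _ _ _ _ _ V V' D D' k M M' hk hCC hDD i i' L hu h4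
  have hL := lineD_of_ent L
  have hD := D'_ne_bot M M' hL.eq' hDD
  obtain ⟨N, e⟩ := NV.bts_of_one M' (NV.nm_of_unM M' (Or.inl rfl) i' hu) hu
  obtain ⟨o, ho⟩ : ∃ o, BTwo.pt N o = NV.line M'.toNatV i' := ⟨⟨N.line ![1, 0], _, vec_one_ne, rfl⟩, e.line⟩
  refine known_four hC hE (hH.conj S').toHyp (hL.card ▸ h4) N e.bts (o := o)
    ((NV.SP M').trans (NV.P_le_fac M' i')) ?_ fun h => hD (le_bot_iff.1 (e.cenD.trans h.le))
  rw [ho]
  exact NV.S_le_line M' i'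

end Cfsg.Agent.Omega.IId.CvBig
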