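import Cfsg.Agent.Omega.IId.CvBig.FourBase
import Cfsg.Agent.Omega.IId.CvBig.One

/-!
# CvBig, CASE 2a, all `q`, `k ≥ 3`: the vector `x` (text: helper796 (2); typed by helper916)

* `exists_x_fr` : `1 ≠ x ∈ A ∩ C(X i)`, if `T` centralises `A` and `|C_{V_i}(T)| < |A|`;
* `exists_x` : `1 ≠ x ∈ Ω₁(Z(S₁)) ∩ C(X i)`, `S₁ ≥ stab M i` Sylow, `D ≠ 1`, any `k ≥ 2`.
-/

set_option autoImplicit false
set_option linter.unusedSectionVars false

namespace Cfsg.Agent.Omega.IId.CvBig.Four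

open Subgroup Cfsg.Agent.Omega.BTwo Cfsg.Agent.Omega.IId.Cv.TwoFour

universe u

theorem exists_x_fr {G : Type*} [Group G] [Finite G] {κ : Type*} [Finite κ] {ι : κ → Type*}
    {Vf Lf : κ → Subgroup G} {R K : ∀ l, ι l → Subgroup G} {Q : Subgroup G} (h : Fr Vf Lf R K Q) {i l : κ}
    (hl : l ≠ i) {a : ι i} {T A : Subgroup G} (hTL : T ≤ Lf i) (hQT : Q ≤ T) (hQQ : QQ (R i a) ≤ T)
    (hAT : ∀ x ∈ A, ∀ t ∈ T, t * x = x * t)
    (hcard : Nat.card (Vf i ⊓ centralizer (T : Set G) : Subgroup G) < Nat.card A) :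
    ∃ x ∈ A, x ≠ 1 ∧ x ∈ Wh Vf K Q ∧ x ∈ centralizer (XK (K i) : Set G) := by
  have k := h.kt i
  have hAW : A ≤ Wh Vf K Q := by
    intro y hy
    have h1 : ∀ q ∈ QQ (R i a), y * q = q * y := fun q hq => (hAT y hy q (hQQ hq)).symm
    have h2 : y ∈ QQ (R i a) := by
      refine h.ch i a (mem_inf.2 ⟨centralizer_le_normalizer _ (mem_centralizer_iff.2 fun r hr => ?_),
        mem_centralizer_iff.2 fun q hq => (h1 q hq).symm⟩)
      exact (h1 r ((k.R_le a).trans (k.V_Q a) hr)).symm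
    exact h.Vm hl (mem_Uc h2 h1) (mem_centralizer_iff.2 fun q hq => hAT y hy q (hQT hq))
  have hex : ∀ x : A, ∃ v : (Vf i ⊓ centralizer (T : Set G) : Subgroup G),
      (v : G)⁻¹ * (x : G) ∈ centralizer (XK (K i) : Set G) := by
    intro x
    obtain ⟨v, hv, hc⟩ := h.dec (hAW x.2) i
    refine ⟨⟨v, mem_inf.2 ⟨hv, mem_centralizer_iff.2 fun t ht => ?_⟩⟩, hc⟩
    have htV : t ∈ normalizer (Vf i : Set G) := k.L_V (hTL ht)
    have htX := k.L_le_NX (hTL ht)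
    have h1 : t * v * t⁻¹ ∈ Vf i := conj_mem_of_normalizer htV hv
    have h2 : t * (v⁻¹ * x) * t⁻¹ ∈ centralizer (XK (K i) : Set G) :=
      conj_mem_of_normalizer (normalizer_le_normalizer_centralizer _ htX) hc
    have h3 : v⁻¹ * (t * v * t⁻¹) ∈ centralizer (XK (K i) : Set G) := by
      have h4 := hAT x x.2 t ht
      have e : v⁻¹ * (t * v * t⁻¹) = (v⁻¹ * x) * (t * (v⁻¹ * x) * t⁻¹)⁻¹ := by
        calc v⁻¹ * (t * v * t⁻¹) = v⁻¹ * (x * t) * (t⁻¹ * (x : G)⁻¹ * t) * v * t⁻¹ := by group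
          _ = v⁻¹ * (x * t) * (x * t)⁻¹ * t * v * t⁻¹ := by group
          _ = (v⁻¹ * x) * (t * (v⁻¹ * x) * t⁻¹)⁻¹ := by
            have h5 : (x : G)⁻¹ * t * v = (x : G)⁻¹ * t * v := rfl
            have h6 : t * (v⁻¹ * (x : G)) * t⁻¹ = t * v⁻¹ * t⁻¹ * x := by
              calc t * (v⁻¹ * (x : G)) * t⁻¹ = t * v⁻¹ * t⁻¹ * (t * x) * t⁻¹ := by group
                _ = _ := by rw [h4]; group
            rw [h6]; group
      rw [e]
      exact mul_mem hc (inv_mem h2)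
    have h5 := h.uniq (mul_mem (inv_mem hv) h1) h3
    have h6 : v = t * v * t⁻¹ := inv_mul_eq_one.1 h5
    calc t * v = t * v * t⁻¹ * t := by group
      _ = v * t := by rw [← h6]
  choose φ hφ using hex
  by_contra hcon
  push Not at hcon
  refine absurd (Nat.card_le_card_of_injective φ fun x y hxy => ?_) (not_le.2 hcard)
  have h1 : (y : G)⁻¹ * x ∈ centralizer (XK (K i) : Set G) := by
    have e : (y : G)⁻¹ * x = ((φ y : G)⁻¹ * y)⁻¹ * ((φ x : G)⁻¹ * x) := by rw [hxy]; group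
    rw [e]
    exact mul_mem (inv_mem (hφ y)) (hφ x)
  have h2 : (y : G)⁻¹ * x = 1 := by
    by_contra h3
    exact hcon _ (mul_mem (inv_mem y.2) x.2) h3 (hAW (mul_mem (inv_mem y.2) x.2)) h1
  exact Subtype.ext (inv_mul_eq_one.1 h2).symm

section nat

open Cfsg Cfsg.Agent.MinSimple
open Cfsg.Agent.ZN (o2 zc zl)
open Cfsg.Agent.Omega.MinPar Cfsg.Agent.Omega.FFThm

/-- **`1 ≠ x ∈ Ω₁(Z(S₁)) ∩ C(X i)`** for a Sylow 2-subgroup `S₁ ≥ stab M i` of `G` -/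
theorem exists_x {G : Type u} [Group G] [Finite G] {F : Type} [Field F] [Finite F] [CharP F 2] {S : Sylow 2 G}
    {P V D : Subgroup G} {k : ℕ} (M : NatD F S P V D k) (hD : D ≠ ⊥) {i l : Fin k} (hl : l ≠ i)
    {ι : Fin k → Type*} {Lf : Fin k → Subgroup G} {R K : ∀ l, ι l → Subgroup G} {Q : Subgroup G}
    (h : Fr (fun l => NV.fac M.toNatV l) Lf R K Q) {a : ι i} (hTL : NV.stab M.toNatV i ≤ Lf i)
    (hQT : Q ≤ NV.stab M.toNatV i) (hQQ : QQ (R i a) ≤ NV.stab M.toNatV i) {S₁ : Sylow 2 G}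
    (hle : NV.stab M.toNatV i ≤ S₁) :
    ∃ x ∈ zc (S₁ : Subgroup G), x ≠ 1 ∧ x ∈ Wh (fun l => NV.fac M.toNatV l) K Q ∧
      x ∈ centralizer (XK (K i) : Set G) := by
  have : Fact (Nat.Prime 2) := ⟨Nat.prime_two⟩
  refine exists_x_fr h hl hTL hQT hQQ (fun x hx t ht => (VModule.mem_zc.1 hx).2.1 t (hle ht)) ?_
  have h1 : NV.fac M.toNatV i ⊓ centralizer (NV.stab M.toNatV i : Set G) ≤
      NV.line M.toNatV i ⊓ centralizer (NV.stab M.toNatV i : Set G) := fun v hv =>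
    mem_inf.2 ⟨NV.fix_le_line M.toNatV (NV.SP M) hv.1 fun t ht => mem_centralizer_iff.1 hv.2 t ht, hv.2⟩
  have h2 := Subgroup.card_le_of_le h1
  have h3 := CvBig.card_zc_ge M i
  have h4 : Nat.card (zc (S₁ : Subgroup G)) = Nat.card (zc (S : Subgroup G)) :=
    Half.card_zc_of_card_eq S S₁.isPGroup' (by rw [S.card_eq_multiplicity, S₁.card_eq_multiplicity])
  have h5 : 1 < Nat.card D := (Subgroup.one_lt_card_iff_ne_bot _).2 hD
  have h6 : 0 < Nat.card (NV.line M.toNatV i ⊓ centralizer (NV.stab M.toNatV i : Set G) : Subgroup G) := Nat.card_pos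
  rw [h4]
  nlinarith

end nat

end Cfsg.Agent.Omega.IId.CvBig.Four
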