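import Cfsg.Agent.Omega.IId.CvBig.Bts
import Cfsg.Agent.Omega.IId.TwoPlus

/-!
# II.d, `V_P = V × D`, any number of factors, unmixed: the group `SL = ⟨QL M l : l⟩ O₂(P)`

`M : NatD F S P V D k`, THEOREM C: `hC : ∀ l, QL M l ≤ S`, all factors unmixed.

* `exists_QL_up` : `QL M l` induces the full root group on `fac M l`;
* `mem_SLQ_of_up` : an element of `S` which acts on every factor as some `up b` lies in `SLQ M = ⟨QL M l⟩ O₂(P)`;
* `up_of_comm` : `s ∈ S`, `[s, QL M l] ≤ O₂(P)` for all `l` implies that `s` acts on every factor as some `up b`;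
* `mem_SLQ` : a 2-element `z ∈ N_G(O₂(P))` with `[z, QL M l] ≤ O₂(P)` for all `l` lies in `SLQ M`;
* `le_o2_of_inv` : a 2-group normalised by `O₂(P)`, all `QL M l` and all `grp M {l}` lies in `O₂(P)`.
-/

set_option autoImplicit false
set_option linter.unusedSectionVars false

namespace Cfsg.Agent.Omega.IId.NV

open Subgroup Pointwise Cfsg Cfsg.Agent.ZN Cfsg.Agent.ZN.ChoiceBase
open Cfsg.Agent.Omega.MinPar Cfsg.Agent.Omega.FFThm
open Cfsg.Agent.Lib.SL2Mat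
open Cfsg.Agent.MinSimple
open Cfsg.Agent.Omega.NatPair (ap ap_mul ap_one ap_inv_ap ap_ap_inv exists_ap ap_add NatMod PreMod)
open Cfsg.Agent.MinSimple.VModule (zc_le zc_comm zc_sq zc_le_zl le_normalizer_o2 o2_isPGroup o2_le
  normalizer_le_normalizer_zc le_normalizer_zl)
open scoped commutatorElement

universe u

theorem le_normalizer_sup' {G : Type*} [Group G] {K A B : Subgroup G} (hA : K ≤ normalizer (A : Set G))
    (hB : K ≤ normalizer (B : Set G)) : K ≤ normalizer ((A ⊔ B : Subgroup G) : Set G) := by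
  intro x hx
  rw [mem_normalizer_iff_cj]
  change Subgroup.map _ _ = _
  rw [Subgroup.map_sup]
  change cj x A ⊔ cj x B = _
  rw [cj_eq_of_mem_normalizer (hA hx), cj_eq_of_mem_normalizer (hB hx)]

section dg

variable {G : Type u} [Group G] {F : Type} [Field F] {S P V : Subgroup G} {k : ℕ} (M : NatV F S P V k)

/-- the torus element `diag(t, t⁻¹)` of the factor `i` -/
theorem exists_dg (i : Fin k) {t : F} (ht : t ≠ 0) : ∃ g ∈ grp M {i}, g ∈ normalizer (line M i : Set G) ∧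
    ∀ v ∈ V, M.e (g * v * g⁻¹) i = ap (dg t ht) (M.e v i) := by
  obtain ⟨g, hg, hgA⟩ := exists_lift M i (dg t ht)
  refine ⟨g, hg, ?_, hgA⟩
  have he1 : ∀ u ∈ fac M i, M.e (g * u * g⁻¹) i 1 = t⁻¹ * M.e u i 1 := by
    intro u hu
    rw [hgA u hu.1, NatPair.ap_one', dg]
    simp
  rw [mem_normalizer_iff]
  intro u
  rw [mem_line, mem_line]
  constructor
  · rintro ⟨h2, h3⟩
    exact ⟨grp_conj_fac hg h2, by rw [he1 u h2, h3, mul_zero]⟩
  · rintro ⟨h2, h3⟩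
    have h4 : u ∈ fac M i := (mem_normalizer_iff.1 (grp_normalizes M {i} {i} hg) u).2 h2
    refine ⟨h4, ?_⟩
    rw [he1 u h4] at h3
    exact (mul_eq_zero.1 h3).resolve_left (inv_ne_zero ht)

theorem e_conj_inv {i : Fin k} {g : G} (hgP : g ∈ P) {A : Matrix.SpecialLinearGroup (Fin 2) F}
    (hgA : ∀ v ∈ V, M.e (g * v * g⁻¹) i = ap A (M.e v i)) {v : G} (hv : v ∈ V) :
    M.e (g⁻¹ * v * g) i = ap A⁻¹ (M.e v i) := by
  have h1 := hgA _ (cj_mem' M hgP hv)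
  have e : g * (g⁻¹ * v * g) * g⁻¹ = v := by group
  rw [e] at h1
  rw [h1, ap_inv_ap]

end dg

section big

variable {G : Type u} [Group G] [Finite G] {F : Type} [Field F] [Finite F] [CharP F 2] {S : Sylow 2 G}
  {P V D : Subgroup G} {k : ℕ} (M : NatD F S P V D k) (hC : ∀ l, QL M l ≤ (S : Subgroup G))

theorem exists_sqrt' (b : F) : ∃ t : F, t ^ 2 = b := by
  have h1 : Function.Injective (fun t : F => t ^ 2) := fun a b h => by
    have h3 : a ^ 2 = b ^ 2 := h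
    have h2 : (a - b) ^ 2 = 0 := by
      rw [CharTwo.sub_eq_add, CharTwo.add_sq, h3, CharTwo.add_self_eq_zero]
    exact sub_eq_zero.1 (pow_eq_zero_iff (two_ne_zero) |>.1 h2)
  exact (Finite.injective_iff_surjective.1 h1) b

include hC

/-- **`QL M i` induces the full root group on an unmixed factor.** -/
theorem exists_QL_up {i : Fin k} (hu : UnMx M i) (b : F) :
    ∃ x ∈ QL M i, ∀ v ∈ fac M.toNatV i, M.e (x * v * x⁻¹) i = ap (up b) (M.e v i) := by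
  obtain ⟨c, hc, v, hv, w, hw, hne⟩ := hu
  have hyQ : c * w * c⁻¹ ∈ QL M i := (mem_normalizer_iff.1 (nor_line_le M i hc) w).1 (fac_le_QL_self M hC i hw)
  set y := c * w * c⁻¹ with hy
  obtain ⟨b₀, hb₀⟩ := o2_up_big M hC hyQ
  have hyn : y ∈ normalizer (fac M.toNatV i : Set G) := stab_normalizes _ i (QL_le_stab M hC i hyQ)
  have h0 : b₀ ≠ 0 := by
    rintro rfl
    apply hne
    have h1 : y * v * y⁻¹ = v := by
      refine ext_fac M.toNatV ((mem_normalizer_iff.1 hyn v).1 hv) hv ?_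
      rw [hb₀ v hv, up_zero, ap_one]
    calc v * y = y * v * y⁻¹ * y := by rw [h1]
      _ = y * v := by group
  by_cases hb : b = 0
  · refine ⟨1, one_mem _, fun v hv => ?_⟩
    rw [hb, up_zero, ap_one]
    simp
  obtain ⟨t, ht⟩ := exists_sqrt' (b / b₀)
  have ht0 : t ≠ 0 := by
    rintro rfl
    have : b / b₀ = 0 := by rw [← ht]; ring
    exact div_ne_zero hb h0 this
  obtain ⟨g, hg, hgn, hgA⟩ := exists_dg M.toNatV i ht0
  refine ⟨g * y * g⁻¹, (mem_normalizer_iff.1 (nor_line_le M i hgn) y).1 hyQ, fun v hv => ?_⟩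
  have hv' : g⁻¹ * v * g ∈ fac M.toNatV i := by
    have := (mem_normalizer_iff.1 (inv_mem (grp_normalizes M.toNatV {i} {i} hg)) v).1 hv
    rwa [inv_inv] at this
  have hv'' := (mem_normalizer_iff.1 hyn _).1 hv'
  have e : g * y * g⁻¹ * v * (g * y * g⁻¹)⁻¹ = g * (y * (g⁻¹ * v * g) * y⁻¹) * g⁻¹ := by group
  rw [e, hgA _ hv''.1, hb₀ _ hv', e_conj_inv M.toNatV (grp_le _ _ hg) hgA hv.1, ← ap_mul, ← ap_mul,
    dg_up, mul_inv_cancel_right, ht, div_mul_cancel₀ _ h0]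

omit hC in
include M in
theorem o2P_comm {q v : G} (hq : q ∈ o2 P) (hv : v ∈ zl (S : Subgroup G) P) : q * v = v * q :=
  (VModule.mem_zc.1 (zl_le_zz M hv)).2.1 q hq

omit hC in
theorem zl_conj {g v : G} (hg : g ∈ P) (hv : v ∈ zl (S : Subgroup G) P) : g * v * g⁻¹ ∈ zl (S : Subgroup G) P :=
  (mem_normalizer_iff.1 (VModule.le_normalizer_zl (S : Subgroup G) P hg) v).1 hv

omit hC in
include M in
/-- the commutators `[x, v]` if `s` commutes with `x` modulo `O₂(P)` -/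
theorem conj_comm_eq {s x v : G} (hs : s ∈ P) (hx : x ∈ P) (hc : s * x * s⁻¹ * x⁻¹ ∈ o2 P)
    (hv : v ∈ zl (S : Subgroup G) P) :
    s * (x * v * x⁻¹ * v⁻¹) * s⁻¹ = x * (s * v * s⁻¹) * x⁻¹ * (s * v * s⁻¹)⁻¹ := by
  set q := s * x * s⁻¹ * x⁻¹ with hq
  have h1 : s * x * s⁻¹ = q * x := by rw [hq]; group
  have hv' := zl_conj hs hv
  have h2 := o2P_comm M hc (zl_conj hx hv')
  calc s * (x * v * x⁻¹ * v⁻¹) * s⁻¹
      = (s * x * s⁻¹) * (s * v * s⁻¹) * (s * x * s⁻¹)⁻¹ * (s * v * s⁻¹)⁻¹ := by group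
    _ = q * (x * (s * v * s⁻¹) * x⁻¹) * q⁻¹ * (s * v * s⁻¹)⁻¹ := by rw [h1]; group
    _ = x * (s * v * s⁻¹) * x⁻¹ * (s * v * s⁻¹)⁻¹ := by rw [h2]; group

/-- **`s ∈ S`, `[s, QL M l] ≤ O₂(P)` implies that `s` acts on `fac M l` as some `up b`.** -/
theorem up_of_comm {l : Fin k} (hu : UnMx M l) {s : G} (hs : s ∈ (S : Subgroup G))
    (hc : ∀ x ∈ QL M l, s * x * s⁻¹ * x⁻¹ ∈ o2 P) :
    s ∈ stab M.toNatV l ∧ ∃ b : F, ∀ v ∈ fac M.toNatV l, M.e (s * v * s⁻¹) l = ap (up b) (M.e v l) := by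
  have hsP : s ∈ P := SP M hs
  have hVz : ∀ {v : G}, v ∈ fac M.toNatV l → v ∈ zl (S : Subgroup G) P := fun hv => M.V_le (fac_le _ _ hv)
  -- `[x, v]` for `x` acting as `up b`
  have hcoord : ∀ {x v : G} {b : F}, x ∈ QL M l → (∀ v ∈ fac M.toNatV l, M.e (x * v * x⁻¹) l = ap (up b) (M.e v l)) →
      v ∈ fac M.toNatV l → M.e (x * v * x⁻¹ * v⁻¹) l = ![b * M.e v l 1, 0] := by
    intro x v b hx hxb hv
    have h1 : x * v * x⁻¹ ∈ fac M.toNatV l :=
      (mem_normalizer_iff.1 (stab_normalizes _ l (QL_le_stab M hC l hx)) v).1 hv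
    rw [M.mul _ h1.1 _ (inv_mem hv.1), e_inv M.toNatV hv.1, Pi.add_apply, Pi.neg_apply, hxb v hv]
    apply NatPair.ext2
    · rw [Pi.add_apply, NatPair.ap_zero', up_00, up_01]
      simp
    · rw [Pi.add_apply, NatPair.ap_one', up_10, up_11]
      simp
  -- the vector `u = (0, 1)`
  obtain ⟨u, hu1, hue⟩ := exists_fac M.toNatV l ![0, 1]
  have hline : ∀ r ∈ line M.toNatV l, ∃ x ∈ QL M l,
      (∀ v ∈ fac M.toNatV l, M.e (x * v * x⁻¹) l = ap (up (M.e r l 0)) (M.e v l)) ∧ r = x * u * x⁻¹ * u⁻¹ := by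
    intro r hr
    obtain ⟨x, hx, hxb⟩ := exists_QL_up M hC hu (M.e r l 0)
    refine ⟨x, hx, hxb, ?_⟩
    have h1 : x * u * x⁻¹ ∈ fac M.toNatV l :=
      (mem_normalizer_iff.1 (stab_normalizes _ l (QL_le_stab M hC l hx)) u).1 hu1
    refine ext_fac M.toNatV (line_le _ _ hr) (mul_mem h1 (inv_mem hu1)) ?_
    rw [hcoord hx hxb hu1, hue]
    apply NatPair.ext2
    · simp
    · rw [((mem_line M.toNatV).1 hr).2]
      simp
  -- `s` normalises the line
  have h1 : ∀ r ∈ line M.toNatV l, s * r * s⁻¹ ∈ line M.toNatV l := by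
    intro r hr
    obtain ⟨x, hx, -, rfl⟩ := hline r hr
    rw [conj_comm_eq M hsP (QL_le_P M hC l hx) (hc x hx) (hVz hu1)]
    exact comm_QL M hC hx (zl_conj hsP (hVz hu1))
  have h2 : sg M.toNatV hsP l = l := by
    apply line_inj (M := M.toNatV)
    rw [← conj_line M.toNatV (SP M) hs]
    rintro _ ⟨r, hr, rfl⟩
    exact h1 r hr
  have hst : s ∈ stab M.toNatV l := mem_inf.2 ⟨hs, (mem_normalizer_fac_iff M.toNatV hsP).2 h2⟩
  refine ⟨hst, ?_⟩
  have hsf : ∀ v ∈ fac M.toNatV l, s * v * s⁻¹ ∈ fac M.toNatV l := fun v hv =>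
    (mem_normalizer_iff.1 hst.2 v).1 hv
  set c : F := M.e (s * u * s⁻¹) l 1 with hcdef
  have h3 : ∀ r ∈ line M.toNatV l, M.e (s * r * s⁻¹) l 0 = M.e r l 0 * c := by
    intro r hr
    obtain ⟨x, hx, hxb, e⟩ := hline r hr
    rw [show s * r * s⁻¹ = x * (s * u * s⁻¹) * x⁻¹ * (s * u * s⁻¹)⁻¹ by
      conv_lhs => rw [e]
      exact conj_comm_eq M hsP (QL_le_P M hC l hx) (hc x hx) (hVz hu1),
      hcoord hx hxb (hsf u hu1)]
    simp [hcdef]
  have h4 : ∀ n : ℕ, ∀ r ∈ line M.toNatV l, s ^ n * r * (s ^ n)⁻¹ ∈ line M.toNatV l ∧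
      M.e (s ^ n * r * (s ^ n)⁻¹) l 0 = M.e r l 0 * c ^ n := by
    intro n
    induction n with
    | zero => intro r hr; simpa using hr
    | succ n ih =>
      intro r hr
      obtain ⟨h5, h6⟩ := ih r hr
      have e : s ^ (n + 1) * r * (s ^ (n + 1))⁻¹ = s * (s ^ n * r * (s ^ n)⁻¹) * s⁻¹ := by
        rw [pow_succ']; group
      rw [e]
      refine ⟨h1 _ h5, ?_⟩
      rw [h3 _ h5, h6]
      ring
  obtain ⟨m, hm⟩ := S.isPGroup' ⟨s, hs⟩
  have hm' : s ^ 2 ^ m = 1 := congrArg Subtype.val hm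
  have hc1 : c = 1 := by
    obtain ⟨r, hr, hre⟩ := exists_fac M.toNatV l ![1, 0]
    have hrl : r ∈ line M.toNatV l := (mem_line M.toNatV).2 ⟨hr, by rw [hre]; rfl⟩
    have h5 := (h4 (2 ^ m) r hrl).2
    rw [hm', one_mul, inv_one, mul_one, hre] at h5
    simp only [Matrix.cons_val_zero, one_mul] at h5
    have h6 : (c - 1) ^ 2 ^ m = 0 := by
      rw [sub_pow_char_pow, one_pow, ← h5, sub_self]
    exact sub_eq_zero.1 (pow_eq_zero_iff (pow_ne_zero _ two_ne_zero) |>.1 h6)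
  have h5 : ∀ r ∈ line M.toNatV l, s * r * s⁻¹ = r := by
    intro r hr
    refine ext_fac M.toNatV (line_le _ _ (h1 r hr)) (line_le _ _ hr) ?_
    apply NatPair.ext2
    · rw [h3 r hr, hc1, mul_one]
    · rw [((mem_line M.toNatV).1 (h1 r hr)).2, ((mem_line M.toNatV).1 hr).2]
  refine exists_up (M := M.toNatV) hsP h5 fun v hv => ?_
  exact comm_line M.toNatV (SP M) hst ⟨m, hm'⟩ (fun r hr => mul_inv_eq_iff_eq_mul.1 (h5 r hr)) hv

/-! ### `SLQ M` -/

omit hC in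
omit [Finite F] [CharP F 2] in
/-- `⟨QL M l : l⟩ O₂(P)` -/
def SLQ (M : NatD F S P V D k) : Subgroup G := (⨆ l, QL M l) ⊔ o2 P

omit hC in
theorem QL_le_SLQ (l : Fin k) : QL M l ≤ SLQ M := (le_iSup (QL M) l).trans le_sup_left

omit hC in
theorem o2_le_SLQ : o2 P ≤ SLQ M := le_sup_right

theorem SLQ_le_S : SLQ M ≤ (S : Subgroup G) := sup_le (iSup_le hC) (o2_le_S M)

omit hC in
/-- An element of `P` which acts trivially on all factors and lies in `S` is in `O₂(P)`. -/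
theorem mem_o2P_of_triv {w : G} (hw : w ∈ (S : Subgroup G))
    (h : ∀ l, ∀ v ∈ fac M.toNatV l, w * v * w⁻¹ = v) : w ∈ o2 P := by
  have hwP := SP M hw
  have hwn : ∀ l, w ∈ normalizer (fac M.toNatV l : Set G) := by
    intro l
    refine centralizer_le_normalizer _ (mem_centralizer_iff.2 fun v hv => ?_)
    exact (mul_inv_eq_iff_eq_mul.1 (h l v hv)).symm
  have hV : ∀ v ∈ V, w * v = v * w := by
    intro v hv
    have h1 : w * v * w⁻¹ = v := by
      refine e_inj M.toNatV (cj_mem M.toNatV hwP hv) hv (funext fun l => ?_)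
      obtain ⟨a, ha, hae, hab⟩ := exists_component M.toNatV hv l
      have h2 := (mem_normalizer_iff.1 (normalizer_part_compl M.toNatV hwP (hwn l)) _).1 hab
      have e : w * v * w⁻¹ = a * (w * (a⁻¹ * v) * w⁻¹) := by
        calc w * v * w⁻¹ = (w * a * w⁻¹) * (w * (a⁻¹ * v) * w⁻¹) := by group
          _ = _ := by rw [h l a ha]
      rw [e, M.mul _ ha.1 _ h2.1, Pi.add_apply, hae, h2.2 l (by simp), add_zero]
    exact mul_inv_eq_iff_eq_mul.1 h1
  rw [← M.star.inf_centralizer S M.hG]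
  refine mem_inf.2 ⟨hw, mem_centralizer_iff.2 fun v hv => ?_⟩
  exact (comm_zz M hwP hV (zl_le_zz M hv)).symm

/-- An element of `S` acting on every factor as some `up b` lies in `SLQ M`. -/
theorem mem_SLQ_of_up (hu : ∀ l, UnMx M l) {s : G} (hs : s ∈ (S : Subgroup G))
    (h : ∀ l, s ∈ stab M.toNatV l ∧ ∃ b : F, ∀ v ∈ fac M.toNatV l, M.e (s * v * s⁻¹) l = ap (up b) (M.e v l)) :
    s ∈ SLQ M := by
  classical
  choose hst b hb using h
  choose x hx hxb using fun l => exists_QL_up M hC (hu l) (b l)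
  have hxn : ∀ l, ∀ v ∈ fac M.toNatV l, x l * v * (x l)⁻¹ ∈ fac M.toNatV l := fun l v hv =>
    (mem_normalizer_iff.1 (stab_normalizes _ l (QL_le_stab M hC l (hx l))) v).1 hv
  have hsx : ∀ l, ∀ v ∈ fac M.toNatV l, x l * v * (x l)⁻¹ = s * v * s⁻¹ := fun l v hv =>
    ext_fac M.toNatV (hxn l v hv) ((mem_normalizer_iff.1 (hst l).2 v).1 hv) (by rw [hxb l v hv, hb l v hv])
  have hxl : ∀ l m, m ≠ l → ∀ v ∈ fac M.toNatV m, x l * v * (x l)⁻¹ = v := fun l m hm v hv => by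
    rw [QL_comm M hC hm (hx l) hv, mul_inv_cancel_right]
  have key : ∀ T : Finset (Fin k), ∃ y ∈ ⨆ l, QL M l,
      (∀ l ∈ T, ∀ v ∈ fac M.toNatV l, y * v * y⁻¹ = s * v * s⁻¹) ∧
        ∀ l, l ∉ T → ∀ v ∈ fac M.toNatV l, y * v * y⁻¹ = v := by
    intro T
    induction T using Finset.induction_on with
    | empty => exact ⟨1, one_mem _, by simp, fun l _ v _ => by simp⟩
    | @insert a T ha ih =>
      obtain ⟨y, hy, h1, h2⟩ := ih
      refine ⟨y * x a, mul_mem hy (mem_iSup_of_mem a (hx a)), fun l hl v hv => ?_, fun l hl v hv => ?_⟩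
      · have e : y * x a * v * (y * x a)⁻¹ = y * (x a * v * (x a)⁻¹) * y⁻¹ := by group
        rw [e]
        by_cases hla : l = a
        · subst hla
          rw [h2 l ha _ (hxn l v hv), hsx l v hv]
        · rw [hxl a l hla v hv]
          exact h1 l ((Finset.mem_insert.1 hl).resolve_left hla) v hv
      · rw [Finset.mem_insert, not_or] at hl
        have e : y * x a * v * (y * x a)⁻¹ = y * (x a * v * (x a)⁻¹) * y⁻¹ := by group
        rw [e, hxl a l hl.1 v hv]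
        exact h2 l hl.2 v hv
  obtain ⟨y, hy, h1, -⟩ := key Finset.univ
  have hyS : y ∈ (S : Subgroup G) := (iSup_le hC) hy
  have h2 : y⁻¹ * s ∈ o2 P := by
    refine mem_o2P_of_triv M (mul_mem (inv_mem hyS) hs) fun l v hv => ?_
    have h3 := h1 l (Finset.mem_univ l) v hv
    calc y⁻¹ * s * v * (y⁻¹ * s)⁻¹ = y⁻¹ * (s * v * s⁻¹) * y := by group
      _ = y⁻¹ * (y * v * y⁻¹) * y := by rw [h3]
      _ = v := by group
  have := mul_mem (mem_sup_left hy : y ∈ SLQ M) (mem_sup_right h2 : y⁻¹ * s ∈ SLQ M)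
  rwa [mul_inv_cancel_left] at this

/-! ### `C = {g ∈ N_G(Q) : [g, QL M l] ≤ Q}` -/

omit hC in
/-- `{g ∈ N_G(O₂(P)) : [g, QL M l] ≤ O₂(P) for all l}` -/
def CL (M : NatD F S P V D k) : Subgroup G where
  carrier := {g | g ∈ normalizer (o2 P : Set G) ∧ ∀ l, ∀ x ∈ QL M l, g * x * g⁻¹ * x⁻¹ ∈ o2 P}
  one_mem' := ⟨one_mem _, fun l x _ => by simp⟩
  mul_mem' := by
    rintro g h ⟨hg, hg'⟩ ⟨hh, hh'⟩
    refine ⟨mul_mem hg hh, fun l x hx => ?_⟩
    have e : g * h * x * (g * h)⁻¹ * x⁻¹ = g * (h * x * h⁻¹ * x⁻¹) * g⁻¹ * (g * x * g⁻¹ * x⁻¹) := by group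
    rw [e]
    exact mul_mem ((mem_normalizer_iff.1 hg _).1 (hh' l x hx)) (hg' l x hx)
  inv_mem' := by
    rintro g ⟨hg, hg'⟩
    refine ⟨inv_mem hg, fun l x hx => ?_⟩
    have e : g⁻¹ * x * g⁻¹⁻¹ * x⁻¹ = g⁻¹ * (g * x * g⁻¹ * x⁻¹)⁻¹ * g := by group
    rw [e]
    have := (mem_normalizer_iff.1 (inv_mem hg) _).1 (inv_mem (hg' l x hx))
    rwa [inv_inv] at this

omit hC in
theorem mem_CL {g : G} : g ∈ CL M ↔ g ∈ normalizer (o2 P : Set G) ∧ ∀ l, ∀ x ∈ QL M l, g * x * g⁻¹ * x⁻¹ ∈ o2 P :=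
  Iff.rfl

omit hC in
theorem conj_QL {s : G} (hs : s ∈ (S : Subgroup G)) (l : Fin k) :
    cj s (QL M l) = QL M (sg M.toNatV (SP M hs) l) := by
  rw [cj_QL, conj_line M.toNatV (SP M) hs]
  rfl

omit hC in
theorem S_normalizes_CL : (S : Subgroup G) ≤ normalizer (CL M : Set G) := by
  have hSQ : (S : Subgroup G) ≤ normalizer (o2 P : Set G) := (SP M).trans (ZN.le_normalizer_o2 _)
  have key : ∀ s ∈ (S : Subgroup G), ∀ g ∈ CL M, s * g * s⁻¹ ∈ CL M := by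
    rintro s hs g ⟨hg, hg'⟩
    refine ⟨mul_mem (mul_mem (hSQ hs) hg) (inv_mem (hSQ hs)), fun l x hx => ?_⟩
    have hx' : s⁻¹ * x * s ∈ QL M (sg M.toNatV (SP M (inv_mem hs)) l) := by
      rw [← conj_QL M (inv_mem hs), mem_cj_iff, inv_inv]
      have e : s * (s⁻¹ * x * s) * s⁻¹ = x := by group
      rwa [e]
    have h1 := (mem_normalizer_iff.1 (hSQ hs) _).1 (hg' _ _ hx')
    have e : s * g * s⁻¹ * x * (s * g * s⁻¹)⁻¹ * x⁻¹ =
        s * (g * (s⁻¹ * x * s) * g⁻¹ * (s⁻¹ * x * s)⁻¹) * s⁻¹ := by group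
    rwa [e]
  intro s hs
  rw [mem_normalizer_iff]
  intro g
  refine ⟨key s hs g, fun h => ?_⟩
  have h1 := key s⁻¹ (inv_mem hs) _ h
  have e : s⁻¹ * (s * g * s⁻¹) * s⁻¹⁻¹ = g := by group
  rwa [e] at h1

/-- `[g, SLQ M] ≤ O₂(P)` for `g ∈ CL M` -/
theorem CL_comm {g s : G} (hg : g ∈ CL M) (hs : s ∈ SLQ M) : g * s * g⁻¹ * s⁻¹ ∈ o2 P := by
  have hSQ : (S : Subgroup G) ≤ normalizer (o2 P : Set G) := (SP M).trans (ZN.le_normalizer_o2 _)
  let K : Subgroup G :=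
    { carrier := {s | s ∈ normalizer (o2 P : Set G) ∧ g * s * g⁻¹ * s⁻¹ ∈ o2 P}
      one_mem' := ⟨one_mem _, by simp⟩
      mul_mem' := by
        rintro s t ⟨h1, h2⟩ ⟨h3, h4⟩
        refine ⟨mul_mem h1 h3, ?_⟩
        have e : g * (s * t) * g⁻¹ * (s * t)⁻¹ = (g * s * g⁻¹ * s⁻¹) * (s * (g * t * g⁻¹ * t⁻¹) * s⁻¹) := by group
        rw [e]
        exact mul_mem h2 ((mem_normalizer_iff.1 h1 _).1 h4)
      inv_mem' := by
        rintro s ⟨h1, h2⟩
        refine ⟨inv_mem h1, ?_⟩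
        have e : g * s⁻¹ * g⁻¹ * s⁻¹⁻¹ = s⁻¹ * (g * s * g⁻¹ * s⁻¹)⁻¹ * s := by group
        rw [e]
        have := (mem_normalizer_iff.1 (inv_mem h1) _).1 (inv_mem h2)
        rwa [inv_inv] at this }
  have h1 : SLQ M ≤ K := by
    refine sup_le (iSup_le fun l x hx => ⟨hSQ (hC l hx), hg.2 l x hx⟩) fun x hx => ?_
    refine ⟨hSQ (o2_le_S M hx), ?_⟩
    exact mul_mem ((mem_normalizer_iff.1 hg.1 x).1 hx) (inv_mem hx)
  exact (h1 hs).2

/-- `S ∩ CL M ≤ SLQ M` -/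
theorem inf_CL_le (hu : ∀ l, UnMx M l) : (S : Subgroup G) ⊓ CL M ≤ SLQ M := by
  rintro s ⟨hs, hs'⟩
  exact mem_SLQ_of_up M hC hu hs fun l => up_of_comm M hC (hu l) hs (hs'.2 l)

/-- **A 2-element of `CL M` lies in `SLQ M`.** -/
theorem mem_SLQ (hu : ∀ l, UnMx M l) {Z : Subgroup G} (hZ : IsPGroup 2 Z) (hZC : Z ≤ CL M) : Z ≤ SLQ M := by
  have hN := S_normalizes_CL M
  have h1 : ¬ 2 ∣ (CL M ⊓ (S : Subgroup G)).relIndex (CL M) :=
    TwoPlus.not_dvd_inf (H := CL M ⊔ (S : Subgroup G)) le_sup_right (MinSimple.Basic.not_dvd_relIndex S le_sup_right)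
      le_sup_left (sup_le le_normalizer hN)
  obtain ⟨c, hc, hcx⟩ := TwoPlus.exists_conj_le hZC (S.isPGroup'.to_le inf_le_right) hZ h1
  intro z hz
  have h2 : c * z * c⁻¹ ∈ SLQ M := inf_CL_le M hC hu ⟨(hcx z hz).2, (hcx z hz).1⟩
  have h3 := CL_comm M hC (inv_mem hc) h2
  have e : z = c⁻¹ * (c * z * c⁻¹) * c⁻¹⁻¹ * (c * z * c⁻¹)⁻¹ * (c * z * c⁻¹) := by group
  rw [e]
  exact mul_mem (o2_le_SLQ M h3) h2

theorem SLQ_le_nor_fac (l : Fin k) : SLQ M ≤ normalizer (fac M.toNatV l : Set G) := by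
  refine sup_le (iSup_le fun m => ?_) ?_
  · by_cases h : l = m
    · subst h
      exact (QL_le_stab M hC l).trans inf_le_right
    · exact (QL_le_cent M hC h).trans (centralizer_le_normalizer _)
  · intro q hq
    refine centralizer_le_normalizer _ (mem_centralizer_iff.2 fun v hv => ?_)
    exact (o2P_comm M hq (M.V_le (fac_le _ _ hv))).symm

/-- **A 2-group normalised by `O₂(P)`, all `QL M l` and all `grp M {l}` lies in `O₂(P)`.** -/
theorem le_o2_of_inv (hu : ∀ l, UnMx M l) {W : Subgroup G} (hW : IsPGroup 2 W)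
    (hWQ : o2 P ≤ normalizer (W : Set G)) (hWL : ∀ l, QL M l ≤ normalizer (W : Set G))
    (hWg : ∀ l, grp M.toNatV {l} ≤ normalizer (W : Set G)) : W ≤ o2 P := by
  by_contra hn
  have hfact : Fact (Nat.Prime 2) := ⟨Nat.prime_two⟩
  have hQ2 : IsPGroup 2 (o2 P) := o2_isPGroup _
  have hSL2 : IsPGroup 2 (SLQ M) := S.isPGroup'.to_le (SLQ_le_S M hC)
  have hSLQ : SLQ M ≤ normalizer (o2 P : Set G) :=
    ((SLQ_le_S M hC).trans (SP M)).trans (ZN.le_normalizer_o2 _)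
  have hSLW : SLQ M ≤ normalizer (W : Set G) := sup_le (iSup_le hWL) hWQ
  have hA02 : IsPGroup 2 ↥(W ⊔ o2 P) := hW.to_sup_of_normal_left' hQ2 hWQ
  have hlt0 : o2 P < W ⊔ o2 P := lt_of_le_of_ne le_sup_right fun h => hn (by rw [h]; exact le_sup_left)
  have hlt := Lib.GoldschmidtFusion.lt_inf_normalizer hA02 hlt0
  set A : Subgroup G := (W ⊔ o2 P) ⊓ normalizer (o2 P : Set G) with hA
  have hA2 : IsPGroup 2 A := hA02.to_le inf_le_left
  have hSLA : SLQ M ≤ normalizer (A : Set G) := by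
    refine Half.le_normalizer_inf ?_ (hSLQ.trans le_normalizer)
    exact le_normalizer_sup' hSLW hSLQ
  have hT2 : IsPGroup 2 ↥(A ⊔ SLQ M) := hA2.to_sup_of_normal_left' hSL2 hSLA
  obtain ⟨x, hx, hxQ, hxf⟩ := NLFree.exists_fix_mod (S := A ⊔ SLQ M) (M := o2 P) (Q := A) hT2
    (hlt.le.trans le_sup_left) le_sup_left (sup_le inf_le_right hSLQ) (sup_le le_normalizer hSLA)
    (fun h => hlt.not_ge h)
  have hxC : x ∈ CL M := by
    refine ⟨(mem_inf.1 hx).2, fun l y hy => ?_⟩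
    have h1 := inv_mem (hxf y (mem_sup_right (QL_le_SLQ M l hy)))
    have e : (y * x * y⁻¹ * x⁻¹)⁻¹ = x * y * x⁻¹ * y⁻¹ := by group
    rwa [e] at h1
  have hxS : x ∈ SLQ M := mem_SLQ M hC hu (hA2.to_le (zpowers_le.2 hx)) (zpowers_le.2 hxC) (mem_zpowers x)
  -- `x = q w`
  have h1 : x ∈ ((o2 P ⊔ W : Subgroup G) : Set G) := by
    rw [sup_comm]
    exact (mem_inf.1 hx).1
  rw [coe_mul_of_left_le_normalizer_right _ _ hWQ] at h1
  obtain ⟨q, hq, w, hw, hqw⟩ := Set.mem_mul.1 h1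
  have hwS : w ∈ SLQ M := by
    have : w = q⁻¹ * x := by rw [← hqw]; group
    rw [this]
    exact mul_mem (inv_mem (o2_le_SLQ M hq)) hxS
  have hwQ : w ∉ o2 P := fun h => hxQ (by rw [← hqw]; exact mul_mem hq h)
  apply hwQ
  refine mem_o2P_of_triv M (SLQ_le_S M hC hwS) fun l v hv => ?_
  -- `Y` centralises `fac M l`
  set Y : Subgroup G := W ⊓ (P ⊓ normalizer (fac M.toNatV l : Set G)) with hY
  have hwY : w ∈ Y := ⟨hw, SP M (SLQ_le_S M hC hwS), SLQ_le_nor_fac M hC l hwS⟩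
  have hgn := grp_normalizes M.toNatV {l} {l}
  have hgY : grp M.toNatV {l} ≤ normalizer (Y : Set G) :=
    Half.le_normalizer_inf (hWg l) (Half.le_normalizer_inf ((grp_le _ _).trans le_normalizer) (hgn.trans le_normalizer))
  obtain ⟨z, hz, hz1, hzY⟩ := Half.exists_fixed ((V_two M).to_le (fac_le M.toNatV l)) (fac_ne_bot M.toNatV l)
    (hW.to_le inf_le_left : IsPGroup 2 Y) (inf_le_right.trans inf_le_right)
  have h2 : fac M.toNatV l ⊓ centralizer (Y : Set G) = fac M.toNatV l := by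
    refine (fac_irreducible M.toNatV inf_le_left
      (Half.le_normalizer_inf hgn (NLFree.le_normalizer_cent hgY))).resolve_left fun h => hz1 ?_
    have h3 : z ∈ fac M.toNatV l ⊓ centralizer (Y : Set G) :=
      ⟨hz, mem_centralizer_iff.2 fun y hy => mul_inv_eq_iff_eq_mul.1 (hzY y hy)⟩
    rwa [h, mem_bot] at h3
  have hv' : v ∈ fac M.toNatV l ⊓ centralizer (Y : Set G) := by rw [h2]; exact hv
  exact mul_inv_eq_iff_eq_mul.2 (mem_centralizer_iff.1 hv'.2 w hwY)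

end big

end Cfsg.Agent.Omega.IId.NV
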