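import Cfsg.Agent.Omega.IId.CvBig.FourStep
import Cfsg.Agent.Omega.IId.CvBig.FourX
import Cfsg.Agent.Omega.IId.CvBig.SL
import Cfsg.Agent.Omega.IId.Cv.TwoFourEnd

/-!
# CvBig, CASE 2a, `q ≥ 4`, `k ≥ 3`: the frame `Four.Fr`, `Four.FT` over `NatD` (text: helper796; typed by helper916)

* `partner_at` : the partner at every factor; `atLine_all`;
* `fr` : `Four.Fr`; `ft` : `Four.FT` over `stab M i`;
* `kp` : a 2-element normalising `stab M i`, `line M i` and permuting the other lines is in `stab M i`.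
-/

set_option autoImplicit false
set_option linter.unusedSectionVars false

namespace Cfsg.Agent.Omega.IId.NV.FourI

open Subgroup Cfsg Cfsg.Agent.ZN
open Cfsg.Agent.Omega.MinPar Cfsg.Agent.Omega.FFThm
open Cfsg.Agent.Lib.SL2Mat
open Cfsg.Agent.MinSimple

open Cfsg.Agent.Omega.NatPair (ap ap_mul ap_one ap_inv_ap ap_ap_inv exists_ap ap_add ext2)
open Cfsg.Agent.Omega.Mix (RMod Char2)
open Cfsg.Agent.Omega.IId.M4 (toRMod toRMod_line nmG)
open Cfsg.Agent.Omega.IId.Cv.TwoFour (AtLine Partner vec10_ne)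
open Cfsg.Agent.Omega.IId.CvBig.Four (Fr FT FS)
open Cfsg.Agent.Omega.BTwo (cj mem_cj cj_mono cj_eq_self_iff conj_mem_cj card_cj)

universe u

section frame

variable {G : Type u} [Group G] [Finite G] {F : Type} [Field F] [Finite F] [CharP F 2] {S : Sylow 2 G}
  {P V D : Subgroup G} {k : ℕ} (M : NatD F S P V D k) (hC : ∀ l, QL M l ≤ (S : Subgroup G))

theorem line10 (i : Fin k) : (toRMod (pre M.toNatV i)).line ![1, 0] = line M.toNatV i := by
  rw [toRMod_line, pre_line]

/-- an element of `S` with `cj s (fac M i) = fac M l` moves the line -/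
theorem cj_line_S {s : G} (hs : s ∈ (S : Subgroup G)) {i l : Fin k}
    (h : cj s (fac M.toNatV i) = fac M.toNatV l) : cj s (line M.toNatV i) = line M.toNatV l := by
  have h1 := conj_line M.toNatV (SP M) hs i
  have h2 : sg M.toNatV (SP M hs) i = l := (sg_eq_iff M.toNatV (SP M hs)).2 h
  rw [h2] at h1
  exact h1

theorem exists_tr (i l : Fin k) : ∃ s ∈ (S : Subgroup G), cj s (fac M.toNatV i) = fac M.toNatV l ∧
    cj s (line M.toNatV i) = line M.toNatV l := by
  obtain ⟨s, hs, h⟩ := exists_trans M.toNatV (SP M) i l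
  exact ⟨s, hs, h, cj_line_S M hs h⟩

include hC

/-- the partner at every factor -/
theorem partner_at {i : Fin k} {F' : Type} [Field F'] [Finite F'] [CharP F' 2] {V' N' : Subgroup G}
    {M' : RMod F' V' N'} (p : Partner (line M.toNatV i) (toRMod (pre M.toNatV i)) M') (l : Fin k) :
    AtLine (toRMod (pre M.toNatV l)) ![1, 0] := by
  obtain ⟨s, hs, hf, hl⟩ := exists_tr M i l
  have hch : Char2 (normalizer (line M.toNatV l : Set G)) := by
    intro y hy hq
    exact char2_line' M l (mem_inf.2 ⟨hy, mem_centralizer_iff.2 fun q hq' => (hq q hq').symm⟩)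
  have hQ : cj s (BTwo.QQ (line M.toNatV i)) = BTwo.QQ (line M.toNatV l) := by
    rw [Mix.cj_QQ, hl]
  have p' : Partner (line M.toNatV l) (toRMod (pre M.toNatV l)) (M'.conj s) :=
    { K' := by
        have h1 := cj_mono (g := s) p.K'
        rw [Cv.TwoFour.cj_KX, hl] at h1
        exact h1
      VQ := fac_le_QL_self M hC l
      QN := (QL_le_stab M hC l).trans (stab_le_nmG (SP M) M.toNatV l)
      QN' := by
        rw [← hQ]
        exact cj_mono p.QN'
      ne := by
        obtain ⟨v, hv, w, hw, hne⟩ := p.ne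
        refine ⟨s * v * s⁻¹, ?_, s * w * s⁻¹, conj_mem_cj hw, fun e => hne ?_⟩
        · rw [← hf]; exact conj_mem_cj hv
        · have e1 : s * (v * w) * s⁻¹ = s * (w * v) * s⁻¹ := by
            calc s * (v * w) * s⁻¹ = s * v * s⁻¹ * (s * w * s⁻¹) := by group
              _ = s * w * s⁻¹ * (s * v * s⁻¹) := e
              _ = s * (w * v) * s⁻¹ := by group
          exact mul_left_cancel (mul_right_cancel e1)
      line := ⟨![1, 0], vec10_ne, (line10 M l).symm⟩
      line' := by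
        obtain ⟨w, hw, h1⟩ := p.line'
        exact ⟨w, hw, by rw [M'.conj_line, ← h1]; exact hl.symm⟩ }
  obtain ⟨w, hw, -, a⟩ := p'.atLine hch
  exact a.all hw vec10_ne

omit hC in
/-- the points of `fac M l` are the conjugates of `line M l` -/
theorem exists_gr (l : Fin k) (a : Mix.Pt (toRMod (pre M.toNatV l))) :
    ∃ g ∈ grp M.toNatV {l}, cj g (line M.toNatV l) = Mix.pt (toRMod (pre M.toNatV l)) a := by
  obtain ⟨R, w, hw, rfl⟩ := a
  obtain ⟨A, hA⟩ := exists_ap (vec10_ne (F := F)) hw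
  obtain ⟨g, hg, hgA⟩ := exists_lift M.toNatV l A
  refine ⟨g, hg, ?_⟩
  have hI : (toRMod (pre M.toNatV l)).Ind g A := by
    intro y
    refine ext_fac M.toNatV (grp_conj_fac hg ((pre M.toNatV l).e_mem y)) ((pre M.toNatV l).e_mem _) ?_
    exact (hgA _ ((pre M.toNatV l).e_mem y).1).trans
      (by rw [pre_e]; exact (pre_e M.toNatV l _).symm)
  have h1 := (toRMod (pre M.toNatV l)).cj_line_of_ind hI ![1, 0]
  rw [line10, hA] at h1
  exact h1

omit hC in
theorem mem_QQ {l : Fin k} {a : Mix.Pt (toRMod (pre M.toNatV l))} {g q : G}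
    (hg : cj g (line M.toNatV l) = Mix.pt (toRMod (pre M.toNatV l)) a)
    (hq : q ∈ BTwo.QQ (Mix.pt (toRMod (pre M.toNatV l)) a)) : g⁻¹ * q * g ∈ QL M l := by
  rw [← hg, ← Mix.cj_QQ, mem_cj] at hq
  exact hq

omit hC in
include M in
/-- `C_G(O₂(P)) ≤ O₂(P)` -/
theorem cent_o2P : centralizer (o2 P : Set G) ≤ o2 P := by
  have h0 : P ≤ normalizer (o2 P : Set G) := MinSimple.VModule.le_normalizer_o2 P
  have h1 : o2 (normalizer (o2 P : Set G)) ≤ o2 P := o2_le_o2 S (SP M) h0
  have h3 := MinSimple.Basic.char2_normalizer M.hG (MinSimple.VModule.o2_isPGroup P) M.star.o2_ne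
  refine le_trans (le_inf (centralizer_le_normalizer _) ?_) (h3.trans h1)
  exact centralizer_le h1

/-- **the frame `Four.Fr`** -/
theorem fr (al : ∀ l, AtLine (toRMod (pre M.toNatV l)) ![1, 0]) :
    Fr (fun l => fac M.toNatV l) (fun l => nmG (pre M.toNatV l)) (fun l => Mix.pt (toRMod (pre M.toNatV l)))
      (fun l a => KX (Mix.pt (toRMod (pre M.toNatV l)) a)) (o2 P) where
  kt l := (al l).kt vec10_ne
  comm l m _ v hv w hw := NV.comm M.toNatV (fac_le _ _ hv) (fac_le _ _ hw)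
  QV' l m hm a q hq v hv := by
    obtain ⟨g, hg, h1⟩ := exists_gr M l a
    exact cj_QL_comm M hC hm hg (ChoiceBase.mem_cj.2 (mem_QQ M h1 hq)) hv
  VQ' l m a v hv := by
    obtain ⟨g, hg, h1⟩ := exists_gr M l a
    have h2 := ChoiceBase.mem_cj.1 (zl_le_cj_QL M hC (i := l) (grp_le _ _ hg) (M.V_le (fac_le _ _ hv)))
    rw [← h1, ← Mix.cj_QQ, mem_cj]
    exact h2
  ch l a := by
    obtain ⟨R, w, hw, rfl⟩ := a
    rintro x ⟨hx1, hx2⟩
    exact ((al l).all vec10_ne hw).ch x hx1 fun q hq => (mem_centralizer_iff.1 hx2 q hq).symm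
  cQ := cent_o2P M
  QC l g hg v hv := o2P_comm M hg (M.V_le (fac_le _ _ hv))
  CQ l a q hq h := by
    obtain ⟨g, hg, h1⟩ := exists_gr M l a
    have hgP : g ∈ P := grp_le _ _ hg
    have h2 := mem_QQ M h1 hq
    have h3 : g⁻¹ * q * g ∈ o2 P := by
      refine mem_o2P_of_triv M (hC l h2) fun m v hv => ?_
      have h4 : g * v * g⁻¹ ∈ fac M.toNatV m := (mem_normalizer_iff.1 (grp_normalizes M.toNatV {l} {m} hg) v).1 hv
      have h5 := h m _ h4
      calc g⁻¹ * q * g * v * (g⁻¹ * q * g)⁻¹ = g⁻¹ * (q * (g * v * g⁻¹)) * q⁻¹ * g := by group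
        _ = g⁻¹ * (g * v * g⁻¹ * q) * q⁻¹ * g := by rw [h5]
        _ = v := by group
    have h4 := (mem_normalizer_iff.1 (VModule.le_normalizer_o2 P hgP) _).1 h3
    have e : g * (g⁻¹ * q * g) * g⁻¹ = q := by group
    rwa [e] at h4
  nQ l a q hq := by
    obtain ⟨g, hg, h1⟩ := exists_gr M l a
    have h2 := cj_QL_le_P M hC (grp_le _ _ hg) (ChoiceBase.mem_cj.2 (mem_QQ M h1 hq))
    exact VModule.le_normalizer_o2 P h2

omit hC in
theorem o2_le_stab (i : Fin k) : o2 P ≤ stab M.toNatV i := by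
  refine le_inf (o2_le_S M) fun x hx => centralizer_le_normalizer _ (mem_centralizer_iff.2 fun v hv => ?_)
  exact (o2P_comm M hx (M.V_le (fac_le _ _ hv))).symm

omit hC in
theorem pt10 (l : Fin k) : Mix.pt (toRMod (pre M.toNatV l)) (Cv.TwoFour.i₀ (toRMod (pre M.toNatV l))) =
    line M.toNatV l := line10 M l

theorem QL_le_stab' (i l : Fin k) : QL M l ≤ stab M.toNatV i := by
  by_cases h : l = i
  · rw [h]; exact QL_le_stab M hC i
  · exact le_inf (hC l) ((QL_le_cent M hC (Ne.symm h)).trans (centralizer_le_normalizer _))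

/-- **the frame `Four.FT` over `stab M i`** -/
theorem ft (al : ∀ l, AtLine (toRMod (pre M.toNatV l)) ![1, 0]) (i : Fin k) :
    FT (fun l => fac M.toNatV l) (fun l => nmG (pre M.toNatV l)) (fun l => Mix.pt (toRMod (pre M.toNatV l)))
      (fun l a => KX (Mix.pt (toRMod (pre M.toNatV l)) a)) (o2 P)
      (fun l => Cv.TwoFour.i₀ (toRMod (pre M.toNatV l))) (stab M.toNatV i) i where
  toFr := fr M hC al
  card l m a b := by
    obtain ⟨R, w, hw, rfl⟩ := a
    obtain ⟨R', w', hw', rfl⟩ := b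
    exact ((toRMod (pre M.toNatV l)).card_line hw).trans ((toRMod (pre M.toNatV m)).card_line hw').symm
  T2 := S.isPGroup'.to_le (stab_le _ _)
  QT := o2_le_stab M i
  QQT l := by
    show BTwo.QQ (Mix.pt (toRMod (pre M.toNatV l)) (Cv.TwoFour.i₀ (toRMod (pre M.toNatV l)))) ≤ _
    rw [pt10]
    exact QL_le_stab' M hC i l
  TV := stab_normalizes _ _
  TQ := ((stab_le _ _).trans (SP M)).trans (VModule.le_normalizer_o2 P)
  perm g hg l := ⟨_, conj_fac M.toNatV (SP M (stab_le _ _ hg)) l⟩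
  lin g hg l m h := by
    show cj g (Mix.pt (toRMod (pre M.toNatV l)) (Cv.TwoFour.i₀ (toRMod (pre M.toNatV l)))) =
      Mix.pt (toRMod (pre M.toNatV m)) (Cv.TwoFour.i₀ (toRMod (pre M.toNatV m)))
    rw [pt10, pt10]
    exact cj_line_S M (stab_le _ _ hg) h
  TL g hg l h := stab_le_nmG (SP M) M.toNatV l (mem_inf.2 ⟨stab_le _ _ hg, h⟩)
  TCQ g hg h := mem_o2P_of_triv M (stab_le _ _ hg) fun l v hv => by rw [h l v hv, mul_inv_cancel_right]

omit hC in
/-- an element normalising `stab M i` and `line M i`, with square in `stab M i`, which permutes the other lines -/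
theorem kp (i : Fin k) {t : G} (ht : t ∉ stab M.toNatV i) (hN : t ∈ normalizer (stab M.toNatV i : Set G))
    (h2 : t * t ∈ stab M.toNatV i) (hR : t ∈ normalizer (line M.toNatV i : Set G))
    (hp : ∀ l, l ≠ i → ∃ m, m ≠ i ∧ cj t (line M.toNatV l) = line M.toNatV m) : False := by
  classical
  have hfact : Fact (Nat.Prime 2) := ⟨Nat.prime_two⟩
  -- the group permuting the lines
  let N₁ : Subgroup G :=
    { carrier := {g | ∃ σ : Equiv.Perm (Fin k), ∀ l, cj g (line M.toNatV l) = line M.toNatV (σ l)}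
      one_mem' := ⟨1, fun l => BTwo.cj_one _⟩
      mul_mem' := by
        rintro a b ⟨σ, hσ⟩ ⟨τ, hτ⟩
        exact ⟨σ * τ, fun l => by rw [BTwo.cj_mul, hτ, hσ]; rfl⟩
      inv_mem' := by
        rintro a ⟨σ, hσ⟩
        refine ⟨σ⁻¹, fun l => ?_⟩
        have h1 := hσ (σ⁻¹ l)
        rw [show σ (σ⁻¹ l) = l from σ.apply_symm_apply l] at h1
        rw [← h1, ← BTwo.cj_mul, inv_mul_cancel, BTwo.cj_one] }
  have hSN : (S : Subgroup G) ≤ N₁ := fun s hs => ⟨sg M.toNatV (SP M hs), fun l => conj_line M.toNatV (SP M) hs l⟩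
  have htN : t ∈ N₁ := by
    have hex : ∀ l, ∃ m, cj t (line M.toNatV l) = line M.toNatV m := by
      intro l
      by_cases hl : l = i
      · exact ⟨i, by rw [hl]; exact cj_eq_self_iff.2 hR⟩
      · obtain ⟨m, -, hm⟩ := hp l hl
        exact ⟨m, hm⟩
    choose f hf using hex
    have hinj : Function.Injective f := by
      intro a b hab
      have h1 : cj t (line M.toNatV a) = cj t (line M.toNatV b) := by rw [hf, hf, hab]
      exact line_inj (M := M.toNatV) (BTwo.cj_injective h1).le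
    exact ⟨Equiv.ofBijective f ((Finite.injective_iff_bijective).1 hinj), fun l => hf l⟩
  have hT2 : IsPGroup 2 (stab M.toNatV i) := S.isPGroup'.to_le (stab_le _ _)
  have ht2 : IsPGroup 2 (zpowers t) := by
    obtain ⟨n, hn⟩ := hT2 ⟨t * t, h2⟩
    have hn' : (t * t) ^ 2 ^ n = 1 := congrArg Subtype.val hn
    rintro ⟨x, m, rfl⟩
    refine ⟨n + 1, Subtype.ext ?_⟩
    show (t ^ m) ^ 2 ^ (n + 1) = 1
    rw [← zpow_natCast, ← zpow_mul, mul_comm, zpow_mul, zpow_natCast, pow_succ', pow_mul, pow_two, hn', one_zpow]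
  set U : Subgroup G := zpowers t ⊔ stab M.toNatV i with hU
  have hU2 : IsPGroup 2 U := by
    refine IsPGroup.to_sup_of_normal_right' ht2 hT2 ?_
    rw [zpowers_le]
    exact hN
  have hUN : U ≤ N₁ := sup_le (by rw [zpowers_le]; exact htN) ((stab_le _ _).trans hSN)
  have hUR : U ≤ normalizer (line M.toNatV i : Set G) :=
    sup_le (by rw [zpowers_le]; exact hR) (stab_normalizes_line M.toNatV (SP M) i)
  obtain ⟨Q', hUQ, hQN⟩ := exists_sylow_over (T₁ := S) hU2 hUN hSN
  obtain ⟨g, hg, hgQ⟩ := M4.exists_cj_eq hSN hQN S.isPGroup' Q'.isPGroup' (MinSimple.Basic.not_dvd_relIndex S hSN)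
    (MinSimple.Basic.not_dvd_relIndex Q' hQN)
  have hgU : cj g U ≤ (S : Subgroup G) := by
    rw [← hgQ]
    exact cj_mono hUQ
  obtain ⟨σ, hσ⟩ := hg
  obtain ⟨s, hs, -, hsl⟩ := exists_tr M (σ i) i
  have h3 : cj (s * g) U ≤ stab M.toNatV i := by
    rintro _ ⟨x, hx, rfl⟩
    change s * g * x * (s * g)⁻¹ ∈ stab M.toNatV i
    have h4 : g * x * g⁻¹ ∈ (S : Subgroup G) := hgU (conj_mem_cj hx)
    have h5 : s * g * x * (s * g)⁻¹ ∈ (S : Subgroup G) := by
      have e : s * g * x * (s * g)⁻¹ = s * (g * x * g⁻¹) * s⁻¹ := by group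
      rw [e]
      exact mul_mem (mul_mem hs h4) (inv_mem hs)
    refine mem_inf.2 ⟨h5, ?_⟩
    have h6 : cj (s * g) (line M.toNatV i) = line M.toNatV i := by rw [BTwo.cj_mul, hσ, hsl]
    have h7 : s * g * x * (s * g)⁻¹ ∈ normalizer (line M.toNatV i : Set G) := by
      have h8 := conj_mem_cj (g := s * g) (hUR hx)
      rw [← BTwo.normalizer_cj, h6] at h8
      exact h8
    have h9 := conj_line M.toNatV (SP M) h5 i
    have h10 : cj (s * g * x * (s * g)⁻¹) (line M.toNatV i) = line M.toNatV i := cj_eq_self_iff.2 h7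
    have h11 : sg M.toNatV (SP M h5) i = i := by
      refine line_inj (M := M.toNatV) (le_of_eq ?_)
      rw [← h9]
      exact h10
    exact (mem_normalizer_fac_iff M.toNatV (SP M h5)).2 h11
  have h4 : Nat.card U ≤ Nat.card (stab M.toNatV i) := by
    rw [← card_cj (s * g) U]
    exact Subgroup.card_le_of_le h3
  have h5 : stab M.toNatV i = U := eq_of_le_of_card_ge le_sup_right h4
  exact ht (by rw [h5]; exact mem_sup_left (mem_zpowers t))

/-- **CASE 2a, `q ≥ 4`, `k ≥ 3`** (helper796, #21992): a Sylow 2-subgroup of `N_G(line M i)` over `stab M i`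
normalises `fac M i`. -/
theorem big2A4 {i : Fin k} (hk : 2 < k) (hD : D ≠ ⊥) {F' : Type} [Field F'] [Finite F'] [CharP F' 2]
    {V' N' : Subgroup G} {M' : RMod F' V' N'} (p : Partner (line M.toNatV i) (toRMod (pre M.toNatV i)) M')
    (hT : ∀ U : Subgroup G, IsPGroup 2 U → stab M.toNatV i ≤ U → U ≤ normalizer (fac M.toNatV i : Set G) →
      U ≤ normalizer (line M.toNatV i : Set G) → ∀ t ∈ U, (pre M.toNatV i).Nm t) (h4 : 4 ≤ Nat.card F) :
    ∃ T₁, Cv.OverT M i T₁ := by
  have hfact : Fact (Nat.Prime 2) := ⟨Nat.prime_two⟩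
  have al := fun l => partner_at M hC p l
  have hT2 : IsPGroup 2 (stab M.toNatV i) := S.isPGroup'.to_le (stab_le _ _)
  obtain ⟨Th, hle, hThH, hTh2, hThs⟩ := Half.exists_sylow_le hT2 (le_inf (stab_normalizes M.toNatV i)
    (stab_normalizes_line M.toNatV (SP M) i) :
      stab M.toNatV i ≤ normalizer (fac M.toNatV i : Set G) ⊓ normalizer (line M.toNatV i : Set G))
  have hThV := hThH.trans inf_le_left
  have hThR := hThH.trans inf_le_right
  by_cases hodd : ¬ 2 ∣ Th.relIndex (normalizer (line M.toNatV i : Set G))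
  · exact ⟨Th, hTh2, hle, hThV, hThR, hodd⟩
  exfalso
  rw [not_not] at hodd
  -- a bigger 2-group in `N(R)`
  obtain ⟨S', hTS, hS'N, hS'2, hS's⟩ := Half.exists_sylow_le hTh2 hThR
  have hlt : ¬ S' ≤ Th := fun h => hS's (by rw [le_antisymm h hTS]; exact hodd)
  obtain ⟨w₁, hw₁S, hw₁N, hw₁⟩ :=
    Cfsg.Agent.Omega.F4Leaf.Syl.LocP.exists_step hTh2 hS'2 (hTS.trans le_normalizer) hlt
  obtain ⟨n, hn1, hn2⟩ := CvBig.Four.exists_pow_sq (hS'2.to_le (by rw [zpowers_le]; exact hw₁S)) hw₁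
  obtain ⟨S₁, hS₁⟩ := hS'2.exists_le_sylow
  obtain ⟨l, hl⟩ : ∃ l : Fin k, l ≠ i := by
    have : Nontrivial (Fin k) := Fin.nontrivial_iff_two_le.2 (by omega)
    exact exists_ne i
  have hfr := fr M hC al
  have hQQi : BTwo.QQ (Mix.pt (toRMod (pre M.toNatV i)) (Cv.TwoFour.i₀ (toRMod (pre M.toNatV i)))) ≤
      stab M.toNatV i := (ft M hC al i).QQT i
  obtain ⟨x, hxz, hx1, hxW, hxX⟩ := CvBig.Four.exists_x M hD hl hfr (stab_le_nmG (SP M) M.toNatV i)
    (o2_le_stab M i) hQQi (S₁ := S₁) (hle.trans (hTS.trans hS₁))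
  obtain ⟨-, hxc, hx2⟩ := VModule.mem_zc.1 hxz
  have hfs : FS (fun l => fac M.toNatV l) (fun l => nmG (pre M.toNatV l))
      (fun l => Mix.pt (toRMod (pre M.toNatV l)))
      (fun l a => KX (Mix.pt (toRMod (pre M.toNatV l)) a)) (o2 P)
      (fun l => Cv.TwoFour.i₀ (toRMod (pre M.toNatV l))) Th i :=
    { toFr := hfr
      Th2 := hTh2
      ThV := hThV
      ThL := fun t ht => M4.mem_nmG.2 ⟨hThV ht, hT Th hTh2 hle hThV hThR t ht,
        hT Th hTh2 hle hThV hThR _ (inv_mem ht)⟩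
      ThR := by
        show Th ≤ normalizer (Mix.pt (toRMod (pre M.toNatV i)) (Cv.TwoFour.i₀ (toRMod (pre M.toNatV i))) : Set G)
        rw [pt10]
        exact hThR
      syl := by
        show ¬ 2 ∣ Th.relIndex (normalizer (fac M.toNatV i : Set G) ⊓
          normalizer (Mix.pt (toRMod (pre M.toNatV i)) (Cv.TwoFour.i₀ (toRMod (pre M.toNatV i))) : Set G))
        rw [pt10]
        exact hThs
      QTh := (o2_le_stab M i).trans hle
      QQTh := fun l => ((ft M hC al i).QQT l).trans hle }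
  have huR : w₁ ^ n ∈ normalizer
      (Mix.pt (toRMod (pre M.toNatV i)) (Cv.TwoFour.i₀ (toRMod (pre M.toNatV i))) : Set G) := by
    rw [pt10]
    exact pow_mem (hS'N hw₁S) n
  obtain ⟨w, hw⟩ := hfs.step hl hxW hxX
    (MinSimple.Basic.char2_centralizer M.hG hx2 hx1) hS'2 hTS
    (fun s hs => mem_centralizer_singleton_iff.2 (hxc s (hS₁ hs))) (pow_mem hw₁S n) (pow_mem hw₁N n) huR hn1 hn2
  have hA := hfs.fa hw
  obtain ⟨n₀, hn₀, hn₀R⟩ := CvBig.Four.exists_N (al i) hA h4
  have hKK : ∀ n : G, stab M.toNatV i ≤ normalizer (cj n (Mix.pt (toRMod (pre M.toNatV i))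
      (Cv.TwoFour.i₀ (toRMod (pre M.toNatV i)))) : Set G) → stab M.toNatV i ≤
      normalizer (cj n (KX (Mix.pt (toRMod (pre M.toNatV i)) (Cv.TwoFour.i₀ (toRMod (pre M.toNatV i))))) : Set G) := by
    intro n hn
    rw [Cv.TwoFour.cj_KX]
    exact hn.trans (normalizer_le_normalizer_KX _)
  obtain ⟨Rc, Kc, sv⟩ := CvBig.Four.exists_sv (o := fun l => Cv.TwoFour.i₀ (toRMod (pre M.toNatV l)))
    hfr hA hle hw.wW hKK hn₀ hn₀R
  · refine (ft M hC al i).kill sv (fun j => ?_) fun t ht hN h2 hR hp => ?_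
    · by_cases hji : j = i
      · exact ⟨l, hl, fun h => hl (h.trans hji)⟩
      · obtain ⟨m, hm⟩ : ∃ m : Fin k, m ∉ ({i, j} : Finset (Fin k)) := by
          by_contra hcon
          push Not at hcon
          have h5 : (Finset.univ : Finset (Fin k)) ⊆ {i, j} := fun m _ => hcon m
          have h6 := Finset.card_le_card h5
          rw [Finset.card_univ, Fintype.card_fin] at h6
          have h7 := Finset.card_le_two (a := i) (b := j)
          omega
        simp only [Finset.mem_insert, Finset.mem_singleton, not_or] at hm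
        exact ⟨m, hm.1, hm.2⟩
    · refine kp M i ht hN h2 ?_ fun l hl => ?_
      · have h5 : t ∈ normalizer
          (Mix.pt (toRMod (pre M.toNatV i)) (Cv.TwoFour.i₀ (toRMod (pre M.toNatV i))) : Set G) := hR
        rwa [pt10] at h5
      · obtain ⟨m, hm, h5⟩ := hp l hl
        have h6 : cj t (Mix.pt (toRMod (pre M.toNatV l)) (Cv.TwoFour.i₀ (toRMod (pre M.toNatV l)))) =
          Mix.pt (toRMod (pre M.toNatV m)) (Cv.TwoFour.i₀ (toRMod (pre M.toNatV m))) := h5
        rw [pt10, pt10] at h6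
        exact ⟨m, hm, h6⟩

end frame

end Cfsg.Agent.Omega.IId.NV.FourI
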