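import Cfsg.Agent.Omega.IId.CvBig.FourBase
import Cfsg.Agent.Omega.F4Leaf.Syl.LocP

/-!
# CvBig, CASE 2a, all `q`, `k ≥ 3`: the kill of (SURV) (helper796)

`FT` : the frame over `T = N_S(Vf i)`.  `Sv` : (SURV), `Rc ≠ R i` a `T`-invariant conjugate of `R i`, `Kc` its root group.

* `FT.Zlem` : LEMMA 3;
* `FT.kill` : (SURV) is impossible.
-/

set_option autoImplicit false
set_option linter.unusedSectionVars false

namespace Cfsg.Agent.Omega.IId.CvBig.Four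

open Subgroup Cfsg.Agent.Omega.BTwo Cfsg.Agent.Omega.IId.Cv.TwoFour
open Cfsg.Agent.Omega.F4Leaf.Syl.LocP (exists_step)

variable {G : Type*} [Group G] {κ : Type*} {ι : κ → Type*}

/-- a 2-element outside `T` has a power outside `T` with square in `T` -/
theorem exists_pow_sq {T : Subgroup G} {w : G} (h2 : IsPGroup 2 (zpowers w)) (hw : w ∉ T) :
    ∃ n : ℕ, w ^ n ∉ T ∧ w ^ n * w ^ n ∈ T := by
  classical
  obtain ⟨n, hn⟩ := h2 ⟨w, mem_zpowers w⟩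
  have hn' : w ^ 2 ^ n = 1 := congrArg Subtype.val hn
  have hex : ∃ n, w ^ 2 ^ n ∈ T := ⟨n, by rw [hn']; exact one_mem _⟩
  have h1 := Nat.find_spec hex
  have h0 : Nat.find hex ≠ 0 := by
    intro h0
    rw [h0, pow_zero, pow_one] at h1
    exact hw h1
  obtain ⟨m, hm⟩ := Nat.exists_eq_succ_of_ne_zero h0
  refine ⟨2 ^ m, fun h => ?_, ?_⟩
  · exact Nat.find_min hex (by omega) h
  · rw [← pow_add, ← two_mul, ← pow_succ']
    rw [hm] at h1
    exact h1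

/-- the frame over `T` -/
structure FT (Vf Lf : κ → Subgroup G) (R K : ∀ l, ι l → Subgroup G) (Q : Subgroup G) (o : ∀ l, ι l)
    (T : Subgroup G) (i : κ) : Prop extends Fr Vf Lf R K Q where
  card : ∀ l m (a : ι l) (b : ι m), Nat.card (R l a) = Nat.card (R m b)
  T2 : IsPGroup 2 T
  QT : Q ≤ T
  QQT : ∀ l, QQ (R l (o l)) ≤ T
  TV : T ≤ normalizer (Vf i : Set G)
  TQ : T ≤ normalizer (Q : Set G)
  perm : ∀ g ∈ T, ∀ l, ∃ m, cj g (Vf l) = Vf m
  lin : ∀ g ∈ T, ∀ l m, cj g (Vf l) = Vf m → cj g (R l (o l)) = R m (o m)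
  TL : ∀ g ∈ T, ∀ l, g ∈ normalizer (Vf l : Set G) → g ∈ Lf l
  TCQ : ∀ g ∈ T, (∀ l, ∀ v ∈ Vf l, g * v = v * g) → g ∈ Q

/-- (SURV) -/
structure Sv (R K : ∀ l, ι l → Subgroup G) (Q : Subgroup G) (o : ∀ l, ι l) (T : Subgroup G) (i : κ)
    (Rc Kc : Subgroup G) : Prop where
  RcU : Rc ≤ Uc (R i (o i))
  RcQ : Rc ≤ centralizer (Q : Set G)
  Rcd : ∀ c ∈ Rc, ∃ r ∈ R i (o i), r⁻¹ * c ∈ centralizer (XK (K i) : Set G)
  RcX : ∀ c ∈ Rc, c ∈ centralizer (XK (K i) : Set G) → c = 1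
  card : Nat.card Rc = Nat.card (R i (o i))
  Kc2 : IsPGroup 2 Kc
  TKc : T ≤ normalizer (Kc : Set G)
  Kcn : ¬ Kc ≤ T
  Kcc : ∀ a ∈ Kc, ∀ b ∈ Kc, a * b * a⁻¹ * b⁻¹ ∈ Rc
  KcR : ∀ a ∈ Kc, ∀ r ∈ R i (o i), a * r = r * a

/-- `[ρ⁻¹ y, u] = [y, u]` for `ρ ∈ Wh`, `u ∈ Q` -/
theorem Fr.shift {Vf Lf : κ → Subgroup G} {R K : ∀ l, ι l → Subgroup G} {Q : Subgroup G} (h : Fr Vf Lf R K Q)
    {ρ y u : G} (hρ : ρ ∈ Wh Vf K Q) (hu : u ∈ Q) (hyu : y * u * y⁻¹ * u⁻¹ ∈ Wh Vf K Q) :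
    (ρ⁻¹ * y) * u * (ρ⁻¹ * y)⁻¹ * u⁻¹ = y * u * y⁻¹ * u⁻¹ := by
  have h5 := h.Wh_comm (inv_mem hρ) hyu
  have h6 := mem_centralizer_iff.1 (inv_mem (inv_mem (h.Wh_le_cen hρ))) _ hu
  calc (ρ⁻¹ * y) * u * (ρ⁻¹ * y)⁻¹ * u⁻¹ = ρ⁻¹ * (y * u * y⁻¹ * u⁻¹) * (u * ρ⁻¹⁻¹ * u⁻¹) := by group
    _ = ρ⁻¹ * (y * u * y⁻¹ * u⁻¹) * ρ⁻¹⁻¹ := by rw [h6, mul_inv_cancel_right]
    _ = _ := by rw [h5, mul_inv_cancel_right]

namespace Fr

variable {Vf Lf : κ → Subgroup G} {R K : ∀ l, ι l → Subgroup G} {Q : Subgroup G} (h : Fr Vf Lf R K Q)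
include h

theorem Vf_inf {l m : κ} (hlm : l ≠ m) {v : G} (h1 : v ∈ Vf l) (h2 : v ∈ Vf m) : v = 1 :=
  h.uniq h1 (h.V_cen_X hlm.symm h2)

theorem Vf_ne (l : κ) (a : ι l) : ∃ v ∈ Vf l, v ≠ 1 ∧ v ∉ R l a := by
  obtain ⟨b, hb, -⟩ := (h.kt l).third a a
  obtain ⟨v, hv, hv1⟩ := (h.kt l).exists_ne b
  exact ⟨v, (h.kt l).R_le b hv, hv1, (h.kt l).not_mem hb hv hv1⟩

theorem Vf_inj {l m : κ} (hlm : Vf l = Vf m) : l = m := by
  by_contra hne
  obtain ⟨a, -⟩ := (h.kt l).R_cov 1 (one_mem _)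
  obtain ⟨v, hv, hv1, -⟩ := h.Vf_ne l a
  exact hv1 (h.Vf_inf hne hv (hlm ▸ hv))

/-- uniqueness of components -/
theorem comp_eq {l : κ} {a a' z : G} (ha : a ∈ Vf l) (ha' : a' ∈ Vf l)
    (h1 : a⁻¹ * z ∈ centralizer (XK (K l) : Set G)) (h2 : a'⁻¹ * z ∈ centralizer (XK (K l) : Set G)) : a = a' := by
  have h3 : a'⁻¹ * a ∈ centralizer (XK (K l) : Set G) := by
    have e : a'⁻¹ * a = a'⁻¹ * z * (a⁻¹ * z)⁻¹ := by group
    rw [e]
    exact mul_mem h2 (inv_mem h1)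
  exact (inv_mul_eq_one.1 (h.uniq (mul_mem (inv_mem ha') ha) h3)).symm

/-- `g` commutes with `z ∈ Wh` if it commutes with the components of `z` and with `Dh` -/
theorem cent_of_comp [Finite κ] {g z : G} (hz : z ∈ Wh Vf K Q)
    (hg : ∀ l, ∀ a ∈ Vf l, a⁻¹ * z ∈ centralizer (XK (K l) : Set G) → g * a = a * g)
    (hD : ∀ d ∈ Dh K Q, g * d = d * g) : g * z = z * g := by
  classical
  have := Fintype.ofFinite κ
  have key : ∀ s : Finset κ, ∃ v ∈ Wh Vf K Q, g * v = v * g ∧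
      (∀ l ∈ s, v⁻¹ * z ∈ centralizer (XK (K l) : Set G)) ∧ ∀ l, l ∉ s → v ∈ centralizer (XK (K l) : Set G) := by
    intro s
    induction s using Finset.induction_on with
    | empty => exact ⟨1, one_mem _, by simp, fun l hl => absurd hl (Finset.notMem_empty l), fun l _ => one_mem _⟩
    | insert m s hm ih =>
      obtain ⟨v, hv, hgv, h1, h2⟩ := ih
      obtain ⟨a, ha, haz⟩ := h.dec hz m
      have haW := Vf_le_Wh Vf K Q m ha
      refine ⟨v * a, mul_mem hv haW, ?_, fun l hl => ?_, fun l hl => ?_⟩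
      · rw [← mul_assoc, hgv, mul_assoc, hg m a ha haz, mul_assoc]
      · rcases Finset.mem_insert.1 hl with rfl | hl
        · have e1 : (v * a)⁻¹ * z = v⁻¹ * (a⁻¹ * z) := by
            rw [h.Wh_comm hv haW]; group
          rw [e1]
          exact mul_mem (inv_mem (h2 l hm)) haz
        · have e1 : (v * a)⁻¹ * z = a⁻¹ * (v⁻¹ * z) := by group
          rw [e1]
          exact mul_mem (inv_mem (h.V_cen_X (by rintro rfl; exact hm hl) ha)) (h1 l hl)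
      · rw [Finset.mem_insert, not_or] at hl
        exact mul_mem (h2 l hl.2) (h.V_cen_X (Ne.symm hl.1) ha)
  obtain ⟨v, hv, hgv, h1, -⟩ := key Finset.univ
  have hd : v⁻¹ * z ∈ Dh K Q := h.mem_Dh_of (mul_mem (inv_mem hv) hz) fun l => h1 l (Finset.mem_univ l)
  have h2 := hD _ hd
  calc g * z = g * v * (v⁻¹ * z) := by group
    _ = v * (g * (v⁻¹ * z)) := by rw [hgv]; group
    _ = z * g := by rw [h2]; group

end Fr

namespace FT

variable {Vf Lf : κ → Subgroup G} {R K : ∀ l, ι l → Subgroup G} {Q : Subgroup G} {o : ∀ l, ι l} {T : Subgroup G}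
  {i : κ} (h : FT Vf Lf R K Q o T i)
include h

theorem cj_i {g : G} (hg : g ∈ T) : cj g (Vf i) = Vf i := cj_eq_self_iff.2 (h.TV hg)

theorem TR : T ≤ normalizer (R i (o i) : Set G) := fun g hg =>
  cj_eq_self_iff.1 (h.lin g hg i i (h.cj_i hg))

theorem T_zp {g : G} (hg : g ∈ T) : IsPGroup 2 (zpowers g) := h.T2.to_le (by rw [zpowers_le]; exact hg)

theorem KT' (l : κ) : K l (o l) ≤ T := ((h.kt l).K_Q (o l)).trans (h.QQT l)

/-- an element of `T` normalising `Vf l` and centralising the line acts as a root element -/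
theorem root [Finite G] {g : G} (hg : g ∈ T) {l : κ} (hV : g ∈ normalizer (Vf l : Set G))
    (hR : ∀ r ∈ R l (o l), g * r = r * g) : ∃ u ∈ K l (o l), u * g ∈ centralizer (Vf l : Set G) :=
  lemA (h.kt l) (h.TL g hg l hV) (h.T_zp hg) hR

/-- `[g, v] = [u⁻¹, v]` -/
theorem comm_root {g u v : G} {V : Subgroup G} (hu : u * g ∈ centralizer (V : Set G)) (hv : v ∈ V) :
    g * v * g⁻¹ * v⁻¹ = u⁻¹ * v * u⁻¹⁻¹ * v⁻¹ := by
  have _ := h
  have h3 := mem_centralizer_iff.1 hu v hv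
  calc g * v * g⁻¹ * v⁻¹ = u⁻¹ * (u * g * v) * g⁻¹ * v⁻¹ := by group
    _ = u⁻¹ * (v * (u * g)) * g⁻¹ * v⁻¹ := by rw [← h3]
    _ = _ := by group

theorem comm_root_mem {g u : G} {l : κ} (hu : u ∈ K l (o l)) (hug : u * g ∈ centralizer (Vf l : Set G))
    {v : G} (hv : v ∈ Vf l) : g * v * g⁻¹ * v⁻¹ ∈ R l (o l) := by
  rw [h.comm_root hug hv]
  exact (h.kt l).QV (o l) _ (inv_mem ((h.kt l).K_Q (o l) hu)) v hv

/-- an element of `T` which acts as a root element on every factor centralises `Dh` -/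
theorem comm_Dh [Finite G] [Finite κ] {g : G} (hg : g ∈ T)
    (hr : ∀ l, ∃ u ∈ K l (o l), u * g ∈ centralizer (Vf l : Set G)) {d : G} (hd : d ∈ Dh K Q) : g * d = d * g := by
  classical
  have := Fintype.ofFinite κ
  have hgV : ∀ l, ∀ v ∈ Vf l, g * v * g⁻¹ ∈ Vf l := by
    intro l v hv
    obtain ⟨u, hu, hug⟩ := hr l
    have h1 := h.comm_root_mem hu hug hv
    have e : g * v * g⁻¹ = g * v * g⁻¹ * v⁻¹ * v := by group
    rw [e]
    exact mul_mem ((h.kt l).R_le _ h1) hv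
  have key : ∀ s : Finset κ, ∃ x ∈ T, x * d = d * x ∧ (∀ l ∈ s, x * g ∈ centralizer (Vf l : Set G)) ∧
      ∀ l, l ∉ s → x ∈ centralizer (Vf l : Set G) := by
    intro s
    induction s using Finset.induction_on with
    | empty => exact ⟨1, one_mem _, by simp, fun l hl => absurd hl (Finset.notMem_empty l), fun l _ => one_mem _⟩
    | insert m s hm ih =>
      obtain ⟨x, hx, hxd, h1, h2⟩ := ih
      obtain ⟨u, hu, hug⟩ := hr m
      have huV : ∀ l, l ≠ m → u ∈ centralizer (Vf l : Set G) := fun l hl => by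
        rw [mem_centralizer_iff]
        exact fun v hv => (h.K_comm hl hu hv).symm
      have hud : u * d = d * u := mem_centralizer_iff.1 ((mem_Dh.1 hd).2 m) u (K_le_X (K m) (o m) hu)
      refine ⟨u * x, mul_mem (h.KT' m hu) hx, ?_, fun l hl => ?_, fun l hl => ?_⟩
      · rw [mul_assoc, hxd, ← mul_assoc, hud, mul_assoc]
      · rcases Finset.mem_insert.1 hl with rfl | hl'
        · rw [mem_centralizer_iff]
          intro v hv
          have h3 := hgV l v hv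
          have h4 := mem_centralizer_iff.1 (h2 l hm) _ h3
          have h5 := mem_centralizer_iff.1 hug v hv
          calc v * (u * x * g) = (v * (u * g)) * g⁻¹ * x * g := by
                have h6 : g⁻¹ * x * g = g⁻¹ * x * g := rfl
                group
            _ = u * (g * v * g⁻¹) * x * g := by rw [h5]; group
            _ = u * (g * v * g⁻¹ * x) * g := by group
            _ = u * x * g * v := by rw [h4]; group
        · have e1 : u * x * g = u * (x * g) := by group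
          rw [e1]
          exact mul_mem (huV l (by rintro rfl; exact hm hl')) (h1 l hl')
      · rw [Finset.mem_insert, not_or] at hl
        exact mul_mem (huV l hl.1) (h2 l hl.2)
  obtain ⟨x, hx, hxd, h1, -⟩ := key Finset.univ
  have h3 : x * g ∈ Q := h.TCQ _ (mul_mem hx hg) fun l v hv =>
    (mem_centralizer_iff.1 (h1 l (Finset.mem_univ l)) v hv).symm
  have h4 := mem_centralizer_iff.1 (mem_Dh.1 hd).1 _ h3
  calc g * d = x⁻¹ * (x * g * d) := by group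
    _ = x⁻¹ * (d * (x * g)) := by rw [h4]
    _ = x⁻¹ * (x * d) * g := by rw [hxd]; group
    _ = d * g := by group

/-- **LEMMA 3** -/
theorem Zlem [Finite G] [Finite κ] {U₀ : Subgroup G} {J₀ : Set κ} {t : G} (hUW : U₀ ≤ Wh Vf K Q)
    (hUt : cj t U₀ = U₀) (hJ : ∀ m ∈ J₀, Vf m ≤ U₀)
    (hn1 : ∀ m, m ∉ J₀ → R m (o m) ≤ U₀)
    (hn2 : ∀ m, m ∉ J₀ → ∀ z ∈ U₀, ∀ a ∈ Vf m, a⁻¹ * z ∈ centralizer (XK (K m) : Set G) → a ∈ R m (o m))
    (hn3 : ∀ m, m ∉ J₀ → ∀ g ∈ T, cj g (Vf m) = Vf m)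
    (htT : t ∈ normalizer (T : Set G)) {l : κ} (hl : l ∈ J₀) : ∃ m ∈ J₀, cj t (R l (o l)) = R m (o m) := by
  have hfr := h.toFr
  have kl := h.kt l
  set A : Subgroup G := cj t (K l (o l)) with hA
  set Z : Subgroup G := cj t (R l (o l)) with hZ
  have hcardZ : Nat.card Z = Nat.card (R l (o l)) := card_cj _ _
  have hAT : A ≤ T := by
    rw [hA, ← cj_eq_self_iff.2 htT]
    exact cj_mono (h.KT' l)
  -- (g1)
  have hUt' : ∀ v ∈ U₀, t⁻¹ * v * t ∈ U₀ := fun v hv => by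
    rw [← hUt] at hv
    exact mem_cj.1 hv
  have g1 : ∀ v ∈ U₀, (∀ a ∈ A, a * v * a⁻¹ * v⁻¹ ∈ Z) ∧
      ((∀ a ∈ A, a * v = v * a) ∨ ∀ z ∈ Z, ∃ a ∈ A, a * v * a⁻¹ * v⁻¹ = z) := by
    intro v hv
    set v' := t⁻¹ * v * t with hv'
    have hv'U := hUt' v hv
    obtain ⟨x, hx, hxv⟩ := hfr.dec (hUW hv'U) l
    have hk : ∀ u ∈ K l (o l), u * v' * u⁻¹ * v'⁻¹ = u * x * u⁻¹ * x⁻¹ := by
      intro u hu
      have h1 := mem_centralizer_iff.1 hxv u (K_le_X (K l) (o l) hu)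
      calc u * v' * u⁻¹ * v'⁻¹ = u * x * (u⁻¹ * (u * (x⁻¹ * v')) * u⁻¹) * v'⁻¹ := by group
        _ = u * x * (u⁻¹ * ((x⁻¹ * v') * u) * u⁻¹) * v'⁻¹ := by rw [h1]
        _ = u * x * u⁻¹ * x⁻¹ := by group
    have hconj : ∀ a : G, t⁻¹ * (a * v * a⁻¹ * v⁻¹) * t = (t⁻¹ * a * t) * v' * (t⁻¹ * a * t)⁻¹ * v'⁻¹ := by
      intro a
      rw [hv']; group
    refine ⟨fun a ha => ?_, ?_⟩
    · rw [hZ, mem_cj, hconj, hk _ (mem_cj.1 ha)]
      exact kl.QV (o l) _ (kl.K_Q (o l) (mem_cj.1 ha)) x hx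
    · by_cases hxR : x ∈ R l (o l)
      · left
        intro a ha
        have h1 : t⁻¹ * (a * v * a⁻¹ * v⁻¹) * t = 1 := by
          rw [hconj, hk _ (mem_cj.1 ha), kl.QR (o l) _ (kl.K_Q (o l) (mem_cj.1 ha)) x hxR]
          group
        have h2 : a * v * a⁻¹ * v⁻¹ = 1 := by
          calc a * v * a⁻¹ * v⁻¹ = t * (t⁻¹ * (a * v * a⁻¹ * v⁻¹) * t) * t⁻¹ := by group
            _ = 1 := by rw [h1]; group
        rw [mul_inv_eq_one, mul_inv_eq_iff_eq_mul] at h2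
        exact h2
      · right
        intro z hz
        rw [hZ, mem_cj] at hz
        obtain ⟨u, hu, hur⟩ := kt_full kl hx hxR hz
        refine ⟨t * u * t⁻¹, conj_mem_cj hu, ?_⟩
        have h1 := hconj (t * u * t⁻¹)
        have e : t⁻¹ * (t * u * t⁻¹) * t = u := by group
        rw [e, hk u hu, hur] at h1
        calc t * u * t⁻¹ * v * (t * u * t⁻¹)⁻¹ * v⁻¹
            = t * (t⁻¹ * (t * u * t⁻¹ * v * (t * u * t⁻¹)⁻¹ * v⁻¹) * t) * t⁻¹ := by group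
          _ = z := by rw [h1]; group
  -- (g2)
  have g2 : ∀ a ∈ A, ∀ z ∈ Z, a * z = z * a := by
    intro a ha z hz
    have h1 := kl.QR (o l) _ (kl.K_Q (o l) (mem_cj.1 ha)) _ (mem_cj.1 hz)
    calc a * z = t * ((t⁻¹ * a * t) * (t⁻¹ * z * t)) * t⁻¹ := by group
      _ = t * ((t⁻¹ * z * t) * (t⁻¹ * a * t)) * t⁻¹ := by rw [h1]
      _ = z * a := by group
  -- (g3)
  have g3 : ∀ a ∈ A, ∀ m, cj a (Vf m) = Vf m := by
    intro a ha m
    by_cases hm : m ∈ J₀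
    · obtain ⟨m', hm'⟩ := h.perm a (hAT ha) m
      by_cases hmm : m' = m
      · rw [hm', hmm]
      exfalso
      let f : Vf m → Z := fun v => ⟨a * v * a⁻¹ * (v : G)⁻¹, (g1 v (hJ m hm v.2)).1 a ha⟩
      have hf : Function.Injective f := by
        intro v w hvw
        have h3 : a * (v : G) * a⁻¹ * (v : G)⁻¹ = a * w * a⁻¹ * (w : G)⁻¹ := congrArg Subtype.val hvw
        have h4 : (v : G)⁻¹ * w ∈ Vf m := mul_mem (inv_mem v.2) w.2
        have h5 : (v : G)⁻¹ * w = (a * (v : G)⁻¹ * a⁻¹) * (a * w * a⁻¹) := by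
          have hw : a * (w : G) * a⁻¹ = a * v * a⁻¹ * (v : G)⁻¹ * w := by rw [h3]; group
          rw [hw]; group
        have hca : ∀ x ∈ Vf m, a * x * a⁻¹ ∈ Vf m' := fun x hx => by rw [← hm']; exact conj_mem_cj hx
        have h6 : (v : G)⁻¹ * w ∈ Vf m' := by
          rw [h5]
          exact mul_mem (hca _ (inv_mem v.2)) (hca _ w.2)
        exact Subtype.ext (inv_mul_eq_one.1 (hfr.Vf_inf hmm h6 h4))
      have h8 := Nat.card_le_card_of_injective f hf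
      rw [hcardZ, h.card l m (o l) (o m)] at h8
      have h9 := eq_of_le_of_card_ge ((h.kt m).R_le (o m)) h8
      obtain ⟨v, hv, -, hvR⟩ := hfr.Vf_ne m (o m)
      exact hvR (h9 ▸ hv)
    · exact hn3 m hm a (hAT ha)
  have hlineU : ∀ m, R m (o m) ≤ U₀ := fun m => by
    by_cases hm : m ∈ J₀
    · exact ((h.kt m).R_le (o m)).trans (hJ m hm)
    · exact hn1 m hm
  -- `A` centralises all lines
  have g4 : ∀ m, ∀ a ∈ A, ∀ r ∈ R m (o m), a * r = r * a := by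
    intro m a ha r hr
    rcases (g1 r (hlineU m hr)).2 with h1 | h1
    · exact h1 a ha
    · exfalso
      have hle : Z ≤ R m (o m) := by
        intro z hz
        obtain ⟨a', ha', rfl⟩ := h1 z hz
        have h2 := h.lin a' (hAT ha') m m (g3 a' ha' m)
        have h3 : a' * r * a'⁻¹ ∈ R m (o m) := by
          rw [← h2]; exact conj_mem_cj hr
        exact mul_mem h3 (inv_mem hr)
      have heq : Z = R m (o m) := eq_of_le_of_card_ge hle (by rw [hcardZ, h.card l m (o l) (o m)])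
      obtain ⟨z, hz, hz1⟩ := kl.exists_ne (o l)
      obtain ⟨a', ha', ha''⟩ := h1 (t * z * t⁻¹) (conj_mem_cj hz)
      have h2 := g2 a' ha' r (heq ▸ hr)
      rw [h2] at ha''
      have h3 : t * z * t⁻¹ = 1 := by rw [← ha'']; group
      exact hz1 (by
        calc z = t⁻¹ * (t * z * t⁻¹) * t := by group
          _ = 1 := by rw [h3]; group)
  have hroot : ∀ m, ∀ a ∈ A, ∃ u ∈ K m (o m), u * a ∈ centralizer (Vf m : Set G) := fun m a ha =>
    h.root (hAT ha) (cj_eq_self_iff.1 (g3 a ha m)) (g4 m a ha)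
  -- a factor not centralised by `A`
  obtain ⟨m, hm, v₀, hv₀, a₀, ha₀, hne₀⟩ : ∃ m ∈ J₀, ∃ v ∈ Vf m, ∃ a ∈ A, a * v ≠ v * a := by
    by_contra hcon
    push Not at hcon
    have hcen : ∀ a ∈ A, ∀ z ∈ U₀, a * z = z * a := by
      intro a ha z hz
      refine hfr.cent_of_comp (hUW hz) (fun m x hx hxz => ?_) fun d hd => h.comm_Dh (hAT ha) (fun m => hroot m a ha) hd
      by_cases hm : m ∈ J₀
      · exact hcon m hm x hx a ha
      · exact g4 m a ha x (hn2 m hm z hz x hx hxz)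
    obtain ⟨v, hv, hv1, hvR⟩ := hfr.Vf_ne l (o l)
    obtain ⟨z, hz, hz1⟩ := kl.exists_ne (o l)
    obtain ⟨u, hu, hur⟩ := kt_full kl hv hvR hz
    have hvU : t * v * t⁻¹ ∈ U₀ := by
      rw [← hUt]; exact conj_mem_cj (hJ l hl hv)
    have h1 := hcen _ (conj_mem_cj hu : t * u * t⁻¹ ∈ A) _ hvU
    apply hz1
    rw [← hur]
    have h2 : u * v = v * u := by
      calc u * v = t⁻¹ * ((t * u * t⁻¹) * (t * v * t⁻¹)) * t := by group
        _ = t⁻¹ * ((t * v * t⁻¹) * (t * u * t⁻¹)) * t := by rw [h1]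
        _ = v * u := by group
    rw [h2]; group
  refine ⟨m, hm, ?_⟩
  refine eq_of_le_of_card_ge ?_ (by rw [hcardZ, h.card l m (o l) (o m)])
  rcases (g1 v₀ (hJ m hm hv₀)).2 with h1 | h1
  · exact absurd (h1 a₀ ha₀) hne₀
  · intro z hz
    obtain ⟨a, ha, rfl⟩ := h1 z hz
    obtain ⟨u, hu, hua⟩ := hroot m a ha
    exact h.comm_root_mem hu hua hv₀

end FT

end Cfsg.Agent.Omega.IId.CvBig.Four
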