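import Cfsg.Agent.Omega.IId.CvBig.FourKill

/-!
# CvBig, CASE 2a, all `q`, `k ≥ 3`: the kill of (SURV), end (helper796)

* `FT.kill` : (SURV) is impossible.
-/

set_option autoImplicit false
set_option linter.unusedSectionVars false

namespace Cfsg.Agent.Omega.IId.CvBig.Four

open Subgroup Cfsg.Agent.Omega.BTwo Cfsg.Agent.Omega.IId.Cv.TwoFour
open Cfsg.Agent.Omega.F4Leaf.Syl.LocP (exists_step)

variable {G : Type*} [Group G] {κ : Type*} {ι : κ → Type*}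

/-- `Q^t` moves `Vf j` -/
def Jt (Vf : κ → Subgroup G) (Q : Subgroup G) (t : G) (j : κ) : Prop :=
  ¬ cj t Q ≤ centralizer (Vf j : Set G)

namespace FT

variable {Vf Lf : κ → Subgroup G} {R K : ∀ l, ι l → Subgroup G} {Q : Subgroup G} {o : ∀ l, ι l} {T : Subgroup G}
  {i : κ} (h : FT Vf Lf R K Q o T i) {Rc Kc : Subgroup G} (s : Sv R K Q o T i Rc Kc)

theorem Vf_T (h : FT Vf Lf R K Q o T i) (l : κ) : Vf l ≤ T := (h.toFr.V_le_Q l).trans h.QT

include s in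
theorem comm_Kc {g u : G} (hg : g ∈ Kc) (hu : u ∈ T) : g * u * g⁻¹ * u⁻¹ ∈ Kc := by
  have e : g * u * g⁻¹ * u⁻¹ = g * (u * g⁻¹ * u⁻¹) := by group
  rw [e]
  exact mul_mem hg (conj_mem_of_normalizer (s.TKc hu) (inv_mem hg))

include h s

/-- **(i)** -/
theorem kfix {g : G} (hgK : g ∈ Kc) (hgT : g ∈ T) (l : κ) : cj g (Vf l) = Vf l := by
  have hfr := h.toFr
  obtain ⟨m, hm⟩ := h.perm g hgT l
  by_cases hml : m = l
  · rw [hm, hml]
  exfalso
  have hli : l ≠ i := by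
    rintro rfl
    exact hml (hfr.Vf_inj ((h.cj_i hgT).symm.trans hm)).symm
  have hmi : m ≠ i := by
    rintro rfl
    exact hml (hfr.Vf_inj (cj_injective (hm.trans (h.cj_i hgT).symm))).symm
  obtain ⟨u, hu, -, huR⟩ := hfr.Vf_ne l (o l)
  have hp : g * u * g⁻¹ ∈ Vf m := by rw [← hm]; exact conj_mem_cj hu
  have hK : R l (o l) ≤ Kc := by
    intro r hr
    obtain ⟨k, hk, hkr⟩ := kt_full (h.kt l) (inv_mem hu) (fun h1 => huR (by simpa using inv_mem h1)) hr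
    have h1 := comm_Kc s hgK (h.Vf_T l hu)
    have h2 : k * (g * u * g⁻¹ * u⁻¹) * k⁻¹ * (g * u * g⁻¹ * u⁻¹)⁻¹ ∈ Kc :=
      mul_mem (conj_mem_of_normalizer (s.TKc (h.KT' l hk)) h1) (inv_mem h1)
    have h3 : k * (g * u * g⁻¹) = g * u * g⁻¹ * k := hfr.K_comm hml hk hp
    have h4 : k * u⁻¹ * k⁻¹ ∈ Vf l := conj_mem_of_normalizer ((h.kt l).K_le_NV (o l) hk) (inv_mem hu)
    have h5 : (g * u * g⁻¹) * (k * u⁻¹ * k⁻¹ * u) = (k * u⁻¹ * k⁻¹ * u) * (g * u * g⁻¹) :=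
      (hfr.comm' (mul_mem h4 hu) hp).symm
    have e : k * (g * u * g⁻¹ * u⁻¹) * k⁻¹ * (g * u * g⁻¹ * u⁻¹)⁻¹ = k * u⁻¹ * k⁻¹ * (u⁻¹)⁻¹ := by
      calc k * (g * u * g⁻¹ * u⁻¹) * k⁻¹ * (g * u * g⁻¹ * u⁻¹)⁻¹
          = (k * (g * u * g⁻¹)) * u⁻¹ * k⁻¹ * u * (g * u * g⁻¹)⁻¹ := by group
        _ = (g * u * g⁻¹) * (k * u⁻¹ * k⁻¹ * u) * (g * u * g⁻¹)⁻¹ := by rw [h3]; group
        _ = _ := by rw [h5]; group
    rw [e, hkr] at h2
    exact h2
  obtain ⟨z, hz, hz1⟩ := (h.kt l).exists_ne (o l)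
  have hzV := (h.kt l).R_le (o l) hz
  have h1 := s.Kcc g hgK z (hK hz)
  have hgz : g * z * g⁻¹ ∈ Vf m := by rw [← hm]; exact conj_mem_cj hzV
  have h2 := s.RcX _ h1 (mul_mem (hfr.V_cen_X hmi hgz) (inv_mem (hfr.V_cen_X hli hzV)))
  rw [mul_inv_eq_one] at h2
  rw [h2] at hgz
  exact hz1 (hfr.Vf_inf hml hgz hzV)

theorem kN {g : G} (hgK : g ∈ Kc) (hgT : g ∈ T) (l : κ) : g ∈ normalizer (Vf l : Set G) :=
  cj_eq_self_iff.1 (h.kfix s hgK hgT l)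

/-- **(ii)** -/
theorem kmv [Finite G] {g : G} (hgK : g ∈ Kc) (hgT : g ∈ T) {l : κ} (hl : l ≠ i)
    (hn : g ∉ centralizer (Vf l : Set G)) :
    R l (o l) ≤ Kc ∧ (∀ r ∈ R l (o l), g * r = r * g) ∧ ∀ r ∈ R l (o l), ∃ v ∈ Vf l, g * v * g⁻¹ * v⁻¹ = r := by
  have hfr := h.toFr
  have kl := h.kt l
  have hgN := h.kN s hgK hgT l
  have hE : ∀ v ∈ Vf l, g * v * g⁻¹ * v⁻¹ ∈ Vf l ∧ g * v * g⁻¹ * v⁻¹ ∈ Kc := fun v hv =>
    ⟨mul_mem (conj_mem_of_normalizer hgN hv) (inv_mem hv), comm_Kc s hgK (h.Vf_T l hv)⟩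
  have hEc : ∀ e ∈ Vf l, e ∈ Kc → g * e = e * g := by
    intro e he heK
    have h1 := s.RcX _ (s.Kcc g hgK e heK) (hfr.V_cen_X hl (hE e he).1)
    rw [mul_inv_eq_one, mul_inv_eq_iff_eq_mul] at h1
    exact h1
  by_cases hER : ∀ e ∈ Vf l, e ∈ Kc → e ∈ R l (o l)
  · have hV : ∀ v ∈ Vf l, g * v * g⁻¹ * v⁻¹ ∈ R l (o l) := fun v hv => hER _ (hE v hv).1 (hE v hv).2
    obtain ⟨v₀, hv₀, hne⟩ : ∃ v ∈ Vf l, g * v * g⁻¹ * v⁻¹ ≠ 1 := by
      by_contra hcon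
      push Not at hcon
      apply hn
      rw [mem_centralizer_iff]
      intro v hv
      have h1 := hcon v hv
      rw [mul_inv_eq_one, mul_inv_eq_iff_eq_mul] at h1
      exact h1.symm
    have hgR := kt_lemB kl (h.TL g hgT l hgN) hV (hV v₀ hv₀) hne (hEc _ (hE v₀ hv₀).1 (hE v₀ hv₀).2)
    obtain ⟨u, hu, hug⟩ := h.root hgT hgN hgR
    have hfull : ∀ r ∈ R l (o l), ∃ v ∈ Vf l, g * v * g⁻¹ * v⁻¹ = r := by
      intro r hr
      have hun : ¬ ∀ a ∈ Vf l, u⁻¹ * a = a * u⁻¹ := by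
        intro hcon
        apply hne
        rw [h.comm_root hug hv₀, hcon v₀ hv₀]
        group
      obtain ⟨b, hb, -⟩ := kl.third (o l) (o l)
      obtain ⟨v, hv, hvr⟩ := kl.full (kl.K_Q (o l) (inv_mem hu)) hun hb r hr
      exact ⟨v, kl.R_le b hv, by rw [h.comm_root hug (kl.R_le b hv), hvr]⟩
    refine ⟨?_, hgR, hfull⟩
    intro r hr
    obtain ⟨v, hv, rfl⟩ := hfull r hr
    exact (hE v hv).2
  · exfalso
    push Not at hER
    obtain ⟨e, he, heK, heR⟩ := hER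
    have hRK : R l (o l) ≤ Kc := by
      intro r hr
      obtain ⟨k, hk, rfl⟩ := kt_full kl he heR hr
      exact mul_mem (conj_mem_of_normalizer (s.TKc (h.KT' l hk)) heK) (inv_mem heK)
    have hgR : ∀ r ∈ R l (o l), g * r = r * g := fun r hr => hEc r (kl.R_le _ hr) (hRK hr)
    obtain ⟨u, hu, hug⟩ := h.root hgT hgN hgR
    have h1 : u * e = e * u := by
      have h2 := mem_centralizer_iff.1 hug e he
      have h3 := hEc e he heK
      calc u * e = u * (e * g) * g⁻¹ := by group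
        _ = (u * g * e) * g⁻¹ := by rw [← h3]; group
        _ = e * u := by rw [← h2]; group
    have h2 := kl.reg (kl.K_Q (o l) hu) he heR h1
    apply hn
    rw [mem_centralizer_iff]
    intro v hv
    have h3 := mem_centralizer_iff.1 hug v hv
    calc v * g = u⁻¹ * (u * v) * g := by group
      _ = u⁻¹ * (v * (u * g)) := by rw [h2 v hv]; group
      _ = g * v := by rw [h3]; group

theorem kR [Finite G] {g : G} (hgK : g ∈ Kc) (hgT : g ∈ T) (l : κ) : ∀ r ∈ R l (o l), g * r = r * g := by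
  by_cases hl : l = i
  · subst hl
    exact s.KcR g hgK
  by_cases hn : g ∈ centralizer (Vf l : Set G)
  · exact fun r hr => (mem_centralizer_iff.1 hn r ((h.kt l).R_le _ hr)).symm
  · exact (h.kmv s hgK hgT hl hn).2.1

theorem kroot [Finite G] {g : G} (hgK : g ∈ Kc) (hgT : g ∈ T) (l : κ) :
    ∃ u ∈ K l (o l), u * g ∈ centralizer (Vf l : Set G) :=
  h.root hgT (h.kN s hgK hgT l) (h.kR s hgK hgT l)

omit h in
theorem tcomm {t u : G} (htK : t ∈ Kc) (htN : t ∈ normalizer (T : Set G)) (hu : u ∈ T) :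
    t * u * t⁻¹ * u⁻¹ ∈ Kc ∧ t * u * t⁻¹ * u⁻¹ ∈ T :=
  ⟨comm_Kc s htK hu, mul_mem (conj_mem_of_normalizer htN hu) (inv_mem hu)⟩

section t

variable {t : G} (htK : t ∈ Kc) (htN : t ∈ normalizer (T : Set G)) (htt : t * t ∈ T)
include htK htN

omit h in
theorem tR : t ∈ normalizer (R i (o i) : Set G) := by
  apply centralizer_le_normalizer
  rw [mem_centralizer_iff]
  exact fun r hr => (s.KcR t htK r hr).symm

omit htK s in
/-- `T` normalises `Q^t` -/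
theorem T_Qt {g : G} (hg : g ∈ T) : cj g (cj t Q) = cj t Q := by
  have h1 : t⁻¹ * g * t ∈ T := conj_inv_mem_of_normalizer htN hg
  have h2 := cj_eq_self_iff.2 (h.TQ h1)
  rw [← cj_mul]
  have e : g * t = t * (t⁻¹ * g * t) := by group
  rw [e, cj_mul, h2]

/-- `Q^t` centralises `Rᵢ`, `R_j` -/
theorem Qt_R [Finite G] (l : κ) : R l (o l) ≤ centralizer (cj t Q : Set G) := by
  intro r hr
  rw [mem_centralizer_iff]
  intro x hx
  set q := t⁻¹ * x * t with hq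
  have hqQ : q ∈ Q := mem_cj.1 hx
  obtain ⟨h1, h2⟩ := tcomm s htK htN (h.QT hqQ)
  have h3 := h.kR s h1 h2 l r hr
  have h4 := h.QC l q hqQ r ((h.kt l).R_le _ hr)
  have e : x = (t * q * t⁻¹ * q⁻¹) * q := by rw [hq]; group
  rw [e]
  calc (t * q * t⁻¹ * q⁻¹) * q * r = (t * q * t⁻¹ * q⁻¹) * (r * q) := by rw [← h4]; group
    _ = ((t * q * t⁻¹ * q⁻¹) * r) * q := by group
    _ = r * ((t * q * t⁻¹ * q⁻¹) * q) := by rw [h3]; group

omit htK htN h s in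
theorem Jt_iff {j : κ} (hfr : Fr Vf Lf R K Q) :
    Jt Vf Q t j ↔ ∃ q ∈ Q, t * q * t⁻¹ * q⁻¹ ∉ centralizer (Vf j : Set G) := by
  rw [Jt, SetLike.not_le_iff_exists]
  have hQ : ∀ q ∈ Q, q ∈ centralizer (Vf j : Set G) := fun q hq => by
    rw [mem_centralizer_iff]
    exact fun v hv => (hfr.QC j q hq v hv).symm
  constructor
  · rintro ⟨x, hx, hn⟩
    refine ⟨t⁻¹ * x * t, mem_cj.1 hx, fun hc => hn ?_⟩
    have h1 := mul_mem hc (hQ _ (mem_cj.1 hx))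
    have e : t * (t⁻¹ * x * t) * t⁻¹ * (t⁻¹ * x * t)⁻¹ * (t⁻¹ * x * t) = x := by group
    rwa [e] at h1
  · rintro ⟨q, hq, hn⟩
    exact ⟨t * q * t⁻¹, conj_mem_cj hq, fun hc => hn (mul_mem hc (inv_mem (hQ q hq)))⟩

/-- the data at `j ∈ J` -/
theorem Jinfo [Finite G] [Finite κ] {j : κ} (hj : j ≠ i) (hJ : Jt Vf Q t j) :
    R j (o j) ≤ Kc ∧ (∀ y ∈ cj t⁻¹ (Vf j), ∀ u ∈ Q, y * u * y⁻¹ * u⁻¹ ∈ cj t⁻¹ (R j (o j))) ∧
    (∃ u ∈ Q, ∀ z ∈ cj t⁻¹ (R j (o j)), ∃ y ∈ cj t⁻¹ (Vf j), y * u * y⁻¹ * u⁻¹ = z) ∧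
    cj t⁻¹ (R j (o j)) ≤ Wh Vf K Q ∧
    (∀ m, m ≠ i → cj t⁻¹ (R j (o j)) ≤ centralizer (XK (K m) : Set G)) := by
  have hfr := h.toFr
  obtain ⟨q₀, hq₀, hn₀⟩ := (Jt_iff hfr).1 hJ
  obtain ⟨h1, h2⟩ := tcomm s htK htN (h.QT hq₀)
  obtain ⟨hRK, -, -⟩ := h.kmv s h1 h2 hj hn₀
  have htR := tR s htK htN
  set Y := cj t⁻¹ (Vf j) with hY
  set A := cj t⁻¹ (R j (o j)) with hA
  have hYU : Y ≤ Uc (R i (o i)) := by
    rw [hY, ← cj_eq_self_iff.2 (N_Uc _ (inv_mem htR))]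
    exact cj_mono (hfr.V_le_Uc hj (o i))
  have hAW : A ≤ Wh Vf K Q := by
    intro a ha
    have hz : t * a * t⁻¹ ∈ R j (o j) := by
      have := mem_cj.1 ha
      rwa [inv_inv] at this
    have h3 : a * (t * a * t⁻¹)⁻¹ ∈ Rc := by
      have h4 := s.Kcc _ (inv_mem htK) _ (hRK hz)
      have e : t⁻¹ * (t * a * t⁻¹) * t⁻¹⁻¹ * (t * a * t⁻¹)⁻¹ = a * (t * a * t⁻¹)⁻¹ := by group
      rwa [e] at h4
    have e : a = a * (t * a * t⁻¹)⁻¹ * (t * a * t⁻¹) := by group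
    rw [e]
    exact mul_mem (hfr.Vm hj (s.RcU h3) (s.RcQ h3)) (Vf_le_Wh Vf K Q j ((h.kt j).R_le _ hz))
  -- conjugation formula
  have hconj : ∀ v ∈ Vf j, ∀ u ∈ Q, t * ((t⁻¹ * v * t) * u * (t⁻¹ * v * t)⁻¹ * u⁻¹) * t⁻¹ =
      ((t * u * t⁻¹ * u⁻¹) * v * (t * u * t⁻¹ * u⁻¹)⁻¹ * v⁻¹)⁻¹ := by
    intro v hv u hu
    have h3 := h.QC j u hu v hv
    have e1 : t * ((t⁻¹ * v * t) * u * (t⁻¹ * v * t)⁻¹ * u⁻¹) * t⁻¹ =
        v * (t * u * t⁻¹ * u⁻¹) * (u * v⁻¹ * u⁻¹) * (t * u * t⁻¹ * u⁻¹)⁻¹ := by group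
    have e2 : u * v⁻¹ * u⁻¹ = v⁻¹ := by
      rw [h.QC j u hu _ (inv_mem hv)]; group
    rw [e1, e2]; group
  have hAm : ∀ y ∈ Y, ∀ u ∈ Q, y * u * y⁻¹ * u⁻¹ ∈ A := by
    intro y hy u hu
    have hv : t * y * t⁻¹ ∈ Vf j := by
      have := mem_cj.1 hy
      rwa [inv_inv] at this
    have h3 := hconj _ hv u hu
    have e : t⁻¹ * (t * y * t⁻¹) * t = y := by group
    rw [e] at h3
    obtain ⟨k1, k2⟩ := tcomm s htK htN (h.QT hu)
    obtain ⟨w, hw, hwg⟩ := h.kroot s k1 k2 j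
    rw [hA, mem_cj, inv_inv, h3]
    exact inv_mem (h.comm_root_mem hw hwg hv)
  have hfull : ∀ u ∈ Q, (∃ y ∈ Y, y * u ≠ u * y) → ∀ z ∈ A, ∃ y ∈ Y, y * u * y⁻¹ * u⁻¹ = z := by
    rintro u hu ⟨y, hy, hne⟩ z hz
    have hv : t * y * t⁻¹ ∈ Vf j := by
      have := mem_cj.1 hy
      rwa [inv_inv] at this
    have hz' : t * z * t⁻¹ ∈ R j (o j) := by
      have := mem_cj.1 hz
      rwa [inv_inv] at this
    obtain ⟨k1, k2⟩ := tcomm s htK htN (h.QT hu)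
    have hn : t * u * t⁻¹ * u⁻¹ ∉ centralizer (Vf j : Set G) := by
      intro hc
      have h3 := hconj _ hv u hu
      have e : t⁻¹ * (t * y * t⁻¹) * t = y := by group
      rw [e, ← mem_centralizer_iff.1 hc _ hv] at h3
      apply hne
      have h4 : y * u * y⁻¹ * u⁻¹ = 1 := by
        calc y * u * y⁻¹ * u⁻¹ = t⁻¹ * (t * (y * u * y⁻¹ * u⁻¹) * t⁻¹) * t := by group
          _ = 1 := by rw [h3]; group
      rw [mul_inv_eq_one, mul_inv_eq_iff_eq_mul] at h4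
      exact h4
    obtain ⟨v, hv', hvz⟩ := (h.kmv s k1 k2 hj hn).2.2 _ (inv_mem hz')
    refine ⟨t⁻¹ * v * t, ?_, ?_⟩
    · rw [hY, mem_cj]
      have e : t⁻¹⁻¹ * (t⁻¹ * v * t) * t⁻¹ = v := by group
      rw [e]; exact hv'
    · have h3 := hconj v hv' u hu
      rw [hvz, inv_inv] at h3
      calc t⁻¹ * v * t * u * (t⁻¹ * v * t)⁻¹ * u⁻¹
          = t⁻¹ * (t * (t⁻¹ * v * t * u * (t⁻¹ * v * t)⁻¹ * u⁻¹) * t⁻¹) * t := by group
        _ = z := by rw [h3]; group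
  have hmv : ∃ u ∈ Q, ∃ y ∈ Y, y * u ≠ u * y := by
    refine ⟨q₀, hq₀, ?_⟩
    by_contra hcon
    push Not at hcon
    apply hn₀
    rw [mem_centralizer_iff]
    intro v hv
    have h3 := hconj v hv q₀ hq₀
    have hy : t⁻¹ * v * t ∈ Y := by
      rw [hY, mem_cj]
      have e : t⁻¹⁻¹ * (t⁻¹ * v * t) * t⁻¹ = v := by group
      rw [e]; exact hv
    rw [hcon _ hy] at h3
    have h4 : (t * q₀ * t⁻¹ * q₀⁻¹) * v * (t * q₀ * t⁻¹ * q₀⁻¹)⁻¹ * v⁻¹ = 1 := by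
      rw [← inv_eq_one, ← h3]; group
    rw [mul_inv_eq_one, mul_inv_eq_iff_eq_mul] at h4
    exact h4.symm
  refine ⟨hRK, hAm, ?_, hAW, fun m hm => ?_⟩
  · obtain ⟨u, hu, hy⟩ := hmv
    exact ⟨u, hu, hfull u hu hy⟩
  · exact hfr.lemK hm hYU hAW hAm hfull hmv fun b => by rw [card_cj, h.card j m (o j) b]

/-- `J = {j}` -/
theorem Junique [Finite G] [Finite κ] {j m : κ} (hj : j ≠ i) (hJ : Jt Vf Q t j) (hm : m ≠ i)
    (hJ' : Jt Vf Q t m) : m = j := by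
  by_contra hne
  have hfr := h.toFr
  -- for `c ∈ Rc` there is `z ∈ R l` with `c z ∈ C(X_{m'})`, `m' ≠ i`
  have key : ∀ l, l ≠ i → Jt Vf Q t l → ∀ c ∈ Rc, ∃ z ∈ R l (o l),
      (∀ m', m' ≠ i → c * z ∈ centralizer (XK (K m') : Set G)) ∧ (z = 1 → c = 1) := by
    intro l hl hJl
    obtain ⟨hRK, -, -, -, hX⟩ := h.Jinfo s htK htN hl hJl
    let f : R l (o l) → Rc := fun z => ⟨t⁻¹ * z * t * (z : G)⁻¹, by
      have h4 := s.Kcc _ (inv_mem htK) _ (hRK z.2)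
      rwa [inv_inv] at h4⟩
    have hcz : ∀ z : R l (o l), ∀ m', m' ≠ i → (f z : G) * z ∈ centralizer (XK (K m') : Set G) := by
      intro z m' hm'
      have h5 : t⁻¹ * (z : G) * t ∈ cj t⁻¹ (R l (o l)) := by
        have := conj_mem_cj (g := t⁻¹) z.2
        rwa [inv_inv] at this
      have e : (f z : G) * z = t⁻¹ * z * t := by
        change t⁻¹ * (z : G) * t * (z : G)⁻¹ * z = _
        group
      rw [e]
      exact hX m' hm' h5
    have hf : Function.Injective f := by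
      intro z z' hzz
      have h1 := hcz z l hl
      have h2 := hcz z' l hl
      rw [hzz] at h1
      have h3 : (z : G)⁻¹ * z' ∈ centralizer (XK (K l) : Set G) := by
        have e : (z : G)⁻¹ * z' = ((f z' : G) * z)⁻¹ * ((f z' : G) * z') := by group
        rw [e]
        exact mul_mem (inv_mem h1) h2
      exact Subtype.ext (inv_mul_eq_one.1 (hfr.uniq (mul_mem (inv_mem ((h.kt l).R_le _ z.2))
        ((h.kt l).R_le _ z'.2)) h3))
    have hs := (hf.bijective_of_nat_card_le (by rw [s.card, h.card l i (o l) (o i)])).2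
    intro c hc
    obtain ⟨z, hz⟩ := hs ⟨c, hc⟩
    have hz' : (f z : G) = c := congrArg Subtype.val hz
    refine ⟨z, z.2, fun m' hm' => hz' ▸ hcz z m' hm', fun h1 => ?_⟩
    rw [← hz']
    change t⁻¹ * (z : G) * t * (z : G)⁻¹ = 1
    rw [h1]; group
  obtain ⟨r, hr, hr1⟩ := (h.kt i).exists_ne (o i)
  have hcard : 1 < Nat.card Rc := by
    rw [s.card]
    have : Nontrivial (R i (o i)) := ⟨⟨r, hr⟩, 1, fun h1 => hr1 (congrArg Subtype.val h1)⟩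
    exact Finite.one_lt_card
  obtain ⟨c, hc, hc1⟩ : ∃ c ∈ Rc, c ≠ 1 := by
    by_contra hcon
    push Not at hcon
    rw [(eq_bot_iff_forall _).2 hcon, card_bot] at hcard
    omega
  obtain ⟨z, hz, hzX, hz1⟩ := key j hj hJ c hc
  obtain ⟨z', hz', hzX', -⟩ := key m hm hJ' c hc
  have h1 : z ∈ centralizer (XK (K j) : Set G) := by
    have h2 := hfr.V_cen_X hne ((h.kt m).R_le _ hz')
    have e : z = (z' * ((c * z')⁻¹ * (c * z))) := by group
    rw [e]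
    exact mul_mem h2 (mul_mem (inv_mem (hzX' j hj)) (hzX j hj))
  exact hc1 (hz1 (hfr.uniq ((h.kt j).R_le _ hz) h1))

/-- the factors outside `J₀ = {m ≠ i, m ∉ J}` are fixed by `T` -/
theorem Jfix [Finite G] [Finite κ] {m : κ} (hm : ¬ (m ≠ i ∧ ¬ Jt Vf Q t m)) {g : G} (hg : g ∈ T) :
    cj g (Vf m) = Vf m := by
  by_cases hmi : m = i
  · rw [hmi]
    exact h.cj_i hg
  have hJ : Jt Vf Q t m := by
    by_contra hcon
    exact hm ⟨hmi, hcon⟩
  have hfr := h.toFr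
  obtain ⟨l, hl⟩ := h.perm g hg m
  have hli : l ≠ i := by
    rintro rfl
    exact hmi (hfr.Vf_inj (cj_injective (hl.trans (h.cj_i hg).symm)))
  have hJl : Jt Vf Q t l := by
    intro hcon
    apply hJ
    have h1 := cj_mono (g := g⁻¹) hcon
    rw [← centralizer_cj, h.T_Qt htN (inv_mem hg), ← hl, ← cj_mul, inv_mul_cancel, cj_one] at h1
    exact h1
  rw [hl, h.Junique s htK htN hmi hJ hli hJl]

include htt in
/-- `t` permutes the lines `R l`, `l ≠ i`, `l ∉ J` -/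
theorem tperm [Finite G] [Finite κ] {l₀ : κ} (hl₀ : l₀ ≠ i) {l : κ} (hl : l ≠ i) (hJ : ¬ Jt Vf Q t l) :
    ∃ m, m ≠ i ∧ ¬ Jt Vf Q t m ∧ cj t (R l (o l)) = R m (o m) := by
  have hfr := h.toFr
  have htR := tR s htK htN
  have htU := cj_eq_self_iff.2 (N_Uc _ htR)
  have hUle : Uc (R i (o i)) ⊓ centralizer (Q : Set G) ≤ Wh Vf K Q := fun z hz =>
    hfr.Vm hl₀ (mem_inf.1 hz).1 (mem_inf.1 hz).2
  suffices hZ : ∃ m ∈ {m | m ≠ i ∧ ¬ Jt Vf Q t m}, cj t (R l (o l)) = R m (o m) by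
    obtain ⟨m, hm, hlm⟩ := hZ
    exact ⟨m, hm.1, hm.2, hlm⟩
  refine h.Zlem (U₀ := Uc (R i (o i)) ⊓ centralizer (Q : Set G) ⊓ centralizer (cj t Q : Set G))
    (J₀ := {m | m ≠ i ∧ ¬ Jt Vf Q t m}) (t := t) (inf_le_left.trans hUle) ?_ ?_ ?_ ?_
    (fun m hm g hg => h.Jfix s htK htN hm hg) htN (l := l) ⟨hl, hJ⟩
  · rw [cj_inf, cj_inf, htU, ← centralizer_cj, ← centralizer_cj, ← cj_mul, cj_eq_self_iff.2 (h.TQ htt)]
    rw [inf_assoc, inf_assoc, inf_comm (centralizer (cj t Q : Set G))]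
  · rintro m ⟨hmi, hmJ⟩
    refine le_inf (le_inf (hfr.V_le_Uc hmi (o i)) (hfr.V_cen_Q m)) ?_
    rw [Jt, not_not] at hmJ
    exact le_centralizer_iff.1 hmJ
  · intro m hm
    refine le_inf (le_inf ?_ (((h.kt m).R_le _).trans (hfr.V_cen_Q m))) (h.Qt_R s htK htN m)
    by_cases hmi : m = i
    · subst hmi
      exact hfr.R_le_Uc m (o m)
    · exact ((h.kt m).R_le _).trans (hfr.V_le_Uc hmi (o i))
  · intro m hm z hz a ha haz
    by_cases hmi : m = i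
    · subst hmi
      refine kt_R_of_cen (h.kt m) ha ?_
      have e : a = z * (a⁻¹ * z)⁻¹ := by group
      rw [e]
      refine mul_mem ?_ (inv_mem (cen_XK_le (K m) (o m) haz))
      rw [mem_centralizer_iff]
      exact fun u hu => (Uc_comm (mem_inf.1 (mem_inf.1 hz).1).1 ((h.kt m).K_Q _ hu)).symm
    · have hJm : Jt Vf Q t m := by
        by_contra hcon
        exact hm ⟨hmi, hcon⟩
      obtain ⟨q, hq, hn⟩ := (Jt_iff hfr).1 hJm
      obtain ⟨k1, k2⟩ := tcomm s htK htN (h.QT hq)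
      set g := t * q * t⁻¹ * q⁻¹ with hg
      have hgz : g * z = z * g := by
        have h1 := mem_centralizer_iff.1 (mem_inf.1 hz).2 (t * q * t⁻¹) (conj_mem_cj hq)
        have h2 := mem_centralizer_iff.1 (mem_inf.1 (mem_inf.1 hz).1).2 q⁻¹ (inv_mem hq)
        calc g * z = t * q * t⁻¹ * (q⁻¹ * z) := by rw [hg]; group
          _ = t * q * t⁻¹ * z * q⁻¹ := by rw [h2]; group
          _ = z * g := by rw [h1, hg]; group
      have hgN := h.kN s k1 k2 m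
      have hgL := h.TL g k2 m hgN
      have hga : g * a * g⁻¹ = a := by
        refine hfr.comp_eq (conj_mem_of_normalizer hgN ha) ha ?_ haz
        have h1 : g * (a⁻¹ * z) * g⁻¹ ∈ centralizer (XK (K m) : Set G) :=
          conj_mem_of_normalizer (normalizer_le_normalizer_centralizer _ ((h.kt m).L_le_NX hgL)) haz
        have e : (g * a * g⁻¹)⁻¹ * z = g * (a⁻¹ * z) * g⁻¹ := by
          calc (g * a * g⁻¹)⁻¹ * z = g * a⁻¹ * g⁻¹ * (z * g) * g⁻¹ := by group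
            _ = _ := by rw [← hgz]; group
        rw [e]
        exact h1
      by_contra haR
      obtain ⟨u, hu, hug⟩ := h.kroot s k1 k2 m
      have hga' : g * a = a * g := by
        rw [mul_inv_eq_iff_eq_mul] at hga
        exact hga
      have hua : u * a = a * u := by
        have h2 := mem_centralizer_iff.1 hug a ha
        calc u * a = u * (a * g) * g⁻¹ := by group
          _ = (u * g * a) * g⁻¹ := by rw [← hga']; group
          _ = a * u := by rw [← h2]; group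
      have h2 := (h.kt m).reg ((h.kt m).K_Q _ hu) ha haR hua
      apply hn
      rw [mem_centralizer_iff]
      intro v hv
      have h3 := mem_centralizer_iff.1 hug v hv
      calc v * g = u⁻¹ * (u * v) * g := by group
        _ = u⁻¹ * (v * (u * g)) := by rw [h2 v hv]; group
        _ = g * v := by rw [h3]; group

include htt in
/-- **END** -/
theorem Jend [Finite G] [Finite κ] {j m : κ} (hj : j ≠ i) (hJ : Jt Vf Q t j) (hm : m ≠ i) (hmj : m ≠ j) :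
    False := by
  have hfr := h.toFr
  have hJm : ¬ Jt Vf Q t m := fun hJ' => hmj (h.Junique s htK htN hj hJ hm hJ')
  obtain ⟨l, hl, hJl, hml⟩ := h.tperm s htK htN htt hj hm hJm
  obtain ⟨hRK, hAm, ⟨u₀, hu₀, hfull⟩, hAW, hAX⟩ := h.Jinfo s htK htN hj hJ
  set Y := cj t⁻¹ (Vf j) with hY
  set A := cj t⁻¹ (R j (o j)) with hA
  have hYm : Y ≤ QQ (R m (o m)) := by
    have h1 : cj t⁻¹ (R l (o l)) = R m (o m) := by
      rw [← hml, ← cj_mul, inv_mul_cancel, cj_one]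
    have h2 : cj t⁻¹ (QQ (R l (o l))) = QQ (R m (o m)) := by
      rw [cj_O2, ← normalizer_cj, h1]
    rw [← h2]
    exact cj_mono (hfr.VQ' l j (o l))
  -- components of `A` at `i`
  have hcomp : ∀ a ∈ A, ∃ r ∈ R i (o i), r⁻¹ * a ∈ centralizer (XK (K i) : Set G) ∧ (r = 1 → a = 1) := by
    intro a ha
    have hz : t * a * t⁻¹ ∈ R j (o j) := by
      have := mem_cj.1 ha
      rwa [inv_inv] at this
    have h3 : a * (t * a * t⁻¹)⁻¹ ∈ Rc := by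
      have h4 := s.Kcc _ (inv_mem htK) _ (hRK hz)
      have e : t⁻¹ * (t * a * t⁻¹) * t⁻¹⁻¹ * (t * a * t⁻¹)⁻¹ = a * (t * a * t⁻¹)⁻¹ := by group
      rwa [e] at h4
    obtain ⟨r, hr, hrc⟩ := s.Rcd _ h3
    have hzX : t * a * t⁻¹ ∈ centralizer (XK (K i) : Set G) := hfr.V_cen_X hj ((h.kt j).R_le _ hz)
    refine ⟨r, hr, ?_, fun h1 => ?_⟩
    · have e : r⁻¹ * a = r⁻¹ * (a * (t * a * t⁻¹)⁻¹) * (t * a * t⁻¹) := by group
      rw [e]
      exact mul_mem hrc hzX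
    · subst h1
      rw [inv_one, one_mul] at hrc
      have h5 := s.RcX _ h3 hrc
      have h6 : a = t * a * t⁻¹ := mul_inv_eq_one.1 h5
      have h7 : a ∈ Vf j := by rw [h6]; exact (h.kt j).R_le _ hz
      exact hfr.uniq h7 (hAX j hj ha)
  obtain ⟨b, hb, -⟩ := (h.kt i).third (o i) (o i)
  -- elements of `A` centralising `K i b`
  have hAK : ∀ a ∈ A, (∀ k ∈ K i b, k * a = a * k) → a = 1 := by
    intro a ha hc
    obtain ⟨r, hr, hra, hr1⟩ := hcomp a ha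
    have h1 : r ∈ centralizer (K i b : Set G) := by
      have e : r = a * (r⁻¹ * a)⁻¹ := by group
      rw [e]
      exact mul_mem (mem_centralizer_iff.2 hc) (inv_mem (cen_XK_le (K i) b hra))
    have h2 := kt_R_of_cen (h.kt i) ((h.kt i).R_le _ hr) h1
    exact hr1 ((h.kt i).eq_one hb h2 hr)
  have hYQ : Y ≤ Q := by
    have htR := tR s htK htN
    have hYU : Y ≤ Uc (R i (o i)) := by
      rw [hY, ← cj_eq_self_iff.2 (N_Uc _ (inv_mem htR))]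
      exact cj_mono (hfr.V_le_Uc hj (o i))
    exact hYU.trans (hfr.Uc_le_Q i (o i))
  have hQN : Q ≤ normalizer (R i b : Set G) := fun q hq => (h.kt i).cen_le_N b
    (mem_centralizer_iff.2 fun v hv => (h.QC i q hq v hv).symm)
  have hYc : Y ≤ centralizer (Uc (R i b) : Set G) := by
    intro y hy
    rw [mem_centralizer_iff]
    intro u hu
    have h1 : y * u * y⁻¹ * u⁻¹ ∈ Uc (R i b) :=
      mul_mem (conj_mem_of_normalizer (N_Uc _ (hQN (hYQ hy))) hu) (inv_mem hu)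
    have h2 := hAK _ (hAm y hy u (hfr.Uc_le_Q i b hu)) fun k hk => (Uc_comm h1 ((h.kt i).K_Q b hk)).symm
    rw [mul_inv_eq_one, mul_inv_eq_iff_eq_mul] at h2
    exact h2.symm
  have hYL : Y ≤ QQ (R i b) := by
    have h1 : QQ (R m (o m)) ⊓ centralizer (Uc (R i b) : Set G) ≤ QQ (R i b) := by
      refine hfr.le_QQ_of inf_le_right ((O2_isPGroup _).to_le inf_le_left) ?_
      rintro c hc x ⟨hx1, hx2⟩
      have h2 : c ∈ normalizer (R m (o m) : Set G) :=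
        (h.kt m).cen_le_N (o m) (centralizer_le (hfr.V_le_Uc hm b) hc)
      exact mem_inf.2 ⟨conj_mem_of_normalizer (le_normalizer_O2 _ h2) hx1, mul_mem (mul_mem hc hx2) (inv_mem hc)⟩
    exact (le_inf hYm hYc).trans h1
  -- `K i b` normalises `A`
  have hKA : ∀ k ∈ K i b, ∀ a ∈ A, k * a * k⁻¹ ∈ A := by
    intro k hk a ha
    obtain ⟨y, hy, rfl⟩ := hfull a ha
    have h1 := (h.kt i).KQ b y (hYL hy) k hk
    set ρ := y * k * y⁻¹ * k⁻¹ with hρ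
    have hρW : ρ ∈ Wh Vf K Q := Vf_le_Wh Vf K Q i ((h.kt i).R_le b h1)
    have hkQ : k * u₀ * k⁻¹ ∈ Q := conj_mem_of_normalizer (h.nQ i b ((h.kt i).K_Q b hk)) hu₀
    have h2 : k * y * k⁻¹ = ρ⁻¹ * y := by rw [hρ]; group
    have h3 := hAm y hy _ hkQ
    have e : k * (y * u₀ * y⁻¹ * u₀⁻¹) * k⁻¹ = (k * y * k⁻¹) * (k * u₀ * k⁻¹) * (k * y * k⁻¹)⁻¹ * (k * u₀ * k⁻¹)⁻¹ := by
      group
    rw [e, h2, hfr.shift hρW hkQ (hAW h3)]
    exact h3
  obtain ⟨z, hz, hz1⟩ := (h.kt j).exists_ne (o j)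
  have haA : t⁻¹ * z * t ∈ A := by
    have := conj_mem_cj (g := t⁻¹) hz
    rwa [inv_inv] at this
  apply hz1
  have h1 : t⁻¹ * z * t = 1 := by
    refine hAK _ haA fun k hk => ?_
    obtain ⟨r, hr, hra, -⟩ := hcomp _ haA
    set a := t⁻¹ * z * t with ha
    have h2 := mul_mem (hKA k hk a haA) (inv_mem haA)
    have h3 : k * a * k⁻¹ * a⁻¹ = k * r * k⁻¹ * r⁻¹ := by
      have h4 := mem_centralizer_iff.1 hra k (K_le_X (K i) b hk)
      calc k * a * k⁻¹ * a⁻¹ = k * r * k⁻¹ * (k * (r⁻¹ * a) * k⁻¹) * a⁻¹ := by group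
        _ = k * r * k⁻¹ * r⁻¹ := by rw [h4]; group
    have h5 : k * r * k⁻¹ * r⁻¹ ∈ R i b := (h.kt i).QV b k ((h.kt i).K_Q b hk) r ((h.kt i).R_le _ hr)
    rw [h3] at h2
    have h6 : k * r * k⁻¹ * r⁻¹ = 1 := by
      obtain ⟨r', hr', hra', hr1'⟩ := hcomp _ h2
      have h7 := hfr.comp_eq ((h.kt i).R_le _ hr') ((h.kt i).R_le _ h5) hra' (by rw [inv_mul_cancel]; exact one_mem _)
      have h8 : r' = 1 := (h.kt i).eq_one hb (h7 ▸ h5) hr'
      exact hr1' h8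
    rw [← h3, mul_inv_eq_one, mul_inv_eq_iff_eq_mul] at h6
    exact h6
  calc z = t * (t⁻¹ * z * t) * t⁻¹ := by group
    _ = 1 := by rw [h1]; group

end t

/-- **(SURV) is impossible** -/
theorem kill [Finite G] [Finite κ] (hk : ∀ j, ∃ m, m ≠ i ∧ m ≠ j)
    (kp : ∀ t : G, t ∉ T → t ∈ normalizer (T : Set G) → t * t ∈ T → t ∈ normalizer (R i (o i) : Set G) →
      (∀ l, l ≠ i → ∃ m, m ≠ i ∧ cj t (R l (o l)) = R m (o m)) → False) : False := by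
  obtain ⟨w, hwK, hwN, hwT⟩ := exists_step h.T2 s.Kc2 s.TKc s.Kcn
  obtain ⟨n, hn, hn2⟩ := exists_pow_sq (s.Kc2.to_le (by rw [zpowers_le]; exact hwK)) hwT
  have htK : w ^ n ∈ Kc := pow_mem hwK n
  have htN : w ^ n ∈ normalizer (T : Set G) := pow_mem hwN n
  by_cases hJ : ∃ j, j ≠ i ∧ Jt Vf Q (w ^ n) j
  · obtain ⟨j, hj, hJ⟩ := hJ
    obtain ⟨m, hm, hmj⟩ := hk j
    exact h.Jend s htK htN hn2 hj hJ hm hmj
  · push Not at hJ
    obtain ⟨l₀, hl₀, -⟩ := hk i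
    refine kp _ hn htN hn2 (tR s htK htN) fun l hl => ?_
    obtain ⟨m, hm, -, hlm⟩ := h.tperm s htK htN hn2 hl₀ hl (hJ l hl)
    exact ⟨m, hm, hlm⟩

end FT

end Cfsg.Agent.Omega.IId.CvBig.Four
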