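import Cfsg.Agent.Omega.IId.Cv.Entry
import Cfsg.Agent.Omega.F4Leaf.Syl.LocP

/-!
# `M : NatV F S P V k` : elements which permute the lines (helper796, after `BigFour/SylEnd.lean`)

* `permV M` : the group of all `g` permuting the lines `line M l`; `relIndex_permV`;
* `not_dvd_permV` : `stab M i` is a Sylow 2-subgroup of `permV M ∩ N_G(line M i)`;
* `mem_stab_of_perm` : `t ∈ N(stab M i) ∩ N(line M i)`, `t² ∈ stab M i`, `t` permutes the other lines: `t ∈ stab M i`.
-/

set_option autoImplicit false
set_option linter.unusedSectionVars false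

namespace Cfsg.Agent.Omega.IId.NV

open Subgroup Cfsg Cfsg.Agent.ZN Cfsg.Agent.ZN.ChoiceBase
open Cfsg.Agent.Omega.MinPar Cfsg.Agent.Omega.FFThm
open Cfsg.Agent.Omega.F4Leaf.Syl.LocP (le_of_odd)

universe u

variable {G : Type u} [Group G] [Finite G] {F : Type} [Field F]

section perm

variable {S P V : Subgroup G} {k : ℕ} (M : NatV F S P V k)

/-- The elements of `G` which permute the lines. -/
def permV : Subgroup G where
  carrier := {g | ∀ l, ∃ m, cj g (line M l) = line M m}
  one_mem' := fun l => ⟨l, cj_one _⟩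
  mul_mem' := by
    intro a b ha hb l
    obtain ⟨m, hm⟩ := hb l
    obtain ⟨n, hn⟩ := ha m
    exact ⟨n, by rw [← cj_cj, hm, hn]⟩
  inv_mem' := by
    intro a ha l
    choose f hf using ha
    have hinj : Function.Injective f := by
      intro x y hxy
      have h1 : cj a (line M x) = cj a (line M y) := by rw [hf, hf, hxy]
      have h2 := congrArg (cj a⁻¹) h1
      rw [cj_inv_cj, cj_inv_cj] at h2
      exact line_inj (M := M) h2.le
    obtain ⟨m, hm⟩ := (Finite.injective_iff_surjective.1 hinj) l
    refine ⟨m, ?_⟩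
    rw [← hm, ← hf, cj_inv_cj]

theorem le_permV (hSP : S ≤ P) : S ≤ permV M := fun _ hs l => ⟨_, conj_line M hSP hs l⟩

/-- `N_{permV M}(line M i)` has index `k` in `permV M`. -/
theorem relIndex_permV (hSP : S ≤ P) (i : Fin k) :
    (permV M ⊓ normalizer (line M i : Set G)).relIndex (permV M) = k := by
  classical
  rw [inf_relIndex_left]
  choose f hf using fun x : permV M => x.2 i
  have hsurj : Function.Surjective f := by
    intro j
    obtain ⟨t, ht, h1⟩ := exists_trans M hSP i j
    refine ⟨⟨t, le_permV M hSP ht⟩, ?_⟩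
    have h2 : sg M (hSP ht) i = j := (sg_eq_iff M _).2 h1
    have h3 := hf ⟨t, le_permV M hSP ht⟩
    have h4 := conj_line M hSP ht i
    rw [h2] at h4
    exact line_inj (M := M) (h3.symm.trans h4).le
  have hff : ∀ x y : permV M, f x = f y ↔ (x⁻¹ * y : permV M) ∈ (normalizer (line M i : Set G)).subgroupOf (permV M) := by
    intro x y
    have h1 : f x = f y ↔ cj (x : G) (line M i) = cj (y : G) (line M i) := by
      rw [hf x, hf y]
      exact ⟨fun h => by rw [h], fun h => line_inj (M := M) h.le⟩
    rw [h1, mem_subgroupOf, mem_normalizer_iff_cj]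
    change _ ↔ cj ((x : G)⁻¹ * y) _ = _
    rw [← cj_cj]
    constructor
    · intro h
      rw [← h, cj_inv_cj]
    · intro h
      have := congrArg (cj (x : G)) h
      rw [cj_cj_inv] at this
      exact this.symm
  let q : permV M ⧸ ((normalizer (line M i : Set G)).subgroupOf (permV M)) → Fin k :=
    fun z => Quotient.liftOn' z f fun x y hxy => (hff x y).2 (QuotientGroup.leftRel_apply.1 hxy)
  have hq : Function.Bijective q := by
    constructor
    · intro z w
      induction z using QuotientGroup.induction_on with | _ x =>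
      induction w using QuotientGroup.induction_on with | _ y =>
      intro h
      exact QuotientGroup.eq.2 ((hff x y).1 h)
    · intro j
      obtain ⟨x, hx⟩ := hsurj j
      exact ⟨(QuotientGroup.mk x : permV M ⧸ ((normalizer (line M i : Set G)).subgroupOf (permV M))), hx⟩
  rw [relIndex, index, Nat.card_congr (Equiv.ofBijective q hq), Nat.card_fin]

end perm

variable {S : Sylow 2 G} {P V : Subgroup G} {k : ℕ} (M : NatV F (S : Subgroup G) P V k)

/-- `stab M i` is a Sylow 2-subgroup of `permV M ∩ N_G(line M i)`. -/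
theorem not_dvd_permV (hSP : (S : Subgroup G) ≤ P) (i : Fin k) :
    ¬ 2 ∣ (stab M i).relIndex (permV M ⊓ normalizer (line M i : Set G)) := by
  have : Fact (Nat.Prime 2) := ⟨Nat.prime_two⟩
  have e1 := card_stab M hSP i
  have e2 := Lib.SylowNormalInf.card_mul_relIndex (permV M ⊓ normalizer (line M i : Set G)) (permV M) inf_le_left
  rw [relIndex_permV M hSP i] at e2
  have e3 := Lib.SylowNormalInf.card_mul_relIndex (S : Subgroup G) (permV M) (le_permV M hSP)
  have hle : stab M i ≤ permV M ⊓ normalizer (line M i : Set G) :=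
    le_inf ((stab_le _ _).trans (le_permV M hSP)) (stab_normalizes_line M hSP i)
  have e4 := Lib.SylowNormalInf.card_mul_relIndex _ _ hle
  have hodd : ¬ 2 ∣ (S : Subgroup G).relIndex (permV M) := by
    intro h
    exact S.not_dvd_index (h.trans (relIndex_dvd_index_of_le (le_permV M hSP)))
  have hk : 0 < k := Fin.pos i
  have hs : 0 < Nat.card (stab M i) := Nat.card_pos
  have e5 : (stab M i).relIndex (permV M ⊓ normalizer (line M i : Set G)) = (S : Subgroup G).relIndex (permV M) := by
    have h4 : Nat.card (stab M i) * (stab M i).relIndex (permV M ⊓ normalizer (line M i : Set G)) * k =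
        Nat.card (stab M i) * (S : Subgroup G).relIndex (permV M) * k := by
      rw [e4, e2, ← e3, e1]
      ring
    exact Nat.eq_of_mul_eq_mul_left hs (Nat.eq_of_mul_eq_mul_right hk h4)
  rwa [e5]

theorem mem_stab_of_perm (hSP : (S : Subgroup G) ≤ P) {i : Fin k} {t : G}
    (htN : t ∈ normalizer (stab M i : Set G)) (htt : t * t ∈ stab M i) (htR : t ∈ normalizer (line M i : Set G))
    (hp : ∀ l, l ≠ i → ∃ m, cj t (line M l) = line M m) : t ∈ stab M i := by
  have hT2 : IsPGroup 2 (stab M i) := S.isPGroup'.to_le (stab_le M i)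
  have ht2 : IsPGroup 2 (zpowers t) := by
    have : Fact (Nat.Prime 2) := ⟨Nat.prime_two⟩
    obtain ⟨n, hn⟩ := hT2 ⟨t * t, htt⟩
    have hn' : (t * t) ^ 2 ^ n = 1 := congrArg Subtype.val hn
    refine IsPGroup.iff_card.2 ?_
    rw [Nat.card_zpowers]
    have h1 : orderOf t ∣ 2 ^ (n + 1) := by
      refine orderOf_dvd_of_pow_eq_one ?_
      rw [pow_succ', pow_mul, pow_two]
      exact hn'
    obtain ⟨m, -, hm⟩ := (Nat.dvd_prime_pow Nat.prime_two).1 h1
    exact ⟨m, hm⟩
  have h1 : IsPGroup 2 (stab M i ⊔ zpowers t : Subgroup G) :=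
    IsPGroup.to_sup_of_normal_left' hT2 ht2 (by rwa [zpowers_le])
  have hle : stab M i ≤ permV M ⊓ normalizer (line M i : Set G) :=
    le_inf ((stab_le _ _).trans (le_permV M hSP)) (stab_normalizes_line M hSP i)
  have htm : t ∈ permV M ⊓ normalizer (line M i : Set G) := by
    refine mem_inf.2 ⟨fun l => ?_, htR⟩
    by_cases hl : l = i
    · exact ⟨i, by rw [hl]; exact mem_normalizer_iff_cj.1 htR⟩
    · exact hp l hl
  exact le_of_odd hT2 hle (not_dvd_permV M hSP i) h1 (sup_le hle (by rwa [zpowers_le]))
    (le_sup_left.trans le_normalizer) (mem_sup_right (mem_zpowers t))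

end Cfsg.Agent.Omega.IId.NV
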