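import Cfsg.Agent.Omega.IId.CvBig.FourStep
import Cfsg.Agent.Omega.IId.CvBig.FourPerm
import Cfsg.Agent.Omega.IId.ThmCD.Of
import Cfsg.Agent.Omega.IId.Cv.Pre
import Cfsg.Agent.Omega.IId.ThmCD.Cor

/-!
# CvBig, CASE 2a, `q ≥ 4`, `k ≥ 3`: the frame from `NatD` (helper796)

`M : NatD F S P V D k`, THEOREM C (`hC`), a partner at one factor.

* `rm M l` : the module `fac M l`; `partner_trans`, `al_all` : `AtLine (rm M l) ![1, 0]` for all `l`;
* `frN` : `Fr`; `ftN` : `FT` for `T = stab M i`.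
-/

set_option autoImplicit false
set_option linter.unusedSectionVars false

namespace Cfsg.Agent.Omega.IId.CvBig.Four

open Subgroup Cfsg Cfsg.Agent.Lib.SL2Mat Cfsg.Agent.Omega.BTwo Cfsg.Agent.Omega.IId.Cv.TwoFour
open Cfsg.Agent.ZN (o2 zc zl)
open Cfsg.Agent.MinSimple
open Cfsg.Agent.Omega.MinPar Cfsg.Agent.Omega.FFThm
open Cfsg.Agent.Omega.NatPair (ap exists_ap)
open Cfsg.Agent.Omega.Mix (RMod Pt pt Char2)
open Cfsg.Agent.Omega.IId.M4 (toRMod toRMod_line nmG)
open Cfsg.Agent.Omega.IId.NV (KX mem_KX normalizer_le_normalizer_KX KX_le QL SP V_le_S V_le_zz)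

universe u

variable {G : Type u} [Group G] [Finite G] {F : Type} [Field F] [Finite F] [CharP F 2] {S : Sylow 2 G}
  {P V D : Subgroup G} {k : ℕ} (M : NatD F S P V D k)

/-- the module `NV.fac M l` -/
noncomputable def rm (l : Fin k) : RMod F (NV.fac M.toNatV l) (nmG (NV.pre M.toNatV l)) := toRMod (NV.pre M.toNatV l)

theorem rm_line (l : Fin k) : (rm M l).line ![1, 0] = NV.line M.toNatV l := by
  rw [rm, toRMod_line, NV.pre_line]

theorem pt_i₀ (l : Fin k) : pt (rm M l) (i₀ (rm M l)) = NV.line M.toNatV l := rm_line M l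

theorem line_two (l : Fin k) : IsPGroup 2 (NV.line M.toNatV l) :=
  (S.isPGroup'.to_le (V_le_S M)).to_le ((NV.line_le _ _).trans (NV.fac_le _ _))

theorem fac_two (l : Fin k) : IsPGroup 2 (NV.fac M.toNatV l) :=
  (S.isPGroup'.to_le (V_le_S M)).to_le (NV.fac_le _ _)

theorem ch_line (l : Fin k) : Char2 (normalizer (NV.line M.toNatV l : Set G)) := by
  intro y hy hq
  exact NV.char2_line' M l (mem_inf.2 ⟨hy, mem_centralizer_iff.2 fun q hq' => (hq q hq').symm⟩)

/-- every point of `NV.fac M l` is a conjugate of the line -/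
theorem exists_grp_pt (l : Fin k) (a : Pt (rm M l)) :
    ∃ g ∈ NV.grp M.toNatV {l}, pt (rm M l) a = cj g (NV.line M.toNatV l) := by
  obtain ⟨_, w, hw, rfl⟩ := a
  obtain ⟨A, hA⟩ := exists_ap (vec10_ne (F := F)) hw
  obtain ⟨g, hg, hgA⟩ := NV.exists_lift M.toNatV l A
  have hI : (rm M l).Ind g A := by
    intro y
    refine NV.ext_fac M.toNatV (NV.grp_conj_fac hg ((NV.pre M.toNatV l).e_mem y)) ((NV.pre M.toNatV l).e_mem _) ?_
    exact (hgA _ ((NV.pre M.toNatV l).e_mem y).1).trans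
      (by rw [NV.pre_e]; exact (NV.pre_e M.toNatV l _).symm)
  refine ⟨g, hg, ?_⟩
  have h1 := (rm M l).cj_line_of_ind hI ![1, 0]
  rw [hA, rm_line] at h1
  exact h1.symm

theorem QQ_pt {l : Fin k} {a : Pt (rm M l)} {g : G} (h : pt (rm M l) a = cj g (NV.line M.toNatV l)) :
    QQ (pt (rm M l) a) = cj g (QL M l) := by
  rw [h, ← Mix.cj_QQ]
  rfl

/-! ### Partners -/

section partner

variable {F' : Type*} [Field F'] [Finite F'] [CharP F' 2] {V' N' : Subgroup G} {M' : RMod F' V' N'}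

theorem partner_trans (hC : ∀ l, QL M l ≤ (S : Subgroup G)) {i l : Fin k} {s : G}
    (hs : cj s (NV.fac M.toNatV i) = NV.fac M.toNatV l) (hsl : cj s (NV.line M.toNatV i) = NV.line M.toNatV l)
    (p : Partner (NV.line M.toNatV i) (rm M i) M') : Partner (NV.line M.toNatV l) (rm M l) (M'.conj s) where
  K' := by
    rw [← hsl, ← cj_KX]
    exact cj_mono p.K'
  VQ := NV.fac_le_QL_self M hC l
  QN := (NV.QL_le_stab M hC l).trans (NV.stab_le_nmG (SP M) M.toNatV l)
  QN' := by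
    rw [← hsl, ← Mix.cj_QQ]
    exact cj_mono p.QN'
  ne := by
    obtain ⟨v, hv, w, hw, h⟩ := p.ne
    refine ⟨s * v * s⁻¹, by rw [← hs]; exact conj_mem_cj hv, s * w * s⁻¹, conj_mem_cj hw, fun e => h ?_⟩
    calc v * w = s⁻¹ * (s * v * s⁻¹ * (s * w * s⁻¹)) * s := by group
      _ = s⁻¹ * (s * w * s⁻¹ * (s * v * s⁻¹)) * s := by rw [e]
      _ = w * v := by group
  line := ⟨![1, 0], vec10_ne, (rm_line M l).symm⟩
  line' := by
    obtain ⟨w, hw, h⟩ := p.line'
    refine ⟨w, hw, ?_⟩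
    rw [M'.conj_line, ← h]
    exact hsl.symm

/-- `AtLine` at every factor -/
theorem al_all (hC : ∀ l, QL M l ≤ (S : Subgroup G)) {i : Fin k}
    (p : Partner (NV.line M.toNatV i) (rm M i) M') (l : Fin k) : AtLine (rm M l) ![1, 0] := by
  obtain ⟨s, hs, hsf⟩ := NV.exists_trans M.toNatV (SP M) i l
  have hsl : cj s (NV.line M.toNatV i) = NV.line M.toNatV l := by
    have h1 := NV.conj_line M.toNatV (SP M) hs i
    rw [(NV.sg_eq_iff M.toNatV (SP M hs)).2 hsf] at h1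
    exact h1
  obtain ⟨w, hw, -, a⟩ := (partner_trans M hC hsf hsl p).atLine (ch_line M l)
  exact a.all hw vec10_ne

end partner

/-! ### The frame -/

section frame

/-- an element of `S` which centralises all factors is in `O₂(P)` -/
theorem mem_o2_of (M : NatD F S P V D k) {g : G} (hg : g ∈ (S : Subgroup G))
    (h : ∀ l, ∀ v ∈ NV.fac M.toNatV l, g * v = v * g) : g ∈ o2 P := by
  rw [← IsParS.inf_centralizer S M.hG M.star]
  refine mem_inf.2 ⟨hg, ?_⟩
  have h1 : V ≤ centralizer ({g} : Set G) := by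
    rw [← NV.iSup_fac M.toNatV]
    exact iSup_le fun l v hv => mem_centralizer_singleton_iff.2 (h l v hv).symm
  rw [mem_centralizer_iff]
  intro v hv
  obtain ⟨n, hn, d, hd, rfl⟩ := M.dec v hv
  have h2 : n * g = g * n := mem_centralizer_singleton_iff.1 (h1 hn)
  have h3 : d * g = g * d := mem_centralizer_iff.1 (M.cD (SP M hg)) d hd
  calc n * d * g = n * (d * g) := by group
    _ = (n * g) * d := by rw [h3]; group
    _ = g * (n * d) := by rw [h2]; group

theorem mem_o2_of' (M : NatD F S P V D k) (hC : ∀ l, QL M l ≤ (S : Subgroup G)) {l : Fin k} {x g : G}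
    (hx : x ∈ NV.grp M.toNatV {l}) (hg : g ∈ cj x (QL M l)) (h : ∀ l, ∀ v ∈ NV.fac M.toNatV l, g * v = v * g) :
    g ∈ o2 P := by
  have hxP := NV.grp_le _ _ hx
  have h1 : x⁻¹ * g * x ∈ o2 P := by
    refine mem_o2_of M (hC l (mem_cj.1 hg)) fun m v hv => ?_
    have h2 : x * v * x⁻¹ ∈ NV.fac M.toNatV m :=
      conj_mem_of_normalizer (NV.grp_normalizes M.toNatV {l} {m} hx) hv
    have h3 := h m _ h2
    calc x⁻¹ * g * x * v = x⁻¹ * (g * (x * v * x⁻¹)) * x := by group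
      _ = x⁻¹ * (x * v * x⁻¹ * g) * x := by rw [h3]
      _ = v * (x⁻¹ * g * x) := by group
  have h2 := conj_mem_of_normalizer (VModule.le_normalizer_o2 P hxP) h1
  have e : x * (x⁻¹ * g * x) * x⁻¹ = g := by group
  rwa [e] at h2

variable (hC : ∀ l, QL M l ≤ (S : Subgroup G)) (al : ∀ l, AtLine (rm M l) ![1, 0])
include hC al

/-- **the frame** -/
theorem frN : Fr (fun l => NV.fac M.toNatV l) (fun l => nmG (NV.pre M.toNatV l)) (fun l => pt (rm M l))
    (fun l => Kx (rm M l)) (o2 P) where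
  kt l := (al l).kt vec10_ne
  comm l m _ v hv w hw := NV.comm M.toNatV (NV.fac_le _ _ hv) (NV.fac_le _ _ hw)
  QV' l m hml a g hg v hv := by
    obtain ⟨x, hx, e⟩ := exists_grp_pt M l a
    rw [QQ_pt M e] at hg
    exact NV.cj_QL_comm M hC hml hx hg hv
  VQ' l m a := by
    obtain ⟨x, hx, e⟩ := exists_grp_pt M l a
    rw [QQ_pt M e]
    exact ((NV.fac_le _ _).trans M.V_le).trans (NV.zl_le_cj_QL M hC (NV.grp_le _ _ hx))
  ch l a := MinSimple.Basic.char2_normalizer M.hG ((fac_two M l).to_le ((rm M l).pt_le a)) ((rm M l).pt_ne a)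
  cQ := Cfsg.Agent.Omega.ThmC.TwoOf.centralizer_o2_le M.hG S M.star
  QC l g hg v hv := ((VModule.mem_zc.1 (V_le_zz M (NV.fac_le _ _ hv))).2.1 g hg)
  CQ l a g hg h := by
    obtain ⟨x, hx, e⟩ := exists_grp_pt M l a
    rw [QQ_pt M e] at hg
    exact mem_o2_of' M hC hx hg h
  nQ l a := by
    obtain ⟨x, hx, e⟩ := exists_grp_pt M l a
    rw [QQ_pt M e]
    exact (NV.cj_QL_le_P M hC (NV.grp_le _ _ hx)).trans (VModule.le_normalizer_o2 P)

theorem ftN (i : Fin k) : FT (fun l => NV.fac M.toNatV l) (fun l => nmG (NV.pre M.toNatV l)) (fun l => pt (rm M l))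
    (fun l => Kx (rm M l)) (o2 P) (fun l => i₀ (rm M l)) (NV.stab M.toNatV i) i where
  toFr := frN M hC al
  card l m a b := by
    obtain ⟨_, w, hw, rfl⟩ := a
    obtain ⟨_, u, hu, rfl⟩ := b
    exact ((rm M l).card_line hw).trans ((rm M m).card_line hu).symm
  T2 := S.isPGroup'.to_le (NV.stab_le _ _)
  QT := NV.o2_le_stb M (B := {i})
  QQT l := by
    show QQ (pt (rm M l) (i₀ (rm M l))) ≤ _
    rw [pt_i₀]
    by_cases hl : l = i
    · subst hl
      exact NV.QL_le_stab M hC l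
    · exact le_inf (hC l) ((NV.QL_le_cent M hC (Ne.symm hl)).trans (centralizer_le_normalizer _))
  TV := NV.stab_normalizes _ _
  TQ := ((NV.stab_le _ _).trans (SP M)).trans (VModule.le_normalizer_o2 P)
  perm g hg l := ⟨_, NV.conj_fac M.toNatV (SP M (NV.stab_le _ _ hg)) l⟩
  lin g hg l m h := by
    show cj g (pt (rm M l) (i₀ (rm M l))) = pt (rm M m) (i₀ (rm M m))
    rw [pt_i₀, pt_i₀]
    have h1 := NV.conj_line M.toNatV (SP M) (NV.stab_le _ _ hg) l
    rw [(NV.sg_eq_iff M.toNatV (SP M (NV.stab_le _ _ hg))).2 h] at h1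
    exact h1
  TL g hg l h := NV.stab_le_nmG (SP M) M.toNatV l ⟨NV.stab_le _ _ hg, h⟩
  TCQ g hg h := mem_o2_of M (NV.stab_le _ _ hg) h

/-- the last hypothesis of `FT.kill` -/
theorem kpN (i : Fin k) (t : G) (ht : t ∉ NV.stab M.toNatV i) (htN : t ∈ normalizer (NV.stab M.toNatV i : Set G))
    (htt : t * t ∈ NV.stab M.toNatV i) (htR : t ∈ normalizer (pt (rm M i) (i₀ (rm M i)) : Set G))
    (hp : ∀ l, l ≠ i → ∃ m, m ≠ i ∧ cj t (pt (rm M l) (i₀ (rm M l))) = pt (rm M m) (i₀ (rm M m))) : False := by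
  rw [pt_i₀] at htR
  refine ht (NV.mem_stab_of_perm M.toNatV (SP M) htN htt htR fun l hl => ?_)
  obtain ⟨m, -, h⟩ := hp l hl
  rw [pt_i₀, pt_i₀] at h
  exact ⟨m, h⟩

end frame

end Cfsg.Agent.Omega.IId.CvBig.Four
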