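import Cfsg.Agent.Omega.IId.CvBig.FourSv
import Cfsg.Agent.Omega.IId.SideOf

/-!
# CvBig, CASE 2a, all `q`, `k ≥ 3`: the conjugate `V^w` (helper796)

`FS` : the frame over `Th`, Sylow in `N(Vf i) ∩ N(R i)`.

* `FS.step` : from `1 ≠ x ∈ Wh ∩ C(X)` centralised by a 2-group `S' > Th`: `w` with `V^w ≤ Wh`, `[V^w, C_Th(V)] = 1`;
* `FS.fa` : `FA`.
-/

set_option autoImplicit false
set_option linter.unusedSectionVars false

namespace Cfsg.Agent.Omega.IId.CvBig.Four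

open Subgroup Cfsg.Agent.Omega.BTwo Cfsg.Agent.Omega.IId.Cv.TwoFour
open Cfsg.Agent.Omega.F4Leaf.Syl.LocP (exists_step le_of_odd)

universe u

variable {G : Type u} [Group G] {κ : Type*} {ι : κ → Type*}

/-- a 2-group `O ≤ N(V)` normalised by `X` centralises `V` -/
theorem kt_cen_of_two [Finite G] {ι : Type*} {V L : Subgroup G} {R K : ι → Subgroup G} (b : KT V L R K)
    {O : Subgroup G} (hO : IsPGroup 2 O) (hV : O ≤ normalizer (V : Set G))
    (hX : XK K ≤ normalizer (O : Set G)) : O ≤ centralizer (V : Set G) := by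
  have hVp : IsPGroup 2 V := by
    intro x
    refine ⟨1, Subtype.ext ?_⟩
    have := b.V_sq x x.2
    rw [pow_one, pow_two]
    exact this
  obtain ⟨i₀, -⟩ := b.R_cov 1 (one_mem _)
  have hV1 : V ≠ ⊥ := fun h => b.R_ne i₀ (le_bot_iff.1 (h ▸ b.R_le i₀))
  obtain ⟨e, he, he1, hc⟩ := Half.exists_fixed hVp hV1 hO hV
  obtain ⟨j, hj⟩ := b.R_cov e he
  have hW : ∀ x ∈ XK K, ∀ y ∈ V, y ∈ centralizer (O : Set G) → x * y * x⁻¹ ∈ centralizer (O : Set G) :=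
    fun x hx y _ hy => conj_mem_of_normalizer (normalizer_le_normalizer_centralizer _ (hX hx)) hy
  have hec : e ∈ centralizer (O : Set G) := mem_centralizer_iff.2 fun t ht => mul_inv_eq_iff_eq_mul.1 (hc t ht)
  have hR : ∀ a, a ≠ j → R a ≤ centralizer (O : Set G) := by
    intro a ha r hr
    obtain ⟨t, ht, rfl⟩ := kt_full b he (b.not_mem (Ne.symm ha) hj he1) hr
    exact mul_mem (hW t (K_le_X K a ht) e he hec) (inv_mem hec)
  obtain ⟨a, ha, -⟩ := b.third j j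
  obtain ⟨c, hc1, hc2⟩ := b.third j a
  have h1 : V ≤ centralizer (O : Set G) := by
    rw [← b.R_sup a c (Ne.symm hc2)]
    exact sup_le (hR a ha) (hR c hc1)
  exact le_centralizer_iff.1 h1

/-- the frame over `Th` -/
structure FS (Vf Lf : κ → Subgroup G) (R K : ∀ l, ι l → Subgroup G) (Q : Subgroup G) (o : ∀ l, ι l)
    (Th : Subgroup G) (i : κ) : Prop extends Fr Vf Lf R K Q where
  Th2 : IsPGroup 2 Th
  ThV : Th ≤ normalizer (Vf i : Set G)
  ThL : Th ≤ Lf i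
  ThR : Th ≤ normalizer (R i (o i) : Set G)
  syl : ¬ 2 ∣ Th.relIndex (normalizer (Vf i : Set G) ⊓ normalizer (R i (o i) : Set G))
  QTh : Q ≤ Th
  QQTh : ∀ l, QQ (R l (o l)) ≤ Th

/-- the properties of `w` -/
structure Wp (Vf : κ → Subgroup G) (R K : ∀ l, ι l → Subgroup G) (Q : Subgroup G) (o : ∀ l, ι l)
    (Th : Subgroup G) (i : κ) (w : G) : Prop where
  wT : w ∈ normalizer (Th : Set G)
  wR : w ∈ normalizer (R i (o i) : Set G)
  ww : w * w ∈ Th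
  wV : cj w (Vf i) ≠ Vf i
  wW : cj w (Vf i) ≤ Wh Vf K Q
  cT : ∀ s ∈ Th, s ∈ centralizer (Vf i : Set G) → s ∈ centralizer (cj w (Vf i) : Set G)

namespace FS

variable {Vf Lf : κ → Subgroup G} {R K : ∀ l, ι l → Subgroup G} {Q : Subgroup G} {o : ∀ l, ι l} {Th : Subgroup G}
  {i : κ} (h : FS Vf Lf R K Q o Th i)
include h

theorem Q_cen : Q ≤ centralizer (Vf i : Set G) := fun q hq => by
  rw [mem_centralizer_iff]
  exact fun v hv => (h.QC i q hq v hv).symm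

theorem KTh : K i (o i) ≤ Th := ((h.kt i).K_Q (o i)).trans (h.QQTh i)

/-- a subgroup centralised by `C_Th(V)` is in `Wh` -/
theorem Wh_of_cT [Finite G] [Finite κ] {l : κ} (hl : l ≠ i) {A : Subgroup G}
    (hA : ∀ s ∈ Th, s ∈ centralizer (Vf i : Set G) → ∀ y ∈ A, y * s = s * y) : A ≤ Wh Vf K Q := by
  intro y hy
  have h1 : y ∈ centralizer (Q : Set G) := by
    rw [mem_centralizer_iff]
    exact fun q hq => (hA q (h.QTh hq) (h.Q_cen hq) y hy).symm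
  have h2 : ∀ s ∈ QQ (R l (o l)), y * s = s * y := fun s hs => hA s (h.QQTh l hs) (by
    rw [mem_centralizer_iff]
    exact fun v hv => (h.QV' l i hl.symm (o l) s hs v hv).symm) y hy
  have h3 : y ∈ QQ (R l (o l)) := by
    refine h.ch l (o l) (mem_inf.2 ⟨?_, mem_centralizer_iff.2 fun s hs => (h2 s hs).symm⟩)
    apply centralizer_le_normalizer
    rw [mem_centralizer_iff]
    intro r hr
    exact mem_centralizer_iff.1 h1 r (h.V_le_Q l ((h.kt l).R_le _ hr))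
  exact h.toFr.Vm hl.symm (mem_Uc h3 h2) h1

/-- **(B)** -/
theorem step_B [Finite G] [Finite κ] {l : κ} (hl : l ≠ i) {O : Subgroup G} (hO : IsPGroup 2 O)
    (hTO : Th ≤ normalizer (O : Set G)) (hXO : XK (K i) ≤ normalizer (O : Set G))
    (hn : ¬ O ≤ normalizer (Vf i : Set G)) : ∃ w, Wp Vf R K Q o Th i w := by
  have k := h.kt i
  obtain ⟨O₀, hO₀⟩ : ∃ O₀, O₀ = O ⊓ normalizer (Vf i : Set G) := ⟨_, rfl⟩
  have hO₀O : O₀ ≤ O := by rw [hO₀]; exact inf_le_left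
  have hO₀V : O₀ ≤ normalizer (Vf i : Set G) := by rw [hO₀]; exact inf_le_right
  have hinf : ∀ {A B C : Subgroup G}, A ≤ normalizer (B : Set G) → A ≤ normalizer (C : Set G) →
      A ≤ normalizer ((B ⊓ C : Subgroup G) : Set G) := by
    intro A B C h1 h2 a ha
    refine mem_normalizer_of_conj fun x hx => ?_
    exact ⟨conj_mem_of_normalizer (h1 ha) hx.1, conj_mem_of_normalizer (h2 ha) hx.2⟩
  have hX₀ : XK (K i) ≤ normalizer (O₀ : Set G) := by
    rw [hO₀]; exact hinf hXO (k.X_le_NV.trans le_normalizer)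
  have hT₀ : Th ≤ normalizer (O₀ : Set G) := by
    rw [hO₀]; exact hinf hTO (h.ThV.trans le_normalizer)
  have hc₀ : O₀ ≤ centralizer (Vf i : Set G) := kt_cen_of_two k (hO.to_le hO₀O) hO₀V hX₀
  have hO₀T : O₀ ≤ Th := le_of_odd h.Th2 (le_inf h.ThV h.ThR) h.syl (hO.to_le hO₀O)
    (le_inf hO₀V ((hc₀.trans (centralizer_le (k.R_le _))).trans (centralizer_le_normalizer _))) hT₀
  -- `N_O(O₀) > O₀`
  have hlt : ¬ O ≤ O₀ := fun hle => hn (hle.trans hO₀V)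
  obtain ⟨w₁, hw₁, hw₁N, hw₁O⟩ := exists_step (hO.to_le hO₀O) hO (hO₀O.trans le_normalizer) hlt
  obtain ⟨b, hb, hbn, hbt⟩ := Cfsg.Agent.Omega.IId.SideOf.exists_fixed_mod (A := O₀) (B := O ⊓ normalizer (O₀ : Set G)) (T := Th)
    (fun hle => hw₁O (hle ⟨hw₁, hw₁N⟩)) inf_le_right (hO.to_le inf_le_left) h.Th2 hT₀
    (hinf hTO (hT₀.trans le_normalizer))
  obtain ⟨n, hn1, hn2⟩ := exists_pow_sq (hO.to_le (by rw [zpowers_le]; exact (mem_inf.1 hb).1)) hbn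
  have hbN : b ∈ normalizer (O₀ : Set G) := (mem_inf.1 hb).2
  have hpow : ∀ m : ℕ, ∀ t ∈ Th, t * b ^ m * t⁻¹ * (b ^ m)⁻¹ ∈ O₀ := by
    intro m
    induction m with
    | zero =>
      intro t _
      rw [pow_zero, mul_one, mul_inv_cancel, inv_one, one_mul]
      exact one_mem _
    | succ m ih =>
      intro t ht
      have e : t * b ^ (m + 1) * t⁻¹ * (b ^ (m + 1))⁻¹ =
          (t * b ^ m * t⁻¹ * (b ^ m)⁻¹) * (b ^ m * (t * b * t⁻¹ * b⁻¹) * (b ^ m)⁻¹) := by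
        rw [pow_succ]; group
      rw [e]
      exact mul_mem (ih t ht) (conj_mem_of_normalizer (pow_mem hbN m) (hbt t ht))
  obtain ⟨w, hw⟩ : ∃ w, w = b ^ n := ⟨_, rfl⟩
  rw [← hw] at hn1 hn2
  have hwO : w ∈ O := by rw [hw]; exact pow_mem (mem_inf.1 hb).1 n
  have hwN : w ∈ normalizer (O₀ : Set G) := by rw [hw]; exact pow_mem hbN n
  have hwt : ∀ t ∈ Th, t * w * t⁻¹ * w⁻¹ ∈ O₀ := fun t ht => by rw [hw]; exact hpow n t ht
  have hwt' : ∀ s ∈ Th, w * s * w⁻¹ * s⁻¹ ∈ O₀ := by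
    intro s hs
    have e : w * s * w⁻¹ * s⁻¹ = (s * w * s⁻¹ * w⁻¹)⁻¹ := by group
    rw [e]
    exact inv_mem (hwt s hs)
  have hwT : w ∈ normalizer (Th : Set G) := by
    refine mem_normalizer_of_conj fun s hs => ?_
    have e : w * s * w⁻¹ = w * s * w⁻¹ * s⁻¹ * s := by group
    rw [e]
    exact mul_mem (hO₀T (hwt' s hs)) hs
  have hO₀V' : ∀ y ∈ O₀, y ∈ centralizer (cj w (Vf i) : Set G) := by
    intro y hy
    rw [centralizer_cj, mem_cj]
    exact hc₀ (conj_inv_mem_of_normalizer hwN hy)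
  have hcT : ∀ s ∈ Th, s ∈ centralizer (Vf i : Set G) → s ∈ centralizer (cj w (Vf i) : Set G) := by
    intro s hs hsc
    rw [centralizer_cj, mem_cj]
    have h1 := conj_inv_mem_of_normalizer hwN (hwt' s hs)
    have e : w⁻¹ * s * w = (w⁻¹ * (w * s * w⁻¹ * s⁻¹) * w)⁻¹ * s := by group
    rw [e]
    exact mul_mem (inv_mem (hc₀ h1)) hsc
  have hW : cj w (Vf i) ≤ Wh Vf K Q :=
    h.Wh_of_cT hl fun s hs hsc y hy => mem_centralizer_iff.1 (hcT s hs hsc) y hy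
  refine ⟨w, hwT, ?_, hO₀T hn2, fun e => hn1 ?_, hW, hcT⟩
  · refine mem_normalizer_of_conj fun r hr => ?_
    obtain ⟨a, ha, -⟩ := k.third (o i) (o i)
    obtain ⟨v, hv, hv1⟩ := k.exists_ne a
    obtain ⟨t, ht, rfl⟩ := kt_full k (k.R_le a hv) (k.not_mem ha hv hv1) hr
    have hv' : w * v * w⁻¹ ∈ cj w (Vf i) := conj_mem_cj (k.R_le a hv)
    have hvQ : w * v * w⁻¹ ∈ QQ (R i (o i)) := h.toFr.Wh_le_QQ i (o i) (hW hv')
    have h1 := k.KQ (o i) _ hvQ t ht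
    set v' := w * v * w⁻¹ with hv'def
    set y := w * t * w⁻¹ * t⁻¹ with hy
    have hyO : y ∈ O₀ := hwt' t (h.KTh ht)
    have h2 : (v' * t * v'⁻¹ * t⁻¹)⁻¹ = t * v' * t⁻¹ * v'⁻¹ := by
      simp only [mul_inv_rev, inv_inv, mul_assoc]
    set ρ := (v' * t * v'⁻¹ * t⁻¹)⁻¹ with hρ
    have hρR : ρ ∈ R i (o i) := inv_mem h1
    have c1 : ρ * y = y * ρ := mem_centralizer_iff.1 (hc₀ hyO) ρ (k.R_le _ hρR)
    have c2 : v' * y = y * v' := mem_centralizer_iff.1 (hO₀V' y hyO) v' hv'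
    have e : w * (t * v * t⁻¹ * v⁻¹) * w⁻¹ = ρ := by
      calc w * (t * v * t⁻¹ * v⁻¹) * w⁻¹ = (y * t) * v' * (y * t)⁻¹ * v'⁻¹ := by rw [hy, hv'def]; group
        _ = y * (t * v' * t⁻¹ * v'⁻¹) * (v' * y⁻¹ * v'⁻¹) := by group
        _ = y * ρ * y⁻¹ := by
          rw [← h2]
          have e3 : v' * y⁻¹ * v'⁻¹ = y⁻¹ := by
            calc v' * y⁻¹ * v'⁻¹ = y⁻¹ * (y * v') * y⁻¹ * v'⁻¹ := by group
              _ = y⁻¹ * (v' * y) * y⁻¹ * v'⁻¹ := by rw [c2]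
              _ = y⁻¹ := by group
          rw [e3]
        _ = ρ := by rw [← c1]; group
    rw [e]
    exact hρR
  · rw [hO₀]
    exact mem_inf.2 ⟨hwO, cj_eq_self_iff.1 e⟩

/-- **(A)** -/
theorem step_A [Finite G] [Finite κ] {l : κ} (hl : l ≠ i) {x u : G} {S' : Subgroup G}
    (hx : x ∈ Wh Vf K Q) (hxX : x ∈ centralizer (XK (K i) : Set G))
    (hch : centralizer ({x} : Set G) ⊓ centralizer (O2 (centralizer ({x} : Set G)) : Set G) ≤
      O2 (centralizer ({x} : Set G)))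
    (hS2 : IsPGroup 2 S') (hTS : Th ≤ S') (huS : u ∈ S') (hux : u ∈ centralizer ({x} : Set G))
    (huT : u ∈ normalizer (Th : Set G)) (huR : u ∈ normalizer (R i (o i) : Set G)) (hun : u ∉ Th)
    (huu : u * u ∈ Th) (hOV : O2 (centralizer ({x} : Set G)) ≤ normalizer (Vf i : Set G)) :
    Wp Vf R K Q o Th i u := by
  have k := h.kt i
  have hfr := h.toFr
  have hxc : ∀ g, g ∈ centralizer ({x} : Set G) ↔ g * x = x * g := fun g => mem_centralizer_singleton_iff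
  have hXx : XK (K i) ≤ centralizer ({x} : Set G) := fun g hg => (hxc g).2 (mem_centralizer_iff.1 hxX g hg)
  have hVx : Vf i ≤ centralizer ({x} : Set G) := fun v hv => (hxc v).2 (h.toFr.Wh_comm (Vf_le_Wh Vf K Q i hv) hx)
  set M := centralizer ({x} : Set G) with hM
  set O := O2 M with hO
  have hMO : M ≤ normalizer (O : Set G) := le_normalizer_O2 M
  have hOc : O ≤ centralizer (Vf i : Set G) := kt_cen_of_two k (O2_isPGroup M) hOV (hXx.trans hMO)
  have hVO : Vf i ≤ O := fun v hv => hch (mem_inf.2 ⟨hVx hv, le_centralizer_iff.1 hOc hv⟩)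
  have hVcO : Vf i ≤ centralizer (O : Set G) := le_centralizer_iff.1 hOc
  have huO : cj u O = O := cj_eq_self_iff.2 (hMO hux)
  have hV'O : cj u (Vf i) ≤ O := by rw [← huO]; exact cj_mono hVO
  have hV'cO : cj u (Vf i) ≤ centralizer (O : Set G) := by
    rw [← huO, centralizer_cj]; exact cj_mono hVcO
  have huV : cj u (Vf i) ≠ Vf i := by
    intro e
    apply hun
    have huV := cj_eq_self_iff.1 e
    have hp : IsPGroup 2 (zpowers u) := hS2.to_le (by rw [zpowers_le]; exact huS)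
    have h1 : IsPGroup 2 (Th ⊔ zpowers u : Subgroup G) :=
      hS2.to_le (sup_le hTS (by rw [zpowers_le]; exact huS))
    have h2 : Th ⊔ zpowers u ≤ Th := le_of_odd h.Th2 (le_inf h.ThV h.ThR) h.syl h1
      (sup_le (le_inf h.ThV h.ThR) (by rw [zpowers_le]; exact mem_inf.2 ⟨huV, huR⟩))
      (le_sup_left.trans le_normalizer)
    exact h2 (mem_sup_right (mem_zpowers u))
  have hV'QR : cj u (Vf i) ≤ QQ (R i (o i)) := by
    have h1 : cj u (QQ (R i (o i))) = QQ (R i (o i)) := cj_eq_self_iff.2 (le_normalizer_O2 _ huR)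
    rw [← h1]
    exact cj_mono (h.VQ' i i (o i))
  have hV'V : ∀ y ∈ cj u (Vf i), ∀ v ∈ Vf i, y * v = v * y := fun y hy v hv =>
    (mem_centralizer_iff.1 (hV'cO hy) v (hVO hv)).symm
  have hV'Q : cj u (Vf i) ≤ Q := by
    intro y hy
    refine h.CQ i (o i) y (hV'QR hy) fun m v hv => ?_
    by_cases hm : m = i
    · subst hm
      exact hV'V y hy v hv
    · exact h.QV' i m hm (o i) y (hV'QR hy) v hv
  -- `[C_Th(V), V'] ≤ R`
  have hsR : ∀ s ∈ Th, s ∈ centralizer (Vf i : Set G) → ∀ y ∈ cj u (Vf i), s * y * s⁻¹ * y⁻¹ ∈ R i (o i) := by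
    intro s hs hsc y hy
    have h1 : u⁻¹ * s * u ∈ Th := conj_inv_mem_of_normalizer huT hs
    have h2 : ∀ r ∈ R i (o i), u⁻¹ * s * u * r = r * (u⁻¹ * s * u) := by
      intro r hr
      have h3 : u * r * u⁻¹ ∈ R i (o i) := conj_mem_of_normalizer huR hr
      have h4 := mem_centralizer_iff.1 hsc _ (k.R_le _ h3)
      calc u⁻¹ * s * u * r = u⁻¹ * (s * (u * r * u⁻¹)) * u := by group
        _ = r * (u⁻¹ * s * u) := by rw [← h4]; group
    obtain ⟨t, ht, htc⟩ := lemA k (h.ThL h1) (h.Th2.to_le (by rw [zpowers_le]; exact h1)) h2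
    have hv := mem_cj.1 hy
    set v := u⁻¹ * y * u with hvdef
    have h5 := mem_centralizer_iff.1 htc v hv
    have h6 : (u⁻¹ * s * u) * v * (u⁻¹ * s * u)⁻¹ * v⁻¹ = t⁻¹ * v * t⁻¹⁻¹ * v⁻¹ := by
      calc (u⁻¹ * s * u) * v * (u⁻¹ * s * u)⁻¹ * v⁻¹
          = t⁻¹ * (t * (u⁻¹ * s * u) * v) * (u⁻¹ * s * u)⁻¹ * v⁻¹ := by group
        _ = t⁻¹ * (v * (t * (u⁻¹ * s * u))) * (u⁻¹ * s * u)⁻¹ * v⁻¹ := by rw [← h5]
        _ = _ := by group
    have h7 := k.QV (o i) t⁻¹ (inv_mem (k.K_Q _ ht)) v hv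
    rw [← h6] at h7
    have h8 := conj_mem_of_normalizer huR h7
    have e : u * ((u⁻¹ * s * u) * v * (u⁻¹ * s * u)⁻¹ * v⁻¹) * u⁻¹ = s * y * s⁻¹ * y⁻¹ := by
      rw [hvdef]; group
    rwa [e] at h8
  -- lines `b ≠ o i`
  have hQN : ∀ b, Q ≤ normalizer (R i b : Set G) := fun b q hq => k.cen_le_N b (h.Q_cen hq)
  have hUc : ∀ b, b ≠ o i → cj u (Vf i) ≤ centralizer (Uc (R i b) : Set G) := by
    intro b hb y hy
    rw [mem_centralizer_iff]
    intro z hz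
    have hzQ := hfr.Uc_le_Q i b hz
    have h1 := hsR z (h.QTh hzQ) (h.Q_cen hzQ) y hy
    have h2 : z * y * z⁻¹ * y⁻¹ ∈ Uc (R i b) := by
      have e : z * y * z⁻¹ * y⁻¹ = z * (y * z⁻¹ * y⁻¹) := by group
      rw [e]
      exact mul_mem hz (conj_mem_of_normalizer (N_Uc _ (hQN b (hV'Q hy))) (inv_mem hz))
    have h3 : z * y * z⁻¹ * y⁻¹ ∈ R i b := by
      refine kt_R_of_cen k (k.R_le _ h1) ?_
      rw [mem_centralizer_iff]
      exact fun t ht => (Uc_comm h2 (k.K_Q b ht)).symm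
    have h4 := k.eq_one hb h3 h1
    rw [mul_inv_eq_one, mul_inv_eq_iff_eq_mul] at h4
    exact h4
  have hQb : ∀ b, b ≠ o i → cj u (Vf i) ≤ QQ (R i b) := by
    intro b hb
    have hxU : x ∈ Uc (R i b) := hfr.mem_Uc_of (hfr.Wh_le_cen hx) hxX b
    have hUM : centralizer (Uc (R i b) : Set G) ≤ M := fun c hc => (hxc c).2 (mem_centralizer_iff.1 hc x hxU).symm
    have h1 : O ⊓ centralizer (O : Set G) ⊓ centralizer (Uc (R i b) : Set G) ≤ QQ (R i b) := by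
      refine hfr.le_QQ_of inf_le_right ((O2_isPGroup M).to_le (inf_le_left.trans inf_le_left)) ?_
      intro c hc y hy
      have hcO := hMO (hUM hc)
      exact mem_inf.2 ⟨mem_inf.2 ⟨conj_mem_of_normalizer hcO (mem_inf.1 (mem_inf.1 hy).1).1,
        conj_mem_of_normalizer (normalizer_le_normalizer_centralizer _ hcO) (mem_inf.1 (mem_inf.1 hy).1).2⟩,
        mul_mem (mul_mem hc (mem_inf.1 hy).2) (inv_mem hc)⟩
    exact (le_inf (le_inf hV'O hV'cO) (hUc b hb)).trans h1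
  have hK0 : ∀ b, b ≠ o i → ∀ y ∈ cj u (Vf i), ∀ t ∈ K i b, t ∈ centralizer (Vf i : Set G) → y * t = t * y := by
    intro b hb y hy t ht htc
    have h1 := hsR t (h.QTh (hfr.K0_le_Q ht htc)) htc y hy
    have h2 := inv_mem (k.KQ b y (hQb b hb hy) t ht)
    have e : (y * t * y⁻¹ * t⁻¹)⁻¹ = t * y * t⁻¹ * y⁻¹ := by group
    rw [e] at h2
    have h3 := k.eq_one hb h2 h1
    rw [mul_inv_eq_one, mul_inv_eq_iff_eq_mul] at h3
    exact h3.symm
  obtain ⟨a, ha, -⟩ := k.third (o i) (o i)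
  obtain ⟨b, hb, hba⟩ := k.third (o i) a
  have hsplit : ∀ y ∈ cj u (Vf i), ∃ v ∈ Vf i, v⁻¹ * y ∈ centralizer (XK (K i) : Set G) := fun y hy =>
    hfr.CU (Ne.symm hba) (hQb a ha hy) (hQb b hb hy) (hK0 a ha y hy) (hK0 b hb y hy)
  have hcT : ∀ s ∈ Th, s ∈ centralizer (Vf i : Set G) → s ∈ centralizer (cj u (Vf i) : Set G) := by
    intro s hs hsc
    rw [mem_centralizer_iff]
    intro y hy
    obtain ⟨v, hv, hc⟩ := hsplit y hy
    set c := v⁻¹ * y with hcdef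
    have h1 := hsR s hs hsc y hy
    have h2 : s * c * s⁻¹ * c⁻¹ ∈ centralizer (XK (K i) : Set G) :=
      mul_mem (conj_mem_of_normalizer (normalizer_le_normalizer_centralizer _ (k.L_le_NX (h.ThL hs))) hc)
        (inv_mem hc)
    have h3 := mem_centralizer_iff.1 hsc v hv
    have e : s * c * s⁻¹ * c⁻¹ = v⁻¹ * (s * y * s⁻¹ * y⁻¹) * v := by
      have e1 : s * v⁻¹ = v⁻¹ * s := by
        calc s * v⁻¹ = v⁻¹ * (v * s) * v⁻¹ := by group
          _ = v⁻¹ * s := by rw [h3]; group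
      calc s * c * s⁻¹ * c⁻¹ = (s * v⁻¹) * y * s⁻¹ * y⁻¹ * v := by rw [hcdef]; group
        _ = _ := by rw [e1]; group
    have e2 : v⁻¹ * (s * y * s⁻¹ * y⁻¹) * v = s * y * s⁻¹ * y⁻¹ := by
      have h4 := k.V_comm _ (k.R_le _ h1) v hv
      calc v⁻¹ * (s * y * s⁻¹ * y⁻¹) * v = v⁻¹ * ((s * y * s⁻¹ * y⁻¹) * v) := by group
        _ = s * y * s⁻¹ * y⁻¹ := by rw [h4]; group
    rw [e, e2] at h2
    have h5 := h.toFr.uniq (k.R_le _ h1) h2
    rw [mul_inv_eq_one, mul_inv_eq_iff_eq_mul] at h5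
    exact h5.symm
  exact ⟨huT, huR, huu, huV, h.Wh_of_cT hl fun s hs hsc y hy => mem_centralizer_iff.1 (hcT s hs hsc) y hy, hcT⟩

/-- **(3)** -/
theorem step [Finite G] [Finite κ] {l : κ} (hl : l ≠ i) {x u : G} {S' : Subgroup G}
    (hx : x ∈ Wh Vf K Q) (hxX : x ∈ centralizer (XK (K i) : Set G))
    (hch : centralizer ({x} : Set G) ⊓ centralizer (O2 (centralizer ({x} : Set G)) : Set G) ≤
      O2 (centralizer ({x} : Set G)))
    (hS2 : IsPGroup 2 S') (hTS : Th ≤ S') (hSx : S' ≤ centralizer ({x} : Set G)) (huS : u ∈ S')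
    (huT : u ∈ normalizer (Th : Set G)) (huR : u ∈ normalizer (R i (o i) : Set G)) (hun : u ∉ Th)
    (huu : u * u ∈ Th) : ∃ w, Wp Vf R K Q o Th i w := by
  have hMO := le_normalizer_O2 (centralizer ({x} : Set G))
  have hXx : XK (K i) ≤ centralizer ({x} : Set G) := fun g hg =>
    mem_centralizer_singleton_iff.2 (mem_centralizer_iff.1 hxX g hg)
  by_cases hOV : O2 (centralizer ({x} : Set G)) ≤ normalizer (Vf i : Set G)
  · exact ⟨u, h.step_A hl hx hxX hch hS2 hTS huS (hSx huS) huT huR hun huu hOV⟩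
  · exact h.step_B hl (O2_isPGroup _) ((hTS.trans hSx).trans hMO) (hXx.trans hMO) hOV

/-- `FA` from `w` -/
theorem fa {w : G} (hw : Wp Vf R K Q o Th i w) : FA (Vf i) (Lf i) (R i) (K i) (o i) Th w where
  bt := h.kt i
  Th2 := h.Th2
  ThV := h.ThV
  ThL := h.ThL
  ThR := h.ThR
  syl := h.syl
  KTh := h.KTh
  wT := hw.wT
  wR := hw.wR
  ww := hw.ww
  wV := hw.wV
  VV' := fun _ hv _ hv' => h.toFr.Wh_comm (Vf_le_Wh Vf K Q i hv) (hw.wW hv')
  split := fun _ hv => h.toFr.dec (hw.wW hv) i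
  cT := hw.cT

end FS

end Cfsg.Agent.Omega.IId.CvBig.Four
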