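import Cfsg.Agent.Omega.IId.CvBig.FourFan
import Cfsg.Agent.Omega.IId.CvBig.FourKillB

/-!
# CvBig, CASE 2a, all `q`, `k ≥ 3`: (SURV) (helper796)

* `FA.exists_fix` : if `NF` moves `R i`, there is a `T`-invariant `R i ^ n ≠ R i`, `n ∈ NF`;
* `exists_sv` : (SURV).
-/

set_option autoImplicit false
set_option linter.unusedSectionVars false

namespace Cfsg.Agent.Omega.IId.CvBig.Four

open Subgroup Cfsg.Agent.Omega.BTwo Cfsg.Agent.Omega.IId.Cv.TwoFour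

variable {G : Type*} [Group G]

theorem cj_congr {g g' : G} {H : Subgroup G} (h : ∀ y ∈ H, g * y * g⁻¹ = g' * y * g'⁻¹) : cj g H = cj g' H := by
  apply le_antisymm
  · rintro _ ⟨y, hy, rfl⟩
    change g * y * g⁻¹ ∈ _
    rw [h y hy]
    exact conj_mem_cj hy
  · rintro _ ⟨y, hy, rfl⟩
    change g' * y * g'⁻¹ ∈ _
    rw [← h y hy]
    exact conj_mem_cj hy

namespace FA

variable {ι : Type*} {V L : Subgroup G} {R K : ι → Subgroup G} {i : ι} {Th : Subgroup G} {w : G}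
  (h : FA V L R K i Th w)
include h

omit h in
theorem NF_P : NF V K w ≤ normalizer (PP V w : Set G) := inf_le_left.trans (cenMod_normalizes (F0_le _ _ _))

omit h in
theorem NF_c {n f : G} (hn : n ∈ NF V K w) (hf : f ∈ F0 V K w) : n * f = f * n :=
  (mem_centralizer_iff.1 hn.2 f hf).symm

omit h in
theorem NF_m {n y : G} (hn : n ∈ NF V K w) (hy : y ∈ PP V w) : n * y * n⁻¹ * y⁻¹ ∈ F0 V K w := hn.1.2 y hy

theorem NF_mul {n n' y : G} (hn : n ∈ NF V K w) (hn' : n' ∈ NF V K w) (hy : y ∈ PP V w) :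
    n * n' * y * (n * n')⁻¹ = (n' * y * n'⁻¹ * y⁻¹) * (n * y * n⁻¹ * y⁻¹) * y := by
  have h1 := NF_c hn (NF_m hn' hy)
  set f := n' * y * n'⁻¹ * y⁻¹ with hf
  calc n * n' * y * (n * n')⁻¹ = (n * f) * y * n⁻¹ := by rw [hf]; group
    _ = f * (n * y * n⁻¹ * y⁻¹) * y := by rw [h1]; group

theorem NF_comm {n n' y : G} (hn : n ∈ NF V K w) (hn' : n' ∈ NF V K w) (hy : y ∈ PP V w) :
    n * n' * y * (n * n')⁻¹ = n' * n * y * (n' * n)⁻¹ := by
  rw [h.NF_mul hn hn' hy, h.NF_mul hn' hn hy,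
    h.P_comm _ (F0_le V K w (NF_m hn' hy)) _ (F0_le V K w (NF_m hn hy))]

theorem NF_sq {n y : G} (hn : n ∈ NF V K w) (hy : y ∈ PP V w) : n * n * y * (n * n)⁻¹ = y := by
  rw [h.NF_mul hn hn hy, h.P_sq _ (F0_le V K w (NF_m hn hy)), one_mul]

theorem T_F0 {t : G} (ht : t ∈ Th) : t ∈ normalizer (F0 V K w : Set G) := by
  rw [← cj_eq_self_iff, F0, cj_inf, ← centralizer_cj, cj_eq_self_iff.2 (h.T_P ht),
    cj_eq_self_iff.2 (h.bt.L_le_NX (h.ThL ht))]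

theorem T_NF {t n : G} (ht : t ∈ Th) (hn : n ∈ NF V K w) : t * n * t⁻¹ ∈ NF V K w :=
  mem_inf.2 ⟨conj_cenMod (h.T_F0 ht) (h.T_P ht) hn.1,
    conj_mem_of_normalizer (normalizer_le_normalizer_centralizer _ (h.T_F0 ht)) hn.2⟩

theorem exists_fix [Finite G] {T : Subgroup G} (hT : T ≤ Th) {n₀ : G} (hn₀ : n₀ ∈ NF V K w)
    (hR : n₀ ∉ normalizer (R i : Set G)) :
    ∃ n ∈ NF V K w, cj n (R i) ≠ R i ∧ T ≤ normalizer (cj n (R i) : Set G) := by
  classical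
  have hfact : Fact (Nat.Prime 2) := ⟨Nat.prime_two⟩
  let Ω := {H : Subgroup G // ∃ n ∈ NF V K w, H = cj n (R i)}
  have hTR : ∀ t ∈ T, cj t (R i) = R i := fun t ht => cj_eq_self_iff.2 (h.ThR (hT ht))
  have hact : ∀ t ∈ T, ∀ H : Subgroup G, (∃ n ∈ NF V K w, H = cj n (R i)) → ∃ n ∈ NF V K w, cj t H = cj n (R i) := by
    rintro t ht _ ⟨n, hn, rfl⟩
    refine ⟨t * n * t⁻¹, h.T_NF (hT ht) hn, ?_⟩
    conv_rhs => rw [← hTR t ht]
    rw [← cj_mul, ← cj_mul, inv_mul_cancel_right]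
  letI : MulAction T Ω :=
    { smul := fun t H => ⟨cj (t : G) H.1, hact t t.2 H.1 H.2⟩
      one_smul := fun H => Subtype.ext (cj_one H.1)
      mul_smul := fun s t H => Subtype.ext (cj_mul (s : G) t H.1) }
  have hsm : ∀ (t : T) (H : Ω), (t • H).1 = cj (t : G) H.1 := fun t H => rfl
  have : Fintype Ω := Fintype.ofFinite Ω
  -- `|Ω|` is even
  have hΩP : ∀ H : Ω, H.1 ≤ PP V w := by
    rintro ⟨H, n, hn, rfl⟩
    show cj n (R i) ≤ PP V w
    rw [← cj_eq_self_iff.2 (NF_P hn)]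
    exact cj_mono h.R_le_P
  have heven : 2 ∣ Nat.card Ω := by
    let f : Function.End Ω := fun H => ⟨cj n₀ H.1, by
      obtain ⟨n, hn, e⟩ := H.2
      exact ⟨n₀ * n, mul_mem hn₀ hn, by rw [e, cj_mul]⟩⟩
    have hff : f ^ 2 ^ 1 = 1 := by
      rw [pow_one, pow_two]
      funext H
      refine Subtype.ext ?_
      show cj n₀ (cj n₀ H.1) = H.1
      rw [← cj_mul, cj_congr (g' := 1) fun y hy => ?_, cj_one]
      rw [h.NF_sq hn₀ (hΩP H hy)]; group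
    have h1 := Equiv.Perm.card_fixedPoints_modEq (p := 2) (n := 1) hff
    have h2 : Fintype.card f.fixedPoints = 0 := by
      rw [Fintype.card_eq_zero_iff]
      refine ⟨?_⟩
      rintro ⟨⟨H, n, hn, rfl⟩, hH⟩
      have h3 : cj n₀ (cj n (R i)) = cj n (R i) := congrArg Subtype.val hH
      rw [← cj_mul, cj_congr fun y hy => h.NF_comm hn₀ hn (h.R_le_P hy), cj_mul] at h3
      exact hR (cj_eq_self_iff.1 (cj_injective h3))
    rw [h2] at h1
    rw [Nat.card_eq_fintype_card]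
    exact (Nat.modEq_zero_iff_dvd).1 h1
  have hfix : (⟨R i, 1, one_mem _, (cj_one _).symm⟩ : Ω) ∈ MulAction.fixedPoints T Ω := by
    intro t
    refine Subtype.ext ?_
    rw [hsm]
    exact hTR t t.2
  obtain ⟨⟨H, n, hn, rfl⟩, hH, hne⟩ :=
    (h.Th2.to_le hT).exists_fixed_point_of_prime_dvd_card_of_fixed_point Ω heven hfix
  refine ⟨n, hn, fun e => hne (Subtype.ext e.symm), fun t ht => ?_⟩
  rw [← cj_eq_self_iff]
  exact congrArg Subtype.val (hH ⟨t, ht⟩)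

end FA

variable {κ : Type*} {ι : κ → Type*}

/-- **(SURV)** -/
theorem exists_sv [Finite G] {Vf Lf : κ → Subgroup G} {R K : ∀ l, ι l → Subgroup G} {Q : Subgroup G} {o : ∀ l, ι l}
    {T Th : Subgroup G} {i : κ} {w : G} (h : Fr Vf Lf R K Q) (hA : FA (Vf i) (Lf i) (R i) (K i) (o i) Th w)
    (hT : T ≤ Th) (hW : cj w (Vf i) ≤ Wh Vf K Q)
    (hK : ∀ n, T ≤ normalizer (cj n (R i (o i)) : Set G) → T ≤ normalizer (cj n (K i (o i)) : Set G))
    {n₀ : G} (hn₀ : n₀ ∈ NF (Vf i) (K i) w) (hR : n₀ ∉ normalizer (R i (o i) : Set G)) :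
    ∃ Rc Kc, Sv R K Q o T i Rc Kc := by
  obtain ⟨n, hn, hne, hTn⟩ := hA.exists_fix hT hn₀ hR
  have k := h.kt i
  have hPW : PP (Vf i) w ≤ Wh Vf K Q := sup_le (Vf_le_Wh Vf K Q i) hW
  have hRP := hA.R_le_P
  have hnP : n ∈ normalizer (PP (Vf i) w : Set G) := FA.NF_P hn
  have hcP : cj n (R i (o i)) ≤ PP (Vf i) w := by
    rw [← cj_eq_self_iff.2 hnP]
    exact cj_mono hRP
  -- `c = r θ(r)`
  have hdec : ∀ c ∈ cj n (R i (o i)), ∃ r ∈ R i (o i), r⁻¹ * c ∈ F0 (Vf i) (K i) w := by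
    intro c hc
    have hr := mem_cj.1 hc
    refine ⟨n⁻¹ * c * n, hr, ?_⟩
    have h1 := FA.NF_m hn (hRP hr)
    have h2 := hA.P_comm _ (hcP hc) _ (inv_mem (hRP hr))
    have e : n * (n⁻¹ * c * n) * n⁻¹ * (n⁻¹ * c * n)⁻¹ = (n⁻¹ * c * n)⁻¹ * c := by
      rw [← h2]; group
    rwa [e] at h1
  -- `K i` centralises `CP`
  have hKC : ∀ u ∈ K i (o i), ∀ r ∈ R i (o i), u * (n⁻¹ * r * n) = n⁻¹ * r * n * u := by
    intro u hu r hr
    have h1 := FA.NF_m (inv_mem hn) (hRP hr)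
    rw [inv_inv] at h1
    have h2 : u * (n⁻¹ * r * n * r⁻¹) = n⁻¹ * r * n * r⁻¹ * u :=
      mem_centralizer_iff.1 (mem_inf.1 h1).2 u (K_le_X (K i) (o i) hu)
    have h3 := k.QR (o i) u (k.K_Q (o i) hu) r hr
    calc u * (n⁻¹ * r * n) = (u * (n⁻¹ * r * n * r⁻¹)) * r := by group
      _ = n⁻¹ * r * n * r⁻¹ * (u * r) := by rw [h2]; group
      _ = n⁻¹ * r * n * u := by rw [h3]; group
  refine ⟨cj n (R i (o i)), cj n (K i (o i)), ?_⟩
  refine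
    { RcU := fun c hc => ?_
      RcQ := hcP.trans (hPW.trans h.Wh_le_cen)
      Rcd := fun c hc => ?_
      RcX := fun c hc hX => ?_
      card := card_cj _ _
      Kc2 := ?_
      TKc := hK n hTn
      Kcn := fun hle => hne ?_
      Kcc := fun a ha b hb => ?_
      KcR := fun a ha r hr => ?_ }
  · obtain ⟨r, hr, hf⟩ := hdec c hc
    have h1 : r⁻¹ * c ∈ Uc (R i (o i)) :=
      h.mem_Uc_of (h.Wh_le_cen (hPW (F0_le _ _ _ hf))) (mem_inf.1 hf).2 (o i)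
    have e : c = r * (r⁻¹ * c) := by group
    rw [e]
    exact mul_mem (h.R_le_Uc i (o i) hr) h1
  · obtain ⟨r, hr, hf⟩ := hdec c hc
    exact ⟨r, hr, (mem_inf.1 hf).2⟩
  · have hr := mem_cj.1 hc
    obtain ⟨r, hr', hf⟩ := hdec c hc
    have h1 : r ∈ centralizer (XK (K i) : Set G) := by
      have e : r = c * (r⁻¹ * c)⁻¹ := by group
      rw [e]
      exact mul_mem hX (inv_mem (mem_inf.1 hf).2)
    have h2 : r = 1 := h.uniq (k.R_le _ hr') h1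
    rw [h2, inv_one, one_mul] at hf
    have h3 := FA.NF_c hn hf
    have h4 : n⁻¹ * c * n = c := by rw [mul_assoc, ← h3]; group
    rw [h4] at hr
    exact h.uniq (k.R_le _ hr) hX
  · have h1 := k.K_isPGroup (o i)
    rintro ⟨x, hx⟩
    obtain ⟨m, hm⟩ := h1 ⟨_, mem_cj.1 hx⟩
    refine ⟨m, Subtype.ext ?_⟩
    have hm' : (n⁻¹ * x * n) ^ 2 ^ m = 1 := congrArg Subtype.val hm
    change x ^ 2 ^ m = 1
    have e : x = n * (n⁻¹ * x * n) * n⁻¹ := by group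
    rw [e, conj_pow, hm', mul_one, mul_inv_cancel]
  · -- `n` centralises `R`
    refine eq_of_le_of_card_ge ?_ (by rw [card_cj])
    rintro _ ⟨r, hr, rfl⟩
    change n * r * n⁻¹ ∈ R i (o i)
    obtain ⟨j, hj, -⟩ := k.third (o i) (o i)
    obtain ⟨v, hv, hv1⟩ := k.exists_ne j
    obtain ⟨u, hu, hur⟩ := kt_full k (k.R_le j hv) (k.not_mem hj hv hv1) hr
    have hvV := k.R_le j hv
    have h1 : n * u * n⁻¹ ∈ normalizer (Vf i : Set G) := hA.ThV (hT (hle (conj_mem_cj hu)))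
    have h2 : n * u * n⁻¹ * v * (n * u * n⁻¹)⁻¹ * v⁻¹ ∈ Vf i := mul_mem (conj_mem_of_normalizer h1 hvV) (inv_mem hvV)
    have hf := FA.NF_m (inv_mem hn) (V_le_P (Vf i) w hvV)
    rw [inv_inv] at hf
    have huf := mem_centralizer_iff.1 (mem_inf.1 hf).2 u (K_le_X (K i) (o i) hu)
    have h3 : n⁻¹ * v * n = v * (n⁻¹ * v * n * v⁻¹) := by
      have h4 := hA.P_comm _ (F0_le _ _ _ hf) _ (V_le_P (Vf i) w hvV)
      rw [← h4]; group
    have h5 : n * u * n⁻¹ * v * (n * u * n⁻¹)⁻¹ * v⁻¹ = n * r * n⁻¹ := by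
      have h6 := comm_mul (g := u) (v := v) huf
      rw [← h3, hur] at h6
      rw [← h6]; group
    rw [h5] at h2
    have h7 := FA.NF_m hn (hRP hr)
    have h8 : n * r * n⁻¹ * r⁻¹ = 1 := hA.V_F0 (mul_mem h2 (inv_mem (k.R_le _ hr))) h7
    rw [mul_inv_eq_one] at h8
    rw [h8]; exact hr
  · have h1 := k.KQ (o i) _ (k.K_Q _ (mem_cj.1 ha)) _ (mem_cj.1 hb)
    rw [mem_cj]
    have e : n⁻¹ * (a * b * a⁻¹ * b⁻¹) * n =
        (n⁻¹ * a * n) * (n⁻¹ * b * n) * (n⁻¹ * a * n)⁻¹ * (n⁻¹ * b * n)⁻¹ := by group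
    rw [e]
    exact h1
  · have h1 := hKC _ (mem_cj.1 ha) r hr
    calc a * r = n * ((n⁻¹ * a * n) * (n⁻¹ * r * n)) * n⁻¹ := by group
      _ = r * a := by rw [h1]; group

end Cfsg.Agent.Omega.IId.CvBig.Four
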