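import Cfsg.Agent.Omega.HOneEnd.FFourFK
import Cfsg.Agent.Omega.IId.CvBig.U4Def

/-!
# `BigU4`, piece (T3): `FK` with `TypU` for `F₄(q)`, `q` even

* `typ_UGN` : the conjugating elements of `typ_UG` lie in any `Y` which contains the torus and the parabolic of `X_r`;
* `Emb.typN` : `y ∈ N(G₀) ∩ N(X_r)`;
* `fkU_of` : `fk_of` with `TypU`.
-/

set_option autoImplicit false
set_option Elab.async false
set_option linter.unusedSectionVars false

namespace Cfsg.Agent.Omega.IId.CvBig.TypF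

open CoxeterSystem Cfsg.Agent.ChevalleyStructure.CoxeterGeom Cfsg.Agent.Tits.Roots Cfsg.Agent.Tits.Core
open Cfsg Cfsg.Lie Cfsg.Agent.ChevalleyStructure Cfsg.Agent.ChevalleyStructure.Elts
  Cfsg.Agent.ChevalleyStructure.RootVec Cfsg.Agent.ChevalleyStructure.CoxeterGeomTypes
open Cfsg.Agent.Nodes Cfsg.Agent.Nodes.Reps Cfsg.Agent.Nodes.BNOf Cfsg.Agent.Nodes.RGDChev Cfsg.Agent.Nodes.Coroot
  Cfsg.Agent.Nodes.KindF Cfsg.Agent.KFacts.ChevTwo Cfsg.Agent.KFacts.ChevTwoTab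
  Cfsg.Agent.KFacts.ChevTwoInst Cfsg.Agent.KFacts.RgdTI Cfsg.Agent.KFacts.RgdOdd
  Cfsg.Agent.KFacts.F4Star Cfsg.Agent.KFacts.F4Cent Cfsg.Agent.KFacts.F4Pair Cfsg.Agent.KFacts.F4Torus
open Cfsg.Agent.KFacts.F4Chart (torH torH_mem torH_conj)
open Cfsg.Agent.Omega.All.F4K
open Cfsg.Agent.Omega.HOneEnd.FFour
open Subgroup Cfsg.Agent.Omega.All.HOne
open Cfsg.Agent.Omega.IId.M4 (FK)
open Cfsg.Agent.Omega.IId.Cv (TypU)

universe u v

variable {K : Type v} [Field K] [Finite K] [CharP K 2] {G : Type u} [Group G] {j : ↥(chevF4.group K) →* G}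

theorem typ_UGN (hj : Function.Injective j) {Y Z : Subgroup G} {r : Fin 4 → ℤ} (hr : Dom r) (hC : CG j r ≤ Y)
    (hT : ∀ ν, (j.comp (torH K)) ν ∈ Y) (hZ : ∀ r, Dom r → ∃ z ∈ XG j r, z ∈ Z ∧ z ≠ 1) :
    ∀ u ∈ UG j r, ∃ y ∈ Y, y * u * y⁻¹ ∈ Z := by
  obtain ⟨zs, hs, hsZ, hs1⟩ := hZ _ (Or.inr rfl)
  obtain ⟨zl, hl, hlZ, hl1⟩ := hZ _ (Or.inl rfl)
  rw [← SE_X j (Or.inr rfl), v44_s0] at hs
  rw [← SE_X j (Or.inl rfl), v47_rho] at hl
  rw [← SE_U j hr]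
  rcases hr with rfl | rfl
  · obtain ⟨rt, hrt⟩ := exists_rt (K := K)
    have h := (chA hj).typ_l rt hrt parL hC hT hs hsZ hs1 hl hlZ hl1
    rw [← v47_rho] at h
    exact h
  · have h := (chA hj).typ_s parS hC hT hs hsZ hs1 hl hlZ hl1
    rw [← v44_s0] at h
    exact h

/-- the torus normalises `X_r` -/
theorem tor_N [Finite G] (hj : Function.Injective j) {r : Fin 4 → ℤ} (hr : Dom r) (ν : Fin 4 → Kˣ) :
    (j.comp (torH K)) ν ∈ normalizer (XG j r : Set G) := by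
  refine Subgroup.mem_normalizer_fintype fun x hx => ?_
  rw [SetLike.mem_coe, ← SE_X j hr] at hx ⊢
  obtain ⟨u, rfl⟩ := ((chA hj).mem_SE_singleton hr.mem).1 hx
  rw [(chA hj).tor r hr.mem]
  exact ((chA hj).mem_SE_singleton hr.mem).2 ⟨_, rfl⟩

/-- **`TypU` over `Emb`.** -/
theorem typN [Finite G] {T : Subgroup G} (E : Emb j T (normalizer (j.range : Set G))) {r : Fin 4 → ℤ} (hr : Dom r) :
    ∀ u ∈ UG j r, ∃ y ∈ normalizer (j.range : Set G), y ∈ normalizer (XG j r : Set G) ∧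
      y * u * y⁻¹ ∈ Cfsg.Agent.ZN.zc T := by
  intro u hu
  have hC : CG j r ≤ normalizer (j.range : Set G) ⊓ normalizer (XG j r : Set G) := by
    intro g hg
    rw [E.CG_eq hr] at hg
    refine ⟨le_normalizer hg.1, mem_normalizer_fintype fun x hx => ?_⟩
    rw [SetLike.mem_coe] at hx ⊢
    have h1 := mem_centralizer_iff.1 hg.2 x hx
    rw [← h1, mul_inv_cancel_right]
    exact hx
  obtain ⟨y, hy, h⟩ := typ_UGN (Z := Cfsg.Agent.ZN.zc T) E.inj hr hC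
    (fun ν => ⟨le_normalizer ⟨torH K ν, rfl⟩, tor_N E.inj hr ν⟩) (fun s hs => by
      obtain ⟨z, h1, h2, h3⟩ := Cfsg.Agent.Omega.All.exists_zc_mem E.two (E.side' hs).X_S (E.side' hs).S_X
        (XG_sq E.inj hs) (XG_ne E.inj hs)
      exact ⟨z, h2, h1, h3⟩) u hu
  exact ⟨y, hy.1, hy.2, h⟩

variable {G₀ : Subgroup G}

/-- **`fk_of` with `TypU`.** -/
theorem fkU_of [Finite G] (φ : ↥G₀ ≃* ↥(chevF4.group K)) {T R : Subgroup G} (hT : IsPGroup 2 T)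
    (hTG : T ≤ normalizer (G₀ : Set G)) (hTR : T ≤ normalizer (R : Set G)) (hR : R ≤ G₀)
    (hc : centralizer (G₀ : Set G) = ⊥)
    (hU : ((T ⊓ G₀).subgroupOf G₀).map φ.toMonoidHom = RGD.Sup (XF K) (RGD.Pos cF isType.isCartan))
    {s : Fin 4 → ℤ} (hs : Dom s) (hX : (R.subgroupOf G₀).map φ.toMonoidHom = XF K s) :
    ∃ Xb Ca Cb Qa Qb Ua Ub : Subgroup G, FK T G₀ R Xb Ca Cb Qa Qb Ua Ub ∧ TypU T G₀ R Ua := by
  have E := emb_of φ hT hTG hTR hR hc hU hs hX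
  obtain ⟨r, hr, hrs⟩ := exists_other hs
  have hXR := XG_emb φ hR hX
  have hj : (emb φ).range = G₀ := emb_range φ
  have E' : Emb (emb φ) T (normalizer ((emb φ).range : Set G)) := by rw [hj]; exact E
  have h1 := E'.fk hr hs hrs
  have h2 := typN E' hs
  rw [hj, hXR] at h1 h2
  exact ⟨_, _, _, _, _, _, _, h1, fun u hu _ => h2 u hu⟩

end Cfsg.Agent.Omega.IId.CvBig.TypF
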