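import Cfsg.Agent.Omega.HOneEnd.ThmId
import Cfsg.Agent.Omega.IId.M4.SpKof
import Cfsg.Agent.Omega.IId.CvBig.U4Def

/-!
# `BigU4`: `TypU` for `G₀ ≅ Sp_2n(q)`, `q` even, `n ≥ 3` (helper38)

* `typ_US_N` : every element of `U_s` is conjugate into `Z` by an element normalising `X_12`;
* `typU` : `TypU T ι.range X_12 U_s` over `Hyp0 ι T`;
* `exists_spKU`, `spKU_of_endIn`, `spKU_of_id` : `SpK` together with `TypU`.
-/

set_option autoImplicit false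
set_option linter.unusedSectionVars false

namespace Cfsg.Agent.Omega.IId.TypUSp

open Cfsg Cfsg.Agent.ClassicalGeometry.SympBasic Cfsg.Agent.ClassicalGeometry.SympAutSemi
open Cfsg.Agent.OddHalf.SpN Cfsg.Agent.OddHalf.SpN.Out
open Subgroup
open Cfsg.Agent.Nodes.TypeC Cfsg.Agent.TitsThree Cfsg.Agent.TitsThree.Siegel
open Cfsg.Agent.KFacts.SysSp (eSp)
open Cfsg.Agent.Omega.All.SpN (Hyp0 C0 D0 QS US UL i0 i1 d01 exists_US w01 w01_0 w01_1 tor conj_zz_tor)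
open Cfsg.Agent.Omega.HOneEnd.SpIota (iota iota_inj iota_range mem_X12_of_alt alt_sx eSp_eq cv dj_cv)
open Cfsg.Agent.Omega.HOneEnd (EndIn)
open Cfsg.Agent.Omega.IId.Cv (TypU)
open Cfsg.Agent.Omega.IId.M4 (SpK spK card_X12 card_US exists_hyp0 R_eq0)

variable {n : ℕ} {F : Type*} [Field F] [Finite F] [CharP F 2] {hn : 3 ≤ n}

local notation "sY" => Cfsg.Agent.OddHalf.SpN.sy

/-- `g` normalises `X_12` -/
def Nx (hn : 3 ≤ n) (g : Sy n F) : Prop := ∀ a : F, ∃ a' : F, g * zz hn a 0 * g⁻¹ = zz hn a' 0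

theorem Nx.one : Nx hn (1 : Sy n F) := fun a => ⟨a, by group⟩

theorem Nx.mul {g g' : Sy n F} (h : Nx hn g) (h' : Nx hn g') : Nx hn (g * g') := by
  intro a
  obtain ⟨a', ha'⟩ := h' a
  obtain ⟨a'', ha''⟩ := h a'
  refine ⟨a'', ?_⟩
  rw [← ha'', ← ha']
  group

theorem Nx.tor (l0 l1 : Fˣ) : Nx hn (tor hn l0 l1) := fun a => ⟨l0 * l1 * a, by
  rw [conj_zz_tor, mul_zero]⟩

theorem zz_eq0' (a : F) : zz hn a 0 = sx (i0 hn) (i1 hn) a := Cfsg.Agent.Omega.All.SpN.zz_eq0 a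

theorem Nx.x (s : F) : Nx hn (sx (neg (i0 hn)) (i1 hn) s)⁻¹ := fun a => ⟨a, by
  have c1 : Commute (sx (i0 hn) (i1 hn) a) (sx (neg (i0 hn)) (i1 hn) s) := sx_comm' _ _
  rw [zz_eq0', inv_inv, mul_assoc, c1.eq]
  group⟩

theorem Nx.w : Nx hn (sw (w01 hn) : Sy n F) := fun a => ⟨a, by
  rw [zz_eq0', sw_sx, w01_0, w01_1, sx_symm]⟩

theorem Nx.norm {G : Type*} [Group G] [Finite G] {ι : Sy n F →* G} {g : Sy n F} (h : Nx hn g) :
    ι g ∈ normalizer (((X12 hn).map ι : Subgroup G) : Set G) := by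
  have h1 : ∀ x ∈ (X12 hn).map ι, ι g * x * (ι g)⁻¹ ∈ (X12 hn).map ι := by
    rintro _ ⟨_, ⟨a, rfl⟩, rfl⟩
    obtain ⟨a', ha'⟩ := h a
    exact ⟨_, ⟨a', rfl⟩, by rw [← ha', map_mul, map_mul, map_inv]⟩
  have h2 : ((X12 hn).map ι).map (MulAut.conj (ι g)).toMonoidHom = (X12 hn).map ι := by
    apply Subgroup.eq_of_le_of_card_ge
    · rintro _ ⟨x, hx, rfl⟩
      exact h1 x hx
    · exact le_of_eq (Nat.card_congr
        (((X12 hn).map ι).equivMapOfInjective _ (MulAut.conj (ι g)).injective).toEquiv)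
  rw [mem_normalizer_iff]
  intro x
  refine ⟨h1 x, fun hx => ?_⟩
  rw [← h2] at hx
  obtain ⟨y, hy, e⟩ := hx
  have : y = x := (MulAut.conj (ι g)).injective e
  rwa [← this]

variable {A : Sy n F}

theorem typ_zz_N {Z : Subgroup (Sy n F)} {a0 b0 : F} (ha0 : a0 ≠ 0) (hb0 : b0 ≠ 0) (h1 : zz hn a0 0 ∈ Z)
    (h2 : zz hn 0 b0 ∈ Z) (a b : F) : ∃ g : Sy n F, Nx hn g ∧ g * zz hn a b * g⁻¹ ∈ Z := by
  have h3 : zz hn a0 b0 ∈ Z := by
    have := mul_mem h1 h2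
    rwa [zz_mul, add_zero, zero_add] at this
  by_cases hb : b = 0
  · subst hb
    by_cases ha : a = 0
    · subst ha
      exact ⟨1, Nx.one, by rw [zz_zero]; simp [one_mem]⟩
    · refine ⟨tor hn (Units.mk0 (a0 / a) (div_ne_zero ha0 ha)) 1, Nx.tor _ _, ?_⟩
      rw [conj_zz_tor, Units.val_mk0, Units.val_one, mul_one, mul_zero, div_mul_cancel₀ _ ha]
      exact h1
  · obtain ⟨l, hl⟩ := exists_sqrt (F := F) (b0 / b)
    have hl0 : l ≠ 0 := by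
      rintro rfl
      rw [mul_zero] at hl
      exact div_ne_zero hb0 hb hl.symm
    have e : l ^ 2 * b = b0 := by rw [pow_two, hl, div_mul_cancel₀ _ hb]
    by_cases ha : a = 0
    · subst ha
      refine ⟨tor hn (Units.mk0 l hl0) 1, Nx.tor _ _, ?_⟩
      rw [conj_zz_tor, Units.val_mk0, mul_zero, e]
      exact h2
    · refine ⟨tor hn (Units.mk0 l hl0) (Units.mk0 (a0 / (l * a)) (div_ne_zero ha0 (mul_ne_zero hl0 ha))),
        Nx.tor _ _, ?_⟩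
      rw [conj_zz_tor, Units.val_mk0, Units.val_mk0, e]
      have e' : l * (a0 / (l * a)) * a = a0 := by field_simp
      rw [e']
      exact h3

theorem typ_US_N {Z : Subgroup (Sy n F)} {a0 b0 : F} (ha0 : a0 ≠ 0) (hb0 : b0 ≠ 0) (h1 : zz hn a0 0 ∈ Z)
    (h2 : zz hn 0 b0 ∈ Z) (hA : A ∈ US (i0 hn) (i1 hn)) : ∃ g : Sy n F, Nx hn g ∧ g * A * g⁻¹ ∈ Z := by
  obtain ⟨a, b, c, rfl⟩ := exists_US (d01 hn) hA
  have key : ∀ a b c : F, a ≠ 0 → ∃ g : Sy n F, Nx hn g ∧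
      g * (sx (i0 hn) (i1 hn) c * sY (i0 hn) a * sY (i1 hn) b) * g⁻¹ ∈ Z := by
    intro a b c ha
    obtain ⟨s, hs⟩ := exists_sqrt (F := F) (b / a)
    have hs' : a * s ^ 2 = b := by rw [pow_two, hs, mul_div_cancel₀ _ ha]
    obtain ⟨g, hgN, hg⟩ := typ_zz_N ha0 hb0 h1 h2 (c + a * s) a
    have hd := d01 hn
    have hd' : Dj (neg (i0 hn)) (i1 hn) := dj_neg_left.2 hd
    set x := sx (neg (i0 hn)) (i1 hn) s with hx
    have r1 : x⁻¹ * sY (i0 hn) a * x = sx (i0 hn) (i1 hn) (a * s) * sY (i1 hn) b * sY (i0 hn) a := by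
      have h := sy_rel hd a s
      rw [hs', ← hx] at h
      have c1 : Commute (sx (i0 hn) (i1 hn) (a * s)) x := sx_comm' _ _
      have c2 : Commute (sY (i1 hn) b) x := sy_sx_comm
        (fun e => hd.1 (OddHalf.SpN.neg_inj.1 e)) (fun e => (ne_neg (i1 hn)) e) _ _
      have c3 : Commute (sx (i0 hn) (i1 hn) (a * s) * sY (i1 hn) b) x := c1.mul_left c2
      calc x⁻¹ * sY (i0 hn) a * x = x⁻¹ * (sY (i0 hn) a * x) := by group
        _ = x⁻¹ * ((sx (i0 hn) (i1 hn) (a * s) * sY (i1 hn) b) * x * sY (i0 hn) a) := by rw [h]; group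
        _ = x⁻¹ * (x * (sx (i0 hn) (i1 hn) (a * s) * sY (i1 hn) b) * sY (i0 hn) a) := by rw [c3.eq]
        _ = _ := by group
    have r2 : x⁻¹ * sx (i0 hn) (i1 hn) c * x = sx (i0 hn) (i1 hn) c := by
      have c1 : Commute (sx (i0 hn) (i1 hn) c) x := sx_comm' _ _
      rw [mul_assoc, c1.eq]; group
    have r3 : x⁻¹ * sY (i1 hn) b * x = sY (i1 hn) b := by
      have c2 : Commute (sY (i1 hn) b) x := sy_sx_comm
        (fun e => hd.1 (OddHalf.SpN.neg_inj.1 e)) (fun e => (ne_neg (i1 hn)) e) _ _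
      rw [mul_assoc, c2.eq]; group
    refine ⟨g * x⁻¹, hgN.mul (Nx.x s), ?_⟩
    have e : g * x⁻¹ * (sx (i0 hn) (i1 hn) c * sY (i0 hn) a * sY (i1 hn) b) * (g * x⁻¹)⁻¹ =
        g * ((x⁻¹ * sx (i0 hn) (i1 hn) c * x) * (x⁻¹ * sY (i0 hn) a * x) * (x⁻¹ * sY (i1 hn) b * x)) * g⁻¹ := by
      group
    have c4 : Commute (sY (i1 hn) b) (sY (i0 hn) a) := sy_comm (fun e => hd.2 e) _ _
    have e2 : sx (i0 hn) (i1 hn) c * (sx (i0 hn) (i1 hn) (a * s) * sY (i1 hn) b * sY (i0 hn) a) * sY (i1 hn) b =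
        zz hn (c + a * s) a := by
      rw [Cfsg.Agent.Omega.All.SpN.zz_eq, sx_add]
      calc sx (i0 hn) (i1 hn) c * (sx (i0 hn) (i1 hn) (a * s) * sY (i1 hn) b * sY (i0 hn) a) * sY (i1 hn) b
          = sx (i0 hn) (i1 hn) c * sx (i0 hn) (i1 hn) (a * s) * (sY (i1 hn) b * sY (i0 hn) a) * sY (i1 hn) b := by
            group
        _ = sx (i0 hn) (i1 hn) c * sx (i0 hn) (i1 hn) (a * s) * (sY (i0 hn) a * sY (i1 hn) b) * sY (i1 hn) b := by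
            rw [c4.eq]
        _ = sx (i0 hn) (i1 hn) c * sx (i0 hn) (i1 hn) (a * s) * sY (i0 hn) a * (sY (i1 hn) b * sY (i1 hn) b) := by
            group
        _ = _ := by rw [sy_sq, mul_one]
    rw [e, r1, r2, r3, e2]
    exact hg
  by_cases ha : a = 0
  · by_cases hb : b = 0
    · rw [ha, hb, sy_zero, sy_zero, mul_one, mul_one, ← Cfsg.Agent.Omega.All.SpN.zz_eq0]
      exact typ_zz_N ha0 hb0 h1 h2 c 0
    · obtain ⟨g, hgN, hg⟩ := key b a c hb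
      refine ⟨g * sw (w01 hn), hgN.mul Nx.w, ?_⟩
      have e : g * sw (w01 hn) * (sx (i0 hn) (i1 hn) c * sY (i0 hn) a * sY (i1 hn) b) * (g * sw (w01 hn))⁻¹ =
          g * ((sw (w01 hn) * sx (i0 hn) (i1 hn) c * (sw (w01 hn))⁻¹) *
            ((sw (w01 hn) * sY (i0 hn) a * (sw (w01 hn))⁻¹) * (sw (w01 hn) * sY (i1 hn) b * (sw (w01 hn))⁻¹))) *
            g⁻¹ := by group
      have c4 : Commute (sY (i1 hn) a) (sY (i0 hn) b) := sy_comm (fun e => (d01 hn).2 e) _ _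
      rw [e, sw_sx, sw_sy, sw_sy, w01_0, w01_1, sx_symm, c4.eq, ← mul_assoc (sx (i0 hn) (i1 hn) c)]
      exact hg
  · exact key a b c ha

open Cfsg.Agent.ZN

/-- **`TypU` over `Hyp0 ι T`.** -/
theorem typU {G : Type*} [Group G] [Finite G] {ι : Sy n F →* G} {T : Subgroup G} (H : Hyp0 ι T) (hn : 3 ≤ n) :
    TypU T ι.range ((X12 hn).map ι) ((US (i0 hn) (i1 hn)).map ι) := by
  intro u hu _
  obtain ⟨a, b, ha, hb, hza, hzb⟩ := H.exists_ab hn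
  obtain ⟨A, hA, rfl⟩ := hu
  obtain ⟨g, hgN, hg⟩ := typ_US_N (Z := (zc T).comap ι) ha hb hza hzb hA
  exact ⟨ι g, H.range_le ⟨g, rfl⟩, hgN.norm, by rw [← map_inv, ← map_mul, ← map_mul]; exact hg⟩

/-- **From `φ : G₀ ≃* PSp n F` to `SpK` and `TypU`** -/
theorem exists_spKU {G : Type*} [Group G] [Finite G] {T G₀ R : Subgroup G} (hT : IsPGroup 2 T) (hn : 3 ≤ n)
    (φ : ↥G₀ ≃* PSp n F) (hTG : T ≤ normalizer (G₀ : Set G)) (hcen : centralizer (G₀ : Set G) = ⊥)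
    (hmax : ∀ P : Subgroup G, P ≤ G₀ → IsPGroup 2 P → T ⊓ G₀ ≤ P → P ≤ T) (hRT : R ≤ T ⊓ G₀)
    (hTR : T ⊓ G₀ ≤ centralizer (R : Set G)) {ρ : Fin n → ℤ} {a b : Fin n × Bool} (hab : a.1 ≠ b.1)
    (e : ee ρ = wt a + wt b) (hR : ∀ x : ↥G₀, (x : G) ∈ R ↔ ∃ t : F, φ x = eSp n F ρ t) :
    ∃ Xb Ca Cb Qa Qb Ua : Subgroup G, SpK T G₀ R Xb Ca Cb Qa Qb Ua ∧ Nat.card Ua ≤ Nat.card R ^ 3 ∧
      TypU T G₀ R Ua := by
  have hr₀ := iota_range φ
  have hcen' : ∀ c : G, (∀ A, iota φ A * c = c * iota φ A) → c = 1 := by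
    intro c hc
    have h1 : c ∈ centralizer (G₀ : Set G) := by
      rw [Subgroup.mem_centralizer_iff]
      intro g hg
      rw [SetLike.mem_coe, ← hr₀] at hg
      obtain ⟨A, rfl⟩ := hg
      exact hc A
    rwa [hcen, Subgroup.mem_bot] at h1
  obtain ⟨ι, y, hy, hιe, hr, H⟩ := exists_hyp0 (iota_inj φ) hcen' hT (by rw [hr₀]; exact hTG)
    (by rw [hr₀]; exact hmax)
  have hRι : ∀ x, x ∈ R ↔ ∃ t : F, x = iota φ (sx (cv a) (cv b) t) := by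
    intro x
    constructor
    · intro hx
      obtain ⟨t, ht⟩ := (hR ⟨x, (hRT hx).2⟩).1 hx
      refine ⟨t, ?_⟩
      rw [eSp_eq hab e] at ht
      show x = ((φ.symm (Cfsg.Agent.Omega.HOneEnd.SpIota.toP n F _) : ↥G₀) : G)
      rw [← ht, MulEquiv.symm_apply_apply]
    · rintro ⟨t, rfl⟩
      exact (hR (φ.symm (Cfsg.Agent.Omega.HOneEnd.SpIota.toP n F _))).2
        ⟨t, by rw [MulEquiv.apply_symm_apply, eSp_eq hab e]⟩
  have hrG : ι.range = G₀ := hr.trans hr₀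
  have hReq : R = (X12 hn).map ι := R_eq0 (iota_inj φ) hy hιe hr H hn (dj_cv hab) hRι
    (by rw [hrG]; exact hTR)
  have hD := spK H hn
  have hU := typU H hn
  rw [hrG, ← hReq] at hD
  rw [hrG, ← hReq] at hU
  refine ⟨_, _, _, _, _, _, hD, (card_US ι hn).trans (Nat.pow_le_pow_left ?_ 3), hU⟩
  rw [hReq]
  exact card_X12 H.inj hn

/-- the same over `EndIn` -/
theorem spKU_of_endIn {G : Type*} [Group G] [Finite G] {T G₀ U R : Subgroup G} {v : G} (h : EndIn T G₀ U R v)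
    (hn : 3 ≤ n) (φ : ↥G₀ ≃* PSp n F) {ρ : Fin n → ℤ} {a b : Fin n × Bool} (hab : a.1 ≠ b.1)
    (e : ee ρ = wt a + wt b) (hR : ∀ x : ↥G₀, (x : G) ∈ R ↔ ∃ t : F, φ x = eSp n F ρ t) :
    ∃ Xb Ca Cb Qa Qb Ua : Subgroup G, SpK T G₀ R Xb Ca Cb Qa Qb Ua ∧ Nat.card Ua ≤ Nat.card R ^ 3 ∧
      TypU T G₀ R Ua := by
  have hUT : U ≤ T := by rw [← h.S_inf]; exact inf_le_left
  refine exists_spKU h.S_two hn φ h.S_G₀ h.cent (fun P hP hP2 hle => ?_) (by rw [h.S_inf]; exact h.R_U)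
    (by rw [h.S_inf]; exact h.U_R) hab e hR
  rw [h.S_inf] at hle
  have h1 : U.relIndex P ∣ U.relIndex G₀ := by
    have := Subgroup.relIndex_mul_relIndex U P G₀ hle hP
    exact ⟨_, this.symm⟩
  have h2 : Odd (U.relIndex P) := Odd.of_dvd_nat h.odd h1
  have : Fact (Nat.Prime 2) := ⟨Nat.prime_two⟩
  have h3 : U.relIndex P = 1 := by
    obtain ⟨k, hk⟩ := hP2.index (U.subgroupOf P)
    have h4 : U.relIndex P = 2 ^ k := hk
    rw [h4] at h2 ⊢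
    rcases k with _ | k
    · rfl
    · exfalso
      rw [pow_succ] at h2
      exact (Nat.not_even_iff_odd.2 h2) (even_iff_two_dvd.2 ⟨2 ^ k, by ring⟩)
  exact (Subgroup.relIndex_eq_one.1 h3).trans hUT

/-- the same with the literal output of THEOREM ID -/
theorem spKU_of_id {W : Type*} [Group W] [Finite W] (cs : CoxeterSystem (CoxeterMatrix.B n) W) {G : Type*} [Group G]
    [Finite G] {T G₀ U R : Subgroup G} {v : G} (h : EndIn T G₀ U R v) (hn : 3 ≤ n) (φ : ↥G₀ ≃* PSp n F)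
    (hR : (R.subgroupOf G₀).map φ.toMonoidHom =
      Cfsg.Agent.Nodes.WittModel.X (KInstSp.model n F) (Cfsg.Agent.Omega.HOneEnd.TwoInst.rhoC hn)) :
    ∃ Xb Ca Cb Qa Qb Ua : Subgroup G, SpK T G₀ R Xb Ca Cb Qa Qb Ua ∧ Nat.card Ua ≤ Nat.card R ^ 3 ∧
      TypU T G₀ R Ua := by
  have : Fact (Nat.Prime 2) := ⟨Nat.prime_two⟩
  have hr := (Cfsg.Agent.Omega.HOneEnd.TwoInst.two_C (cs := cs) hn).rρ.1
  refine spKU_of_endIn h hn φ (ρ := Cfsg.Agent.Omega.HOneEnd.TwoInst.rhoC hn) (a := (⟨0, by omega⟩, true))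
    (b := (⟨1, by omega⟩, true)) (by simp) ?_ fun x => ?_
  · unfold Cfsg.Agent.Omega.HOneEnd.TwoInst.rhoC
    rw [Cfsg.Agent.Nodes.KindBC.ee_rt]
  · have h1 : (x : G) ∈ R ↔ φ x ∈ (R.subgroupOf G₀).map φ.toMonoidHom := by
      constructor
      · exact fun hx => ⟨x, mem_subgroupOf.2 hx, rfl⟩
      · rintro ⟨y, hy, e⟩
        have : y = x := φ.injective e
        rw [← this]
        exact mem_subgroupOf.1 hy
    rw [h1, hR, (Cfsg.Agent.KFacts.SysSp.sys_PSp n F cs).mem_X _ hr]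
    exact ⟨fun ⟨t, e⟩ => ⟨t, e.symm⟩, fun ⟨t, e⟩ => ⟨t, e.symm⟩⟩

end Cfsg.Agent.Omega.IId.TypUSp
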