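import Cfsg.Agent.Omega.IId.M4.IdOf
import Cfsg.Agent.Omega.IId.CvBig.TypF
import Cfsg.Agent.Omega.IId.CvBig.TypUSp

/-!
# `BigU4`, piece (T3): THEOREM ID with the K-facts over `T` and `TypU` (helper532, helper38)

* `idU : IdU`.
-/

set_option autoImplicit false
set_option linter.unusedSectionVars false

namespace Cfsg.Agent.Omega.IId.CvBig.IdU

open Cfsg
open Cfsg.Agent.Omega.HOneEnd (EndIn)
open Cfsg.Agent.Omega.IId.M4
open Cfsg.Agent.Omega.IId.Cv (TypU)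

universe u

/-- **THEOREM ID with `TypU`**, without the hypothesis on `|R|`. -/
theorem idU' (G : Type u) [Group G] [Finite G] (T G₀ U R : Subgroup G) (v : G) (h : EndIn T G₀ U R v) :
    (∃ Xb Ca Cb Qa Qb Ua : Subgroup G, SpK T G₀ R Xb Ca Cb Qa Qb Ua ∧ TypU T G₀ R Ua) ∨
      ∃ Xb Ca Cb Qa Qb Ua Ub : Subgroup G, FK T G₀ R Xb Ca Cb Qa Qb Ua Ub ∧ TypU T G₀ R Ua := by
  have hR : R ≤ G₀ := h.R_U.trans (by rw [← h.S_inf]; exact inf_le_right)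
  rcases Cfsg.Agent.Omega.HOneEnd.ThmId.thm_id h with
    ⟨F, i1, i2, i3, n, hn, φ, -, e2⟩ | ⟨K, i1, i2, i3, φ, e1, s, hs, e2⟩
  · left
    have hW : Finite (CoxeterMatrix.B n).Group := Cfsg.Agent.Nodes.TypeC.finite_W (CoxeterMatrix.B n).toCoxeterSystem
    obtain ⟨Xb, Ca, Cb, Qa, Qb, Ua, h1, -, h2⟩ :=
      Cfsg.Agent.Omega.IId.TypUSp.spKU_of_id (CoxeterMatrix.B n).toCoxeterSystem h hn φ e2
    exact ⟨Xb, Ca, Cb, Qa, Qb, Ua, h1, h2⟩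
  · right
    exact TypF.fkU_of φ h.S_two h.S_G₀ h.S_R hR h.cent (by rw [h.S_inf]; exact e1) hs e2

/-- **`IdU`.** -/
theorem idU : Cfsg.Agent.Omega.IId.Cv.IdU.{u} := fun G _ _ _ T G₀ U R v h _ => idU' G T G₀ U R v h

end Cfsg.Agent.Omega.IId.CvBig.IdU
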