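import Cfsg.Agent.Omega.IId.CvBig.SideM
import Cfsg.Agent.Omega.IId.CvBig.Bts
import Cfsg.Agent.Omega.IId.Cv.Sit

/-!
# `BigU4` (`q ≥ 4`, `T₁ ≥ T` not Sylow in `G`): the end (helper958 #21752, (T2))

`M : NatD F S P V D k`, `V_i` unmixed (`BtsK M i N`), `R = line M i`, `T₁` with `OverT M i T₁`, `D ≠ 1`, `q ≥ 4`.
The chain over `T₁` gives `G₀`, the identification `IdU` gives `X_b` (`G₀ = Sp_{2n}(q)` or `F₄(q)`).

* `norm_le_Qa`, `QL_eq` : `N_G(R) ≤ N_G(Q_a)`, `O₂(N_G(R)) = Q_a`;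
* `exists_zc_b` : `u ∈ U_a`, `u ∉ R`, `u ∈ C(X)` is conjugate in `N(G₀) ∩ N(R)` to an element of `X_b ∩ Ω₁(Z(T₁))`;
* `exists_norm_T` : an element of `Ω₁(Z(T₁))` conjugate to `r ∈ Ω₁(Z(T₁))` is so in `N_G(T₁)`;
* `killU` : `ChainT`, `IdU` give a contradiction; `bigU4_of` : the socket `BigU4 K` from `ChainT`, `IdU`, `NmBig`.
-/

set_option autoImplicit false
set_option linter.unusedSectionVars false

namespace Cfsg.Agent.Omega.IId.Cv

open Subgroup Pointwise Cfsg Cfsg.Agent.ZN Cfsg.Agent.ZN.ChoiceBase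
open Cfsg.Agent.Omega.MinPar Cfsg.Agent.Omega.Frame Cfsg.Agent.Omega.FFThm Cfsg.Agent.Omega.FrameMulti
open Cfsg.Agent.Omega.NatPair (ap NatMod)
open Cfsg.Agent.Omega.HOneEnd (EndIn)
open Cfsg.Agent.Omega.IId.M4 (FK SpK mem_other)
open Cfsg.Agent.Omega.HOne.TLift (SitT OutT)
open Cfsg.Agent.Omega.HOneQ.SylIOf (TSyl)
open Cfsg.Agent.Omega.All.HOne (Side)
open Cfsg.Agent.MinSimple

universe u

/-! ### `O₂(N_G(R)) = Q_a` -/

section QL

variable {G : Type u} [Group G]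

theorem cj_cs (g x : G) : cj g (centralizer ({x} : Set G)) = centralizer ({g * x * g⁻¹} : Set G) := by
  ext w
  rw [mem_cj_iff, mem_centralizer_singleton_iff, mem_centralizer_singleton_iff]
  constructor
  · intro h
    calc w * (g * x * g⁻¹) = g * (g⁻¹ * w * g * x) * g⁻¹ := by group
      _ = g * x * g⁻¹ * w := by rw [h]; group
  · intro h
    calc g⁻¹ * w * g * x = g⁻¹ * (w * (g * x * g⁻¹)) * g := by group
      _ = x * (g⁻¹ * w * g) := by rw [h]; group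

variable [Finite G] {T Y Ca R Qa Ua : Subgroup G}

/-- `N_G(R) ≤ N_G(Q_a)` -/
theorem norm_le_Qa (N : SylM T R) (D : Side T Y Ca R Qa Ua) (hCQ : Ca ≤ normalizer (Qa : Set G))
    (hG : IsCharacteristicTwoType G) : normalizer (R : Set G) ≤ normalizer (Qa : Set G) := by
  obtain ⟨z, -, hz, hz1⟩ := N.exists_z D
  intro g hg
  have h1 : g * z * g⁻¹ ∈ R := (mem_normalizer_iff.1 hg z).1 hz
  have h2 : g * z * g⁻¹ ≠ 1 := fun h => hz1 (by
    have e : z = g⁻¹ * (g * z * g⁻¹) * g := by group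
    rw [e, h]; group)
  have h3 := N.o2_eq D hCQ hG h1 h2
  have h4 := N.o2_eq D hCQ hG hz hz1
  rw [mem_normalizer_iff_cj]
  calc cj g Qa = cj g (o2 (centralizer ({z} : Set G))) := by rw [h4]
    _ = Qa := by rw [← ChoiceSit.o2_cj, cj_cs, h3]

/-- `O₂(N_G(R)) = Q_a` -/
theorem QL_eq (N : SylM T R) (D : Side T Y Ca R Qa Ua) (hCQ : Ca ≤ normalizer (Qa : Set G))
    (hG : IsCharacteristicTwoType G) (hc : o2 (normalizer (R : Set G)) ≤ centralizer (R : Set G)) :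
    o2 (normalizer (R : Set G)) = Qa := by
  obtain ⟨z, -, hz, hz1⟩ := N.exists_z D
  have h4 := N.o2_eq D hCQ hG hz hz1
  have hcz := N.cen_le_X D hCQ hG hz hz1
  apply le_antisymm
  · rw [← h4]
    refine VModule.le_o2 (hc.trans (centralizer_le ?_)) (VModule.o2_isPGroup _)
      (hcz.trans (VModule.le_normalizer_o2 _))
    intro w hw
    rw [Set.mem_singleton_iff] at hw
    rw [hw]; exact hz
  · have h5 : Qa ≤ centralizer ({z} : Set G) := by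
      rw [← h4]; exact VModule.o2_le _
    refine VModule.le_o2 (h5.trans hcz) ?_ (norm_le_Qa N D hCQ hG)
    rw [← h4]
    exact VModule.o2_isPGroup _

/-- A 2-subgroup of `C` is conjugate in `C` into a Sylow 2-subgroup of `C`. -/
theorem exists_cj_le_syl {C T X : Subgroup G} (hX : X ≤ C) (hTp : IsPGroup 2 T)
    (hXp : IsPGroup 2 X) (hidx : ¬ 2 ∣ T.relIndex C) : ∃ c ∈ C, cj c X ≤ T := by
  have : Fact (Nat.Prime 2) := ⟨Nat.prime_two⟩
  have hS' : IsPGroup 2 (T.subgroupOf C) := hTp.comap_of_injective C.subtype Subtype.val_injective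
  have hX' : IsPGroup 2 (X.subgroupOf C) := hXp.comap_of_injective C.subtype Subtype.val_injective
  obtain ⟨Q, hQ⟩ := hX'.exists_le_sylow
  obtain ⟨c, hc⟩ := MulAction.exists_smul_eq C Q (hS'.toSylow hidx)
  refine ⟨c, c.2, ?_⟩
  rintro _ ⟨y, hy, rfl⟩
  have h1 : (⟨y, hX hy⟩ : C) ∈ (Q : Subgroup C) := hQ (Subgroup.mem_subgroupOf.2 hy)
  have h2 : c * ⟨y, hX hy⟩ * c⁻¹ ∈ ((c • Q : Sylow 2 C) : Subgroup C) := by
    have : c * ⟨y, hX hy⟩ * c⁻¹ = (MulAut.conj c) • (⟨y, hX hy⟩ : C) := rfl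
    rw [this]
    exact Subgroup.smul_mem_pointwise_smul _ _ _ h1
  rw [hc] at h2
  exact Subgroup.mem_subgroupOf.1 h2

/-- `r, z` centralised by `T`, `T` Sylow in `C_G(r)`, `z = r^h`: `z = r^s` with `s ∈ N_G(T)`. -/
theorem exists_norm_T (hT : IsPGroup 2 T) {r z h : G}
    (hidx : ¬ 2 ∣ T.relIndex (centralizer ({r} : Set G))) (hz : T ≤ centralizer ({z} : Set G))
    (he : h * r * h⁻¹ = z) : ∃ s ∈ normalizer (T : Set G), s * r * s⁻¹ = z := by
  have h1 : cj h⁻¹ T ≤ centralizer ({r} : Set G) := by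
    have h2 := cj_mono h⁻¹ hz
    rw [cj_cs] at h2
    have e : h⁻¹ * z * h⁻¹⁻¹ = r := by rw [← he]; group
    rwa [e] at h2
  obtain ⟨c, hc, hle⟩ := exists_cj_le_syl h1 hT (hT.map _) hidx
  have h3 : cj (c * h⁻¹) T = T := by
    rw [← cj_cj]
    exact Subgroup.eq_of_le_of_card_ge hle (by rw [card_cj, card_cj])
  refine ⟨(c * h⁻¹)⁻¹, inv_mem (mem_normalizer_iff_cj.2 h3), ?_⟩
  rw [mem_centralizer_singleton_iff] at hc
  calc (c * h⁻¹)⁻¹ * r * (c * h⁻¹)⁻¹⁻¹ = h * (c⁻¹ * (r * c)) * h⁻¹ := by group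
    _ = h * r * h⁻¹ := by rw [← hc]; group
    _ = z := he

end QL

/-! ### Elements of `Ω₁(Z(T))` in `X_b` -/

section bts

variable {G : Type u} [Group G] [Finite G] {F : Type} [Field F] {V : Subgroup G} {N : NatMod F V} {o : BTwo.Pt N}

/-- `u ∈ U_a ∩ C(X)` outside `R` is conjugate to an element of `X_b ∩ Ω₁(Z(T))`. -/
theorem exists_zc_b (b : BTwo.BTS V (BTwo.pt N)) {T G₀ Xb Ua : Subgroup G}
    (zU : ∀ z ∈ T ⊓ G₀, T ⊓ G₀ ≤ centralizer ({z} : Set G) → ∃ x ∈ BTwo.pt N o, ∃ y ∈ Xb, z = x * y)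
    (mix : ∀ x ∈ BTwo.pt N o, ∀ y ∈ Xb, x ≠ 1 → y ≠ 1 →
      G₀ ⊓ centralizer ({x * y} : Set G) ≤ normalizer (BTwo.pt N o : Set G))
    (hX : BTwo.XX V (BTwo.pt N) ≤ G₀) (hT : TypU T G₀ (BTwo.pt N o) Ua) {u : G} (hu : u ∈ Ua) (hG : u ∈ G₀)
    (hc : u ∈ BTwo.CenX V (BTwo.pt N)) (hn : u ∉ BTwo.pt N o) :
    ∃ y, y * u * y⁻¹ ∈ zc T ∧ y * u * y⁻¹ ∈ Xb := by
  obtain ⟨y, hy, hyR, hz⟩ := hT u hu hn
  refine ⟨y, hz, ?_⟩
  obtain ⟨h1, h2, -⟩ := VModule.mem_zc.1 hz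
  refine mem_other zU mix ⟨h1, (mem_normalizer_iff.1 hy u).1 hG⟩ ?_
    (fun h => hn ((mem_normalizer_iff.1 hyR u).2 h)) ?_
  · rintro t ⟨ht, -⟩
    exact mem_centralizer_singleton_iff.2 (h2 t ht)
  · intro h3
    apply X_not b o
    intro x hx
    have h4 : y * x * y⁻¹ ∈ normalizer (BTwo.pt N o : Set G) := by
      apply h3
      refine mem_inf.2 ⟨(mem_normalizer_iff.1 hy x).1 (hX hx), ?_⟩
      rw [mem_centralizer_singleton_iff]
      have h5 := mem_centralizer_iff.1 hc x hx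
      calc y * x * y⁻¹ * (y * u * y⁻¹) = y * (x * u) * y⁻¹ := by group
        _ = y * u * y⁻¹ * (y * x * y⁻¹) := by rw [h5]; group
    have h6 := mul_mem (mul_mem (inv_mem hyR) h4) hyR
    have e : y⁻¹ * (y * x * y⁻¹) * y = x := by group
    rwa [e] at h6

end bts

/-! ### The end -/

section kill

variable {G : Type u} [Group G] [Finite G] {F : Type} [Field F] [Finite F] [CharP F 2] {S : Sylow 2 G}
  {P V D : Subgroup G} {k : ℕ} {M : NatD F S P V D k} {i : Fin k} {T₁ : Subgroup G}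

/-- A conjugate of `S` in `N_G(R)`: `T₁` is Sylow in `G`. -/
theorem OverT.sylow_of (h : OverT M i T₁) {g : G}
    (hle : cj g (S : Subgroup G) ≤ normalizer (NV.line M.toNatV i : Set G)) :
    ∃ S₁ : Sylow 2 G, (S₁ : Subgroup G) = T₁ := by
  obtain ⟨c, -, hc⟩ := exists_cj_le_syl hle h.two (S.isPGroup'.map _) h.syl
  obtain ⟨S₁, hS₁⟩ := h.two.exists_le_sylow
  refine ⟨S₁, (Subgroup.eq_of_le_of_card_ge hS₁ ?_).symm⟩
  have h1 : Nat.card (S₁ : Subgroup G) = Nat.card (S : Subgroup G) := by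
    have : Fact (Nat.Prime 2) := ⟨Nat.prime_two⟩
    rw [S₁.card_eq_multiplicity, S.card_eq_multiplicity]
  have h2 := card_le_of_le hc
  rw [card_cj, card_cj] at h2
  rw [h1]; exact h2

/-- `D ∩ X_b^{..}`: no element of `D#` is conjugate into `R`. -/
theorem OverT.no_D (h : OverT M i T₁) (hns : ∀ S₁ : Sylow 2 G, (S₁ : Subgroup G) ≠ T₁)
    (hcen : ∀ x ∈ NV.line M.toNatV i, x ≠ 1 →
      centralizer ({x} : Set G) ≤ normalizer (NV.line M.toNatV i : Set G)) {d g : G} (hd : d ∈ D) (hd1 : d ≠ 1)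
    (hg : g * d * g⁻¹ ∈ NV.line M.toNatV i) : False := by
  have h1 : (S : Subgroup G) ≤ centralizer ({d} : Set G) := by
    intro s hs
    rw [mem_centralizer_singleton_iff]
    exact (mem_centralizer_iff.1 (M.cD (NV.SP M hs)) d hd).symm
  have h2 := cj_mono g h1
  rw [cj_cs] at h2
  have h3 : g * d * g⁻¹ ≠ 1 := fun h => hd1 (by
    have e : d = g⁻¹ * (g * d * g⁻¹) * g := by group
    rw [e, h]; group)
  obtain ⟨S₁, hS₁⟩ := h.sylow_of (h2.trans (hcen _ hg h3))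
  exact hns S₁ hS₁

/-- **CASE `T₁` not Sylow in `G`, `q ≥ 4`: contradiction.** -/
theorem killU (hC : ChainT.{u}) (hI : IdU.{u}) (ctx : Ctx G) (hQ : ∀ l, NV.QL M l ≤ (S : Subgroup G)) (hk : 2 ≤ k)
    (hD : D ≠ ⊥) {N : NatMod F (NV.fac M.toNatV i)} (e : NV.BtsK M i N) (h : OverT M i T₁)
    (hns : ∀ S₁ : Sylow 2 G, (S₁ : Subgroup G) ≠ T₁) (h4 : 4 ≤ Nat.card F) : False := by
  have hG := M.hG
  obtain ⟨o, ho⟩ : ∃ o, BTwo.pt N o = NV.line M.toNatV i := ⟨⟨N.line ![1, 0], _, vec_one_ne, rfl⟩, e.line⟩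
  have hTR : T₁ ≤ normalizer (BTwo.pt N o : Set G) := by rw [ho]; exact h.line
  have hodd : Odd (T₁.relIndex (normalizer (BTwo.pt N o : Set G))) := by
    rw [ho, ← Nat.not_even_iff_odd, even_iff_two_dvd]
    exact h.syl
  have hX0 : BTwo.CenX (NV.fac M.toNatV i) (BTwo.pt N) ≠ ⊥ := fun h0 => hD (le_bot_iff.1 (e.cenD.trans h0.le))
  obtain ⟨G₀, U, v, O⟩ := hC G T₁ F (NV.fac M.toNatV i) N
    { ctx := ctx
      two := h.two
      le_N := h.fac
      exists_pt := ⟨o, hTR, hodd⟩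
      bts := e.bts
      four := h4
      CenX_ne := hX0 } o ⟨h.two, h.fac, hTR, hodd⟩
  have hX := O.X_le
  have hQ' : NV.QL M i ≤ G₀ := by
    have h0 := O.Q_le
    rw [ho] at h0
    exact h0
  have hR4 : 4 ≤ Nat.card (BTwo.pt N o) := by
    rw [ho, ← e.line, N.card_line vec_one_ne]
    exact h4
  have N1 : SylM T₁ (BTwo.pt N o) := by rw [ho]; exact h.sylM
  obtain ⟨d, hd1⟩ := (Subgroup.ne_bot_iff_exists_ne_one).1 hD
  have hd0 : (d : G) ≠ 1 := fun h => hd1 (Subtype.ext h)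
  obtain ⟨j, hj⟩ : ∃ j : Fin k, j ≠ i := by
    have : Nontrivial (Fin k) := Fin.nontrivial_iff_two_le.2 hk
    exact exists_ne i
  have key : ∀ {Xb Ca Qa Ua : Subgroup G}, Side T₁ (normalizer (G₀ : Set G)) Ca (BTwo.pt N o) Qa Ua →
      Ca ≤ normalizer (Qa : Set G) →
      (∀ z ∈ T₁ ⊓ G₀, T₁ ⊓ G₀ ≤ centralizer ({z} : Set G) → ∃ x ∈ BTwo.pt N o, ∃ y ∈ Xb, z = x * y) →
      (∀ x ∈ BTwo.pt N o, ∀ y ∈ Xb, x ≠ 1 → y ≠ 1 →
        G₀ ⊓ centralizer ({x * y} : Set G) ≤ normalizer (BTwo.pt N o : Set G)) →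
      TypU T₁ G₀ (BTwo.pt N o) Ua →
      (∀ s ∈ normalizer (T₁ : Set G), ∀ r ∈ BTwo.pt N o, r ≠ 1 → s * r * s⁻¹ ∈ Xb → cj s (BTwo.pt N o) = Xb) →
      False := by
    intro Xb Ca Qa Ua D1 hCQ zU mix hty hsw
    have hQa : NV.QL M i = Qa := by
      rw [← QL_eq N1 D1 hCQ hG (by rw [ho]; exact NV.o2_cent_line' M i), ho]
      rfl
    have hUa : zc (NV.QL M i) ≤ Ua := by
      rw [D1.U_eq, ← hQa]
      intro x hx
      obtain ⟨h1, h2, -⟩ := VModule.mem_zc.1 hx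
      exact ⟨h1, mem_centralizer_iff.2 fun y hy => h2 y hy⟩
    have hcen : ∀ x ∈ NV.line M.toNatV i, x ≠ 1 →
        centralizer ({x} : Set G) ≤ normalizer (NV.line M.toNatV i : Set G) := by
      rw [← ho]
      exact fun x hx h1 => N1.cen_le_X D1 hCQ hG hx h1
    obtain ⟨r, hrz, hr, hr1⟩ := N1.exists_z D1
    have hrl : r ∈ NV.line M.toNatV i := ho ▸ hr
    obtain ⟨t, ht, htj⟩ := NV.exists_trans M.toNatV (NV.SP M) i j
    have hu : t * r * t⁻¹ ∈ NV.fac M.toNatV j := by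
      rw [← htj, mem_cj_iff]
      have e1 : t⁻¹ * (t * r * t⁻¹) * t = r := by group
      rw [e1]
      exact NV.line_le _ _ hrl
    have hun : t * r * t⁻¹ ∉ BTwo.pt N o := by
      rw [ho]
      intro h0
      have h1 : t * r * t⁻¹ ∈ NV.fac M.toNatV i ⊓ NV.fac M.toNatV j := ⟨NV.line_le _ _ h0, hu⟩
      rw [NV.fac_inf M.toNatV hj.symm, mem_bot] at h1
      apply hr1
      have e1 : r = t⁻¹ * (t * r * t⁻¹) * t := by group
      rw [e1, h1]; group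
    have hul := NV.fac_le_zc M hQ hj hu
    obtain ⟨y, hyz, hyb⟩ := exists_zc_b e.bts zU mix hX hty (hUa hul) (hQ' (VModule.zc_le _ hul)) (e.cen j hj hu) hun
    have hTr : T₁ ≤ centralizer ({r} : Set G) := fun w hw =>
      mem_centralizer_singleton_iff.2 ((VModule.mem_zc.1 hrz).2.1 w hw)
    have hidx : ¬ 2 ∣ T₁.relIndex (centralizer ({r} : Set G)) := fun h2 => h.syl (h2.trans
      ⟨_, (Subgroup.relIndex_mul_relIndex T₁ _ _ hTr (hcen r hrl hr1)).symm⟩)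
    obtain ⟨s, hs, hsz⟩ := exists_norm_T h.two hidx
      (fun w hw => mem_centralizer_singleton_iff.2 ((VModule.mem_zc.1 hyz).2.1 w hw))
      (h := y * t) (show y * t * r * (y * t)⁻¹ = y * (t * r * t⁻¹) * y⁻¹ by group)
    have hXb := hsw s hs r hr hr1 (by rw [hsz]; exact hyb)
    have hdz := NV.D_le_zcQL M hQ i d.2
    have hdn : (d : G) ∉ BTwo.pt N o := by
      intro h
      rw [ho] at h
      have h1 : (d : G) ∈ V ⊓ D := ⟨NV.fac_le _ _ (NV.line_le _ _ h), d.2⟩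
      rw [M.inf, mem_bot] at h1
      exact hd0 h1
    obtain ⟨y', -, hy'⟩ := exists_zc_b e.bts zU mix hX hty (hUa hdz) (hQ' (VModule.zc_le _ hdz)) (e.cenD d.2) hdn
    rw [← hXb, mem_cj_iff] at hy'
    refine h.no_D hns hcen d.2 hd0 (g := s⁻¹ * y') ?_
    rw [← ho]
    have e1 : s⁻¹ * y' * (d : G) * (s⁻¹ * y')⁻¹ = s⁻¹ * (y' * d * y'⁻¹) * s := by group
    rw [e1]
    exact hy'
  rcases hI G hG _ G₀ U _ v O.endIn hR4 with ⟨Xb, Ca, Cb, Qa, Qb, Ua, k, ht⟩ | ⟨Xb, Ca, Cb, Qa, Qb, Ua, Ub, k, ht⟩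
  · refine key k.side_a k.C_Qa k.zU k.mix ht fun s hs r hr hr1 h5 => ?_
    exact (N1.swap_false k.side_a k.C_Qa hG hs hr hr1 h5 k.C_X k.T_C k.Q_max k.fld k.abel).elim
  · refine key k.side_a k.C_Qa k.zU k.mix ht fun s hs r hr hr1 h5 => ?_
    exact N1.swap_X k.side_a k.C_Qa hG hs hr hr1 h5 k.side_b

end kill

/-- **`BigU4`** from the chain over `T`, the identification and LEMMA NORM. -/
theorem bigU4_of {K : Cls.{u}} (hC : ChainT.{u}) (hI : IdU.{u}) (hN : NmBig.{u}) : BigU4 K := by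
  intro G _ _ S hH P F _ _ _ V D k M hk hQ hD i hu T₁ hT hns h4
  obtain ⟨N, e⟩ := NV.bts_big M hQ (hN G S P F V D k M hQ i hu h4) hu
  exact killU hC hI hH.toHyp.ctx hQ (by omega) hD e hT hns h4

end Cfsg.Agent.Omega.IId.Cv
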