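import Cfsg.Agent.Omega.IId.BigFour.SylFour
import Cfsg.Agent.Omega.IId.CvBig.Bts
import Cfsg.Agent.Omega.IId.CvBig.CElOf

/-!
# CvBig: `D = 1` on one side: CASE 1 there (helper468, over helper873's `BigFour/SylFour.lean`)

`L : LineD M M' i i'`, THEOREM C on both sides.

* `act_on` : `O₂(N_G(R))` acts on `V_i` as `V'_{i'}` does;
* `syl_free` : `M : NatD F S P V ⊥ k`, `2 ≤ k`: `stab M i` is a Sylow 2-subgroup of `N_G(line M i)`;
* `mix_free` : `D = 1`: mixed pairs are impossible.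
-/

set_option autoImplicit false
set_option linter.unusedSectionVars false

namespace Cfsg.Agent.Omega.IId.NV

open Subgroup Cfsg Cfsg.Agent.ZN Cfsg.Agent.ZN.ChoiceBase
open Cfsg.Agent.Omega.MinPar Cfsg.Agent.Omega.FFThm
open Cfsg.Agent.Lib.SL2Mat
open Cfsg.Agent.MinSimple
open Cfsg.Agent.Omega.NatPair (ap ap_mul ap_one)
open Cfsg.Agent.Omega.IId.Cv (LineD UnM)

universe u

variable {G : Type u} [Group G] [Finite G] {F F' : Type} [Field F] [Finite F] [CharP F 2] [Field F'] [Finite F']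
  [CharP F' 2] {S S' : Sylow 2 G} {P V D P' V' D' : Subgroup G} {k k' : ℕ}

theorem lineD_symm {M : NatD F S P V D k} {M' : NatD F' S' P' V' D' k'} {i : Fin k} {i' : Fin k'}
    (L : LineD M M' i i') : LineD M' M i' i where
  eq := by rw [Subgroup.commutator_comm, L.eq, L.eq']
  eq' := L.eq'.symm
  card := L.card.symm
  le := by rw [← L.eq']; exact L.le'
  le' := by rw [← L.eq']; exact L.le
  ne := by
    obtain ⟨v, hv, w, hw, h⟩ := L.ne
    exact ⟨w, hw, v, hv, Ne.symm h⟩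

/-- `O₂(N_G(R))` acts on `V_i` as `V'_{i'}` does. -/
theorem act_on {M : NatD F S P V D k} {M' : NatD F' S' P' V' D' k'} {i : Fin k} {i' : Fin k'}
    (L : LineD M M' i i') (hC : ∀ i, QL M i ≤ (S : Subgroup G)) (hC' : ∀ i, QL M' i ≤ (S' : Subgroup G)) {x : G}
    (hx : x ∈ QL M i) : ∃ w ∈ fac M'.toNatV i', ∀ v ∈ fac M.toNatV i, x * w * v = v * (x * w) := by
  obtain ⟨b, hb⟩ := o2_up_big M hC hx
  obtain ⟨w, hw, hwv⟩ := full_fac L hC hC' (-b)
  refine ⟨w, hw, fun v hv => ?_⟩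
  obtain ⟨h1, h2⟩ := hwv v hv
  have h3 : x * (w * v * w⁻¹) * x⁻¹ = v := by
    refine ext_fac M.toNatV ((mem_normalizer_iff.1 (stab_normalizes _ i (QL_le_stab M hC i hx)) _).1 h1) hv ?_
    rw [hb _ h1, h2, ← ap_mul, up_mul, add_neg_cancel, up_zero, ap_one]
  calc x * w * v = x * (w * v * w⁻¹) * x⁻¹ * (x * w) := by group
    _ = v * (x * w) := by rw [h3]

/-- **`D = 1`: `stab M i` is a Sylow 2-subgroup of `N_G(line M i)`.** -/
theorem syl_free {M : NatD F S P V ⊥ k} {M' : NatD F' S' P' V' D' k'} {i : Fin k} {i' : Fin k'}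
    (L : LineD M M' i i') (hC : ∀ i, QL M i ≤ (S : Subgroup G)) (hC' : ∀ i, QL M' i ≤ (S' : Subgroup G))
    (hk : 2 ≤ k) : ¬ 2 ∣ (stab M.toNatV i).relIndex (normalizer (line M.toNatV i : Set G)) := by
  have hV : V = zl (S : Subgroup G) P := by
    refine le_antisymm M.V_le fun v hv => ?_
    obtain ⟨n, hn, d, hd, rfl⟩ := M.dec v hv
    rw [mem_bot] at hd
    rw [hd, mul_one]
    exact hn
  subst hV
  let M₀ : NatK F (S : Subgroup G) P (zl (S : Subgroup G) P) ⊥ k := M.toNatV.toNatK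
  have hfac : ∀ l, IId.fac M₀ l = NV.fac M.toNatV l := fun _ => rfl
  have hline : ∀ l, IId.line M₀ l = NV.line M.toNatV l := fun _ => rfl
  have hcc : IId.CC M₀ := fun l m hml => by
    rw [hfac, hline, Subgroup.le_centralizer_iff]
    exact QL_le_cent M hC hml
  have hp : BigFour.SylPt.Ptn (IId.fac M₀ i) (IId.line M₀ i) (fac M'.toNatV i') := by
    rw [hfac, hline]
    refine ⟨?_, fun x hx => act_on L hC hC' hx, fun x hx => ?_, fun v hv hvR r hr => ?_⟩
    · intro w hw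
      have h1 : w ∈ KX (line M.toNatV i) := by
        rw [L.eq']
        exact fac_le_KX_self M' hC' i' hw
      exact ⟨KX_le_centralizer _ h1, (mem_KX.1 h1).2⟩
    · refine act_on (lineD_symm L) hC' hC (x := x) ?_
      rw [L.eq'] at hx
      exact hx
    · have hu1 : M.e v i 1 ≠ 0 := fun h => hvR ((mem_line _).2 ⟨hv, h⟩)
      obtain ⟨a, ha, hav⟩ := full_fac L hC hC' (M.e r i 0 / M.e v i 1)
      refine ⟨a, ha, ext_fac M.toNatV (mul_mem (hav v hv).1 (inv_mem hv)) (line_le _ _ hr) ?_⟩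
      rw [M.mul _ (hav v hv).1.1 _ (inv_mem hv.1), Pi.add_apply, (hav v hv).2, e_inv M.toNatV hv.1, Pi.neg_apply]
      apply NatPair.ext2
      · rw [Pi.add_apply, NatPair.ap_zero', Pi.neg_apply, up_00, up_01]
        field_simp
        ring
      · rw [Pi.add_apply, NatPair.ap_one', Pi.neg_apply, up_10, up_11, ((mem_line _).1 hr).2]
        ring
  have hx : BigFour.SylPt.Cx M₀ := BigFour.SylPt.Cx.of_ptn M.hG M.star hcc hp
  have : Nontrivial (Fin k) := Fin.nontrivial_iff_two_le.2 hk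
  exact BigFour.SylFour.syl hx (exists_ne i)

/-- **`D = 1`: mixed pairs are impossible.** -/
theorem mix_free {M : NatD F S P V ⊥ k} {M' : NatD F' S' P' V' D' k'} {i : Fin k} {i' : Fin k'}
    (L : LineD M M' i i') (hC : ∀ i, QL M i ≤ (S : Subgroup G)) (hC' : ∀ i, QL M' i ≤ (S' : Subgroup G))
    (hu : ¬ UnM M i) (hu' : ¬ UnM M' i') (hk : 2 ≤ k) : False :=
  mixK_end L hC hC' hu hu' hk (S.isPGroup'.to_le (stab_le _ _)) (stab_normalizes _ i)
    (stab_normalizes_line M.toNatV (SP M) i) (syl_free L hC hC' hk)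

end Cfsg.Agent.Omega.IId.NV
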