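import Cfsg.Agent.Omega.IId.CvBig.CElOf
import Cfsg.Agent.Omega.IId.Cv.MixEnd
import Cfsg.Agent.Omega.IId.Cv.Center
import Cfsg.Agent.Omega.MixOne.OrbitD

/-!
# CvBig, mixed pairs, `k' = 1`, `D' ≠ 1`, `q ≥ 4`: impossible (LEMMA ONE; helper19, bb OMEGA #23393)

`L : LineD M M' i i'`, `M : NatD F S P V D 1`, `V_i`, `V'_{i'}` mixed, `|F| ≥ 4`, `D ≠ 1`; `M'` arbitrary.

* `exists_tor_P` : `P ∩ N_G(R)` is transitive on `R - 1` and centralises `D`, `k = 1`;
* `oneD_false`, `oneD_false'` : the contradiction.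
-/

set_option autoImplicit false
set_option linter.unusedSectionVars false

namespace Cfsg.Agent.Omega.IId.NV

open Subgroup Cfsg Cfsg.Agent.Lib.SL2Mat Cfsg.Agent.MinSimple
open Cfsg.Agent.ZN (o2 zc zl)
open Cfsg.Agent.Omega.MinPar Cfsg.Agent.Omega.FFThm
open Cfsg.Agent.Omega.BTwo (cj mem_cj cj_mono cj_eq_self_iff conj_mem_cj QQ card_cj mem_normalizer_of_conj)
open Cfsg.Agent.Omega.Mix
open Cfsg.Agent.Omega.MixOne (SideW)
open Cfsg.Agent.Omega.NatPair (ap ap_zero' ap_one' ext2)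
open Cfsg.Agent.Omega.IId.M4 (toRMod toRMod_line nmG exists_cj_eq LL_comm mem_nmG)
open Cfsg.Agent.Omega.IId.FourSide (vec_ne)
open Cfsg.Agent.Omega.IId.Cv (LineD UnM)
open Cfsg.Agent.Omega.IId.MQ (MixedQ)

universe u

variable {G : Type u} [Group G] [Finite G] {F F' : Type} [Field F] [Finite F] [CharP F 2] [Field F'] [Finite F']
  [CharP F' 2] {S S' : Sylow 2 G} {P V D P' V' D' : Subgroup G} {k k' : ℕ}

/-- the torus of `P` is transitive on `line M i - 1`, centralises `D` -/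
theorem exists_tor_P (M : NatD F S P V D k) (i : Fin k) {r r' : G} (hr : r ∈ line M.toNatV i) (hr1 : r ≠ 1)
    (hr' : r' ∈ line M.toNatV i) (hr1' : r' ≠ 1) :
    ∃ t ∈ P, t ∈ normalizer (line M.toNatV i : Set G) ∧ t * r * t⁻¹ = r' := by
  have hne : ∀ {x : G}, x ∈ line M.toNatV i → x ≠ 1 → M.e x i 0 ≠ 0 := by
    intro x hx hx1 h0
    obtain ⟨h1, h2⟩ := (mem_line _).1 hx
    exact hx1 ((fac_eq_one M.toNatV h1).1 (ext2 h0 h2))
  have h0 := hne hr hr1
  have h0' := hne hr' hr1'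
  have hc : M.e r' i 0 / M.e r i 0 ≠ 0 := div_ne_zero h0' h0
  obtain ⟨t, ht, hta⟩ := exists_lift M.toNatV i (dg _ hc)
  have hfac : ∀ x ∈ fac M.toNatV i, t * x * t⁻¹ ∈ fac M.toNatV i := fun x hx =>
    (mem_normalizer_iff.1 (grp_normalizes M.toNatV {i} {i} ht) x).1 hx
  refine ⟨t, grp_le _ _ ht, Cfsg.Agent.Omega.IITwo.Count.mem_norm fun x hx => ?_, ?_⟩
  · obtain ⟨h1, h2⟩ := (mem_line _).1 hx
    refine (mem_line _).2 ⟨hfac x h1, ?_⟩
    rw [hta x h1.1, ap_one', dg_10, dg_11, h2]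
    simp
  · obtain ⟨h1, h2⟩ := (mem_line _).1 hr
    obtain ⟨h1', h2'⟩ := (mem_line _).1 hr'
    refine ext_fac M.toNatV (hfac r h1) h1' ?_
    rw [hta r h1.1]
    refine ext2 ?_ ?_
    · rw [ap_zero', dg_00, dg_01, zero_mul, add_zero, div_mul_cancel₀ _ h0]
    · rw [ap_one', dg_10, dg_11, h2, h2']
      simp

/-- **LEMMA ONE.** -/
theorem oneD_false {M : NatD F S P V D 1} {M' : NatD F' S' P' V' D' k'} {i : Fin 1} {i' : Fin k'}
    (L : LineD M M' i i') (hC' : ∀ l, QL M' l ≤ (S' : Subgroup G)) (hu : ¬ UnM M i) (hu' : ¬ UnM M' i')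
    (h4 : 4 ≤ Nat.card F) (hD : D ≠ ⊥) : False := by
  have hC := hC_one M
  have hQ : o2 (normalizer (line M.toNatV i : Set G)) ≤ nmG (pre M.toNatV i) :=
    (QL_le_stab M hC i).trans (stab_le_nmG (SP M) M.toNatV i)
  have hQ' : o2 (normalizer (line M.toNatV i : Set G)) ≤ nmG (pre M'.toNatV i') := by
    rw [L.eq']
    exact (QL_le_stab M' hC' i').trans (stab_le_nmG (SP M') M'.toNatV i')
  have m := mixedQ_of' L hu hu' hQ hQ'
  have hT2 : IsPGroup 2 (S : Subgroup G) := S.isPGroup'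
  have hTR : (S : Subgroup G) ≤ normalizer (line M.toNatV i : Set G) := S_le_line M i
  have hTV : (S : Subgroup G) ≤ normalizer (fac M.toNatV i : Set G) := (SP M).trans (P_le_fac M i)
  have hTs : ¬ 2 ∣ (S : Subgroup G).relIndex (normalizer (line M.toNatV i : Set G)) :=
    MinSimple.Basic.not_dvd_relIndex S hTR
  -- `D` commutes with `O₂(N_G(R))`
  have hDQ : ∀ d ∈ D, ∀ g ∈ o2 (normalizer (line M.toNatV i : Set G)), g * d = d * g := fun d hd g hg =>
    QL_comm_D M hC hg hd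
  have htorP : ∀ r ∈ line M.toNatV i, r ≠ 1 → ∀ r' ∈ line M.toNatV i, r' ≠ 1 →
      ∃ t ∈ P, t ∈ normalizer (line M.toNatV i : Set G) ∧ t * r * t⁻¹ = r' := fun r hr hr1 r' hr' hr1' =>
    exists_tor_P M i hr hr1 hr' hr1'
  have hcR : Nat.card (line M.toNatV i) = Nat.card F := card_line _ _
  set R := line M.toNatV i with hR
  have hR1 : R = (toRMod (pre M.toNatV i)).line ![1, 0] := by rw [toRMod_line, pre_line]
  have hR2 : R = (toRMod (pre M'.toNatV i')).line ![1, 0] := by rw [toRMod_line, pre_line]; exact L.eq'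
  have s := m.symm.sideW
  have hm : RMutual (fac M.toNatV i) (fac M'.toNatV i') (nmG (pre M.toNatV i)) (nmG (pre M'.toNatV i')) :=
    ⟨L.le'.trans hQ, L.le.trans hQ', L.ne⟩
  obtain ⟨-, w, w', hq, hq', e1, e2⟩ := pair (toRMod (pre M.toNatV i)) (toRMod (pre M'.toNatV i')) hm
  have hRV : R ≤ fac M.toNatV i := line_le M.toNatV i
  have hRV' : R ≤ fac M'.toNatV i' := by
    rw [show R = _ from L.eq']
    exact line_le M'.toNatV i'
  have hinf : fac M.toNatV i ⊓ fac M'.toNatV i' = R := by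
    symm
    refine Subgroup.eq_of_le_of_card_ge (le_inf hRV hRV') ?_
    rw [e1, RMod.card_line _ hq.ne, hR1, RMod.card_line _ vec_ne]
  have hF1 : 1 < Nat.card F := Finite.one_lt_card
  have hc1 : Nat.card R < Nat.card (fac M.toNatV i) := by
    rw [hcR, card_fac, pow_two]
    nlinarith
  obtain ⟨b, hb, hbR, hbT⟩ := SideOf.exists_fixed_mod (A := R) (B := fac M.toNatV i) (T := (S : Subgroup G))
    (fun h => absurd (Subgroup.card_le_of_le h) (not_le.2 hc1))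
    (fun v hv => mem_normalizer_of_conj fun r hr => by
      have h1 : v * r = r * v := (toRMod (pre M.toNatV i)).comm hv (hRV hr)
      rw [h1, mul_inv_cancel_right]; exact hr)
    (SideOf.isPGroup_of_sq fun x hx => (toRMod (pre M.toNatV i)).sq hx) hT2 hTR hTV
  have hbV : ¬ ∀ v ∈ fac M'.toNatV i', b * v = v * b := by
    intro h
    apply hbR
    rw [← hinf, e1, ← hq.cent]
    exact ⟨mem_centralizer_iff.2 fun v hv => (h v hv).symm, hb⟩
  let i₀ : Pt (toRMod (pre M'.toNatV i')) := ⟨R, ![1, 0], vec_ne, hR2⟩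
  have hX := m.symm.atR vec_ne hR2
  obtain ⟨d, hd, hd1⟩ := (Subgroup.bot_or_exists_ne_one D).resolve_left hD
  -- (1), (2)
  have hdD := s.mem_D_of_tor (o := i₀) hT2 hTR hTs (b := b) (V_le_LL _ _ hb) hbV (fun t ht => by
      have e : b * t * b⁻¹ * t⁻¹ = (t * b * t⁻¹ * b⁻¹)⁻¹ := by group
      rw [e]
      exact inv_mem (hbT t ht))
    (by change 2 < Nat.card R; omega)
    (by
      change 2 ∣ Nat.card R
      obtain ⟨n, hn⟩ := IsPGroup.iff_card.1 (m.R_pGroup)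
      rw [hn] at hcR ⊢
      refine dvd_pow_self 2 ?_
      rintro rfl
      rw [pow_zero] at hcR
      omega)
    (fun r hr hr1 r' hr' hr1' => hX.exists_torus_move hr hr1 hr' hr1') (d := d)
    (by
      rw [mem_YY]
      exact ⟨fun g hg => (hDQ d hd g (m.C_le_QQ hg)).symm, fun g hg => (hDQ d hd g (m.symm.C_le_QQ hg)).symm⟩)
    (fun t ht => D_comm M (SP M ht) hd)
    (fun r hr hr1 r' hr' hr1' => by
      obtain ⟨t, ht, htN, e⟩ := htorP r hr hr1 r' hr' hr1'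
      exact ⟨t, D_comm M ht hd, htN, e⟩)
  -- (3)
  obtain ⟨j, hj, -⟩ := s.third i₀ i₀
  obtain ⟨n, -, -, x, hx, ex⟩ := s.trans_B i₀ j
  have hxd : x * d = d * x := (Cfsg.Agent.Omega.MixOne.SideW.D_comm hdD n x hx).symm
  have hcent : ∀ u ∈ fac M'.toNatV i', (∀ v ∈ fac M.toNatV i, v * u = u * v) → u ∈ R := by
    intro u hu' h
    rw [← hinf, inf_comm, inf_comm, e2, ← hq'.cent]
    exact ⟨mem_centralizer_iff.2 h, hu'⟩
  have hxV : x ∈ normalizer (fac M'.toNatV i' : Set G) := s.B_NV n hx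
  -- `y = x v x⁻¹` centralises `R`
  have hy : ∀ v ∈ fac M.toNatV i, ∀ r ∈ R, x * v * x⁻¹ * r = r * (x * v * x⁻¹) := by
    intro v hv r hr
    have hyB : x * v * x⁻¹ ∈ LL (fac M.toNatV i) R (pt (toRMod (pre M'.toNatV i')) j) := by
      have h1 : x * v * x⁻¹ ∈ cj x (LL (fac M.toNatV i) R (pt (toRMod (pre M'.toNatV i')) i₀)) :=
        conj_mem_cj (V_le_LL _ _ hv)
      rwa [s.cB x i₀ j ex] at h1
    have hrV : r ∈ fac M'.toNatV i' := hRV' hr
    have h1 := s.CB j r (s.V_C j hrV) _ hyB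
    have hyV := s.B_NV j hyB
    -- `y r y⁻¹ ∈ R`
    have h2 : x * v * x⁻¹ * r * (x * v * x⁻¹)⁻¹ ∈ R := by
      refine hcent _ ((mem_normalizer_iff.1 hyV r).1 hrV) fun w hw => ?_
      have h3 := comm_of_D M hd hd1 hxd (M.V_le (fac_le _ _ hw)) (M.V_le (fac_le _ _ hv))
      have h4 : w * r = r * w := (toRMod (pre M.toNatV i)).comm hw (hRV hr)
      have h5 : w * (x * v * x⁻¹)⁻¹ = (x * v * x⁻¹)⁻¹ * w := (show Commute w (x * v * x⁻¹) from h3).inv_right
      calc w * (x * v * x⁻¹ * r * (x * v * x⁻¹)⁻¹) = w * (x * v * x⁻¹) * r * (x * v * x⁻¹)⁻¹ := by group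
        _ = x * v * x⁻¹ * (w * r) * (x * v * x⁻¹)⁻¹ := by rw [h3]; group
        _ = x * v * x⁻¹ * r * (w * (x * v * x⁻¹)⁻¹) := by rw [h4]; group
        _ = x * v * x⁻¹ * r * (x * v * x⁻¹)⁻¹ * w := by rw [h5]; group
    have h3 : r * (x * v * x⁻¹) * r⁻¹ * (x * v * x⁻¹)⁻¹ ∈ R := by
      have e : r * (x * v * x⁻¹) * r⁻¹ * (x * v * x⁻¹)⁻¹ = r * (x * v * x⁻¹ * r * (x * v * x⁻¹)⁻¹)⁻¹ := by group
      rw [e]
      exact mul_mem hr (inv_mem h2)
    have h4 : r * (x * v * x⁻¹) * r⁻¹ * (x * v * x⁻¹)⁻¹ ∈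
        pt (toRMod (pre M'.toNatV i')) i₀ ⊓ pt (toRMod (pre M'.toNatV i')) j := ⟨h3, h1⟩
    rw [s.R_inf i₀ j (Ne.symm hj), mem_bot] at h4
    calc x * v * x⁻¹ * r = (r * (x * v * x⁻¹) * r⁻¹ * (x * v * x⁻¹)⁻¹) * (x * v * x⁻¹ * r) := by rw [h4, one_mul]
      _ = r * (x * v * x⁻¹) := by group
  -- so `R ≤ R^x`
  have hle : R ≤ cj x R := by
    intro r hr
    rw [mem_cj]
    refine hcent _ ?_ fun v hv => ?_
    · have := (mem_normalizer_iff.1 (inv_mem hxV) r).1 (hRV' hr)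
      rwa [inv_inv] at this
    · have h1 := hy v hv r hr
      calc v * (x⁻¹ * r * x) = x⁻¹ * (x * v * x⁻¹ * r) * x := by group
        _ = x⁻¹ * (r * (x * v * x⁻¹)) * x := by rw [h1]
        _ = x⁻¹ * r * x * v := by group
  have h5 : pt (toRMod (pre M'.toNatV i')) i₀ ≤ pt (toRMod (pre M'.toNatV i')) j := by
    have h6 : cj x R = pt (toRMod (pre M'.toNatV i')) j := ex
    rw [← h6]
    exact hle
  apply s.R_ne i₀
  rw [← s.R_inf i₀ j (Ne.symm hj), inf_eq_left.2 h5]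

/-- `M'` with one factor -/
theorem oneD_false' {M : NatD F S P V D k} {M' : NatD F' S' P' V' D' 1} {i : Fin k} {i' : Fin 1}
    (L : LineD M M' i i') (hC : ∀ l, QL M l ≤ (S : Subgroup G)) (hu : ¬ UnM M i) (hu' : ¬ UnM M' i')
    (h4 : 4 ≤ Nat.card F) (hD' : D' ≠ ⊥) : False :=
  oneD_false (M := M') (M' := M)
    { eq := by rw [commutator_comm, L.eq, L.eq']
      eq' := L.eq'.symm
      card := L.card.symm
      le := by rw [← L.eq']; exact L.le'
      le' := by rw [← L.eq']; exact L.le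
      ne := by
        obtain ⟨v, hv, w, hw, h⟩ := L.ne
        exact ⟨w, hw, v, hv, Ne.symm h⟩ } hC hu' hu (by rw [L.card]; exact h4) hD'

end Cfsg.Agent.Omega.IId.NV
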