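import Cfsg.Agent.Omega.IId.CvBig.SylFree
import Cfsg.Agent.Omega.IId.Cv.NatMod

/-!
# CvBig, mixed pairs: `N_G(V_i)` is semilinear or `O₂(C_G(r))` centralises `V_i` (helper468)

* `el_le_S` : `O₂(C_G(r)) ≤ stab M i` for an element `1 ≠ r ∈ line M i` centralised by `stab M i`;
* `nm_or_cent` : `N_G(V_i)` normalises the `SL₂(F)`, or `O₂(C_G(r))` centralises `V_i` for all `1 ≠ r ∈ V_i`;
* `nm_or` : for a mixed pair: the first for `V_i` or for `V'_{i'}`.
-/

set_option autoImplicit false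
set_option linter.unusedSectionVars false

namespace Cfsg.Agent.Omega.IId.NV

open Subgroup Cfsg Cfsg.Agent.ZN Cfsg.Agent.ZN.ChoiceBase
open Cfsg.Agent.Omega.MinPar Cfsg.Agent.Omega.FFThm
open Cfsg.Agent.Lib.SL2Mat
open Cfsg.Agent.MinSimple
open Cfsg.Agent.Omega.NatPair (ap ap_mul ap_one PreMod)
open Cfsg.Agent.MinSimple.VModule (zc_le zc_comm zc_sq zc_le_zl o2_isPGroup normalizer_le_normalizer_zc)
open Cfsg.Agent.Omega.IId.Cv (LineD UnM)

universe u

section one

variable {G : Type u} [Group G] [Finite G] {F : Type} [Field F] [Finite F] [CharP F 2] {S : Sylow 2 G}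
  {P V D : Subgroup G} {k : ℕ} {M : NatD F S P V D k} (hC : ∀ i, QL M i ≤ (S : Subgroup G))

/-- conjugates of `O₂(C_G(z))` -/
theorem o2_cent_conj {z t : G} : o2 (centralizer ({t * z * t⁻¹} : Set G)) = cj t (o2 (centralizer ({z} : Set G))) := by
  have hcz : centralizer ({t * z * t⁻¹} : Set G) = cj t (centralizer ({z} : Set G)) := by
    ext x
    rw [mem_cj, mem_centralizer_singleton_iff, mem_centralizer_singleton_iff]
    constructor
    · intro h
      calc t⁻¹ * x * t * z = t⁻¹ * (x * (t * z * t⁻¹)) * t := by group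
        _ = t⁻¹ * (t * z * t⁻¹ * x) * t := by rw [h]
        _ = z * (t⁻¹ * x * t) := by group
    · intro h
      calc x * (t * z * t⁻¹) = t * (t⁻¹ * x * t * z) * t⁻¹ := by group
        _ = t * (z * (t⁻¹ * x * t)) * t⁻¹ := by rw [h]
        _ = t * z * t⁻¹ * x := by group
  rw [hcz, ChoiceBase.pCore_cj]

include hC

/-- **`N_G(V_i)` normalises the `SL₂(F)`, or `O₂(C_G(r))` centralises `V_i`.** -/
theorem nm_or_cent (h : ∀ m, FullAt M m) (i : Fin k) :
    (∀ g ∈ normalizer (fac M.toNatV i : Set G), (pre M.toNatV i).Nm g) ∨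
      ∀ r ∈ fac M.toNatV i, r ≠ 1 → ∀ g ∈ o2 (centralizer ({r} : Set G)), ∀ v ∈ fac M.toNatV i, g * v = v * g := by
  obtain ⟨y, hy, hy1, hys⟩ := exists_zel M
  have d := eld hC h hy hy1 hys
  have hOS := d.le_S i
  set O := o2 (centralizer ({y i} : Set G)) with hO
  have hOc : O ≤ centralizer ({y i} : Set G) := VModule.o2_le _
  have hOs : O ≤ stab M.toNatV i := by
    intro o ho
    have hoP : o ∈ P := SP M (hOS ho)
    refine mem_inf.2 ⟨hOS ho, ?_⟩
    rw [mem_normalizer_fac_iff M.toNatV hoP]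
    by_contra hne
    have hc := mem_centralizer_singleton_iff.1 (hOc ho)
    have h1 : y i ∈ fac M.toNatV (sg M.toNatV hoP i) := by
      rw [← conj_fac M.toNatV hoP, mem_cj]
      have e : o⁻¹ * y i * o = y i := by
        calc o⁻¹ * y i * o = o⁻¹ * (y i * o) := by group
          _ = y i := by rw [← hc]; group
      rw [e]; exact hy i
    have h2 : y i ∈ fac M.toNatV (sg M.toNatV hoP i) ⊓ fac M.toNatV i := ⟨h1, hy i⟩
    rw [fac_inf M.toNatV hne, mem_bot] at h2
    exact hy1 i h2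
  by_cases hcen : O ≤ centralizer (fac M.toNatV i : Set G)
  · right
    intro r hr hr1 g hg v hv
    obtain ⟨t, ht, e⟩ := exists_grp M.toNatV (hy i) hr (hy1 i) hr1
    rw [← e, o2_cent_conj, mem_cj] at hg
    have h1 : t⁻¹ * v * t ∈ fac M.toNatV i :=
      Cfsg.Agent.Omega.IITwo.Count.conj_mem' (grp_normalizes M.toNatV {i} {i} ht) hv
    have h2 := mem_centralizer_iff.1 (hcen hg) _ h1
    calc g * v = t * (t⁻¹ * g * t * (t⁻¹ * v * t)) * t⁻¹ := by group
      _ = t * (t⁻¹ * v * t * (t⁻¹ * g * t)) * t⁻¹ := by rw [h2]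
      _ = v * g := by group
  · left
    refine nm_of_o2 (pre M.toNatV i) (hy i) (hy1 i) (o2_isPGroup _) (hOs.trans (stab_normalizes _ i))
      (fun o ho => Nm_stab (SP M) M.toNatV i o (hOs ho)) (fun o ho => mem_centralizer_singleton_iff.1 (hOc ho))
      (fun n _ hnr => VModule.le_normalizer_o2 _ (mem_centralizer_singleton_iff.2 hnr)) hcen

end one

section two

variable {G : Type u} [Group G] [Finite G] {F F' : Type} [Field F] [Finite F] [CharP F 2] [Field F'] [Finite F']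
  [CharP F' 2] {S S' : Sylow 2 G} {P V D P' V' D' : Subgroup G} {k k' : ℕ}

/-- `O₂(C_G(r))` does not centralise both `V_i` and `V'_{i'}`. -/
theorem not_both {M : NatD F S P V D k} {M' : NatD F' S' P' V' D' k'} {i : Fin k} {i' : Fin k'}
    (L : LineD M M' i i')
    (h : ∀ r ∈ fac M.toNatV i, r ≠ 1 → ∀ g ∈ o2 (centralizer ({r} : Set G)), ∀ v ∈ fac M.toNatV i, g * v = v * g)
    (h' : ∀ r ∈ fac M'.toNatV i', r ≠ 1 → ∀ g ∈ o2 (centralizer ({r} : Set G)), ∀ v ∈ fac M'.toNatV i',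
      g * v = v * g) : False := by
  obtain ⟨r, hr, hr1⟩ := (Subgroup.bot_or_exists_ne_one (line M.toNatV i)).resolve_left
    (line_ne_bot' (M := M.toNatV) i)
  have hrf := line_le _ _ hr
  have hrf' : r ∈ fac M'.toNatV i' := by
    rw [L.eq'] at hr
    exact line_le _ _ hr
  obtain ⟨v, hv, w, hw, hne⟩ := L.ne
  have hr2 : r ^ 2 = 1 := by
    rw [pow_two]
    exact NV.sq M.toNatV hrf.1
  have hch := MinSimple.Basic.char2_centralizer M.hG hr2 hr1
  have h1 : v ∈ o2 (centralizer ({r} : Set G)) := hch (mem_inf.2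
    ⟨mem_centralizer_singleton_iff.2 (NV.comm M.toNatV hv.1 hrf.1),
      mem_centralizer_iff.2 fun y hy => h r hrf hr1 y hy v hv⟩)
  exact hne (h' r hrf' hr1 v h1 w hw)

/-- **For a mixed pair, `N_G(V_i)` or `N_G(V'_{i'})` is semilinear.** -/
theorem nm_or {M : NatD F S P V D k} {M' : NatD F' S' P' V' D' k'} {i : Fin k} {i' : Fin k'}
    (L : LineD M M' i i') (hC : ∀ i, QL M i ≤ (S : Subgroup G)) (hC' : ∀ i, QL M' i ≤ (S' : Subgroup G))
    (hu : ¬ UnM M i) (hu' : ¬ UnM M' i') :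
    (∀ g ∈ normalizer (fac M.toNatV i : Set G), (pre M.toNatV i).Nm g) ∨
      ∀ g ∈ normalizer (fac M'.toNatV i' : Set G), (pre M'.toNatV i').Nm g := by
  rcases nm_or_cent hC (fun m => (fullAt_of L hC hC' hu).all m) i with h | h
  · exact Or.inl h
  · rcases nm_or_cent hC' (fun m => (fullAt_of (lineD_symm L) hC' hC hu').all m) i' with h' | h'
    · exact Or.inr h'
    · exact (not_both L h h').elim

end two

end Cfsg.Agent.Omega.IId.NV
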