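import Cfsg.Agent.Omega.IId.CvBig.Over

/-!
# CvBig, `q = 2`: the points of `V_i` over a 2-group `T ≥ stab M i` (helper437)

* `SitT.exists_btsT`, `SitT.exists_insT` : `InsT M i T (pt N) o`.
-/

set_option autoImplicit false
set_option linter.unusedSectionVars false

namespace Cfsg.Agent.Omega.IId.NV.BigD

open Subgroup Pointwise Cfsg Cfsg.Agent.ZN Cfsg.Agent.ZN.ChoiceBase
open Cfsg.Agent.Omega.MinPar Cfsg.Agent.Omega.FFThm
open Cfsg.Agent.MinSimple.VModule (o2_isPGroup)
open Cfsg.Agent.Omega.IId.NV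
open Cfsg.Agent.Omega.IId.Big (Fr Vo conj_mem norm_of comm_of_conj conj_of_comm isPGroup_of_sq le_Vo Vo_le
  cent_of_closure KK_le_XX XX_le)
open Triangle (KK KK_conj KK_le_o2 mem_cent mem_KK mem_zpowers_iff_of_sq cent_conj o2_cent_conj)
open Cfsg.Agent.Omega.BTwo (BT BTS WW QQ CenX pt)
open Cfsg.Agent.Omega.NatPair (NatMod PreMod)

universe u

variable {G : Type u} [Group G] [Finite G] {F : Type} [Field F] [Finite F] [CharP F 2] {S : Sylow 2 G}
  {P V D : Subgroup G} {k : ℕ} {M : NatD F S P V D k}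

/-- **The entry to `BTS`** over `T`. -/
theorem SitT.exists_btsT {i : Fin k} {T : Subgroup G} (h : SitT M i T) :
    ∃ N : NatMod F (fac M.toNatV i), N.line ![1, 0] = line M.toNatV i ∧
      BTS (fac M.toNatV i) (BTwo.pt N) := by
  obtain ⟨v₀, hv₀, hv₀1⟩ := exists_line M i
  obtain ⟨c, hc, hne⟩ := h.unm
  have hall := nm_two (pre M.toNatV i) h.two
  have hNL := h.norm_line hv₀ hv₀1
  have hQT : o2 (normalizer (line M.toNatV i : Set G)) ≤ stab M.toNatV i := by
    rw [hNL]; exact h.q_T hv₀ hv₀1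
  have hVQ : fac M.toNatV i ≤ o2 (normalizer (line M.toNatV i : Set G)) := by
    rw [hNL]; exact h.fr.VQ i i v₀ (line_le _ i hv₀) hv₀1
  have hcQ : NatPair.cj c (fac M.toNatV i) ≤ ZN.o2 (normalizer (line M.toNatV i : Set G)) := by
    intro x hx
    rw [NatPair.mem_cj] at hx
    have h1 := (mem_normalizer_iff.1 (ZN.le_normalizer_o2 _ hc) _).1 (hVQ hx)
    have e : c * (c⁻¹ * x * c) * c⁻¹ = x := by group
    rwa [e] at h1
  set N : NatMod F (fac M.toNatV i) := (pre M.toNatV i).toNatMod hall with hN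
  have hline : N.line ![1, 0] = line M.toNatV i := by
    rw [← pre_line M.toNatV i]
    rfl
  have hmut : NatPair.Mutual (fac M.toNatV i) (NatPair.cj c (fac M.toNatV i)) := by
    refine ⟨hcQ.trans (hQT.trans (stab_normalizes _ i)), ?_, ?_⟩
    · intro x hx
      rw [NatPair.mem_normalizer_cj]
      apply stab_normalizes _ i
      apply hQT
      have := (mem_normalizer_iff.1 (inv_mem (ZN.le_normalizer_o2 _ hc)) x).1 (hVQ hx)
      rwa [inv_inv] at this
    · obtain ⟨v, hv, w, hw, hvw⟩ := hne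
      refine ⟨v, hv, _, ?_, hvw⟩
      rw [NatPair.mem_cj]
      have e : c⁻¹ * (c * w * c⁻¹) * c = w := by group
      rwa [e]
  have hinf : fac M.toNatV i ⊓ NatPair.cj c (fac M.toNatV i) = line M.toNatV i := by
    obtain ⟨-, w, w', hw, -, hl, -⟩ := NatPair.pair N (N.conj c) hmut
    have h1 : line M.toNatV i ≤ fac M.toNatV i ⊓ NatPair.cj c (fac M.toNatV i) := by
      refine le_inf (line_le _ i) fun x hx => ?_
      rw [NatPair.mem_cj]
      apply line_le _ i
      have := (mem_normalizer_iff.1 (inv_mem hc) x).1 hx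
      rwa [inv_inv] at this
    refine (Subgroup.eq_of_le_of_card_ge h1 ?_).symm
    rw [hl, N.card_line hw.ne, card_line]
  have a : BTwo.At (fac M.toNatV i) (N.line ![1, 0]) c := by
    rw [hline]
    exact ⟨hc, hmut, hinf, hVQ⟩
  have hQ₀ : BTwo.QQ (N.line ![1, 0]) ≤ normalizer (fac M.toNatV i : Set G) := by
    rw [hline]
    exact hQT.trans (stab_normalizes _ i)
  have hnl : NonLoc (normalizer (fac M.toNatV i : Set G)) (normalizer (N.line ![1, 0] : Set G)) := by
    rw [hline]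
    intro U hU hVU hRU
    by_contra h0
    have hH := MinSimple.Basic.char2_normalizer M.hG hU h0
    have h1 := h.otT (H := normalizer (U : Set G)) (h.T_fac.trans hVU)
      ((XX_V h.fr i).trans hVU) (XX_V h.fr i) fun v hv w hw hv1 hw1 => XX_trans h.fr hv hw hv1 hw1
    have hVo : fac M.toNatV i ≤ ZN.o2 (normalizer (U : Set G)) := fun x hx =>
      hH ⟨hVU (h.T_fac (h.fac_T hx)), mem_centralizer_iff.2 fun y hy =>
        (mem_centralizer_iff.1 (h1 hy) x hx).symm⟩
    obtain ⟨v, hv, w, hw, hvw⟩ := hne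
    apply hvw
    have h2 : c * w * c⁻¹ ∈ ZN.o2 (normalizer (U : Set G)) := conj_mem (ZN.le_normalizer_o2 _) (hRU hc) (hVo hw)
    exact mem_centralizer_iff.1 (h1 h2) v hv
  exact ⟨N, hline, BtsOf.bts_of_at N M.hG FourSide.vec_ne a hQ₀ hnl⟩

/-- the points of `V_i` -/
theorem SitT.exists_insT {i : Fin k} {T : Subgroup G} (h : SitT M i T) :
    ∃ (N : NatMod F (fac M.toNatV i)) (o : BTwo.Pt N), InsT M i T (pt N) o := by
  obtain ⟨N, hl, b⟩ := h.exists_btsT
  exact ⟨N, ⟨N.line ![1, 0], ![1, 0], FourSide.vec_ne, rfl⟩, { h with bts := b, ro := hl }⟩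

end Cfsg.Agent.Omega.IId.NV.BigD
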