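import Cfsg.Agent.Omega.IId.CvBig.U4Def
import Cfsg.Agent.Omega.IId.M4.Swap
import Cfsg.Agent.Omega.IId.NLFree
import Cfsg.Agent.Lib.GoldschmidtFusion

/-!
# `BigU4` (T1): `M4/SideA` + `M4/Swap` for a 2-group `T` which is Sylow in `N_G(X)` (no condition on `|S : T|`)

`D : Side T Y C X Q U`, `C ≤ N_G(Q)`, `N : SylM T X` (`T` is a 2-group, maximal among the 2-subgroups of `N_G(X)` over
`T`).

* `SylM.o2_eq_zc` : `O₂(C_G(z)) = Q` for `1 ≠ z ∈ X` centralised by `T`: with `O₀ = O ∩ N(X) = O ∩ T ≤ Q` an element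
  `w ∈ N_O(O₀) ∖ O₀` with `[w, Q] ≤ O₀ ≤ Q` normalises `Q`, hence `X`;
* `SylM.o2_eq` : `O₂(C_G(x)) = Q` for `1 ≠ x ∈ X`; `SylM.cen_le`, `SylM.cen_le_X` : `C_G(x) ≤ N_G(Q) ≤ N_G(X)`;
* `SylM.swap_norm`, `SylM.swap_le`, `SylM.swap_false`, `SylM.swap_eq`, `SylM.swap_X`, `SylM.swap_mem`, `SylM.T_Q`,
  `SylM.swap_U` : section 6 (`s ∈ N_G(T)`, `r^s ∈ X_b`), same arguments as in `M4/Swap`.
-/

set_option autoImplicit false
set_option linter.unusedSectionVars false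

namespace Cfsg.Agent.Omega.IId.Cv

open Subgroup Cfsg Cfsg.Agent.Omega.MinPar Cfsg.Agent.Omega.Frame
open Cfsg.Agent.ZN (o2 zc)
open Cfsg.Agent.ZN.ChoiceBase (cj mem_cj card_cj cj_mono cj_le_iff cj_normalizer cj_cj_inv cj_inv_cj
  cj_eq_of_mem_normalizer mem_normalizer_iff_cj)
open Cfsg.Agent.Omega.All Cfsg.Agent.Omega.All.HOne
open Cfsg.Agent.MinSimple.VModule (le_o2 mem_zc zc_le zc_comm o2_le o2_isPGroup le_normalizer_o2)
open Cfsg.Agent.MinSimple.Basic (char2_centralizer)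
open Cfsg.Agent.Omega.IId.M4 (le_of_fld cj_X conj_mem_cen)

universe u

variable {G : Type u} [Group G]

namespace SylM

section side

variable [Finite G] {T Y C X Q U : Subgroup G} (N : SylM T X) (D : Side T Y C X Q U)
  (hCQ : C ≤ normalizer (Q : Set G))

include N D

/-- an element `≠ 1` of `X` centralised by `T` -/
theorem exists_z : ∃ z ∈ zc T, z ∈ X ∧ z ≠ 1 := by
  have hf : Fact (Nat.Prime 2) := ⟨Nat.prime_two⟩
  refine exists_zc_mem N.two D.X_S D.S_X (fun x hx => ?_) D.X_ne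
  have h1 := D.X_el.2 x hx
  rwa [pow_two] at h1

omit [Finite G] D in
/-- A 2-group `O` normalised by `T ≤ N(X)`: `O ∩ N(X) = O ∩ T`. -/
theorem inf_eq (hTX : T ≤ normalizer (X : Set G)) {O : Subgroup G} (hO : IsPGroup 2 O)
    (hTO : T ≤ normalizer (O : Set G)) : O ⊓ normalizer (X : Set G) = O ⊓ T := by
  apply le_antisymm
  · have h3 : IsPGroup 2 ↥(O ⊓ normalizer (X : Set G) ⊔ T) :=
      (hO.to_le inf_le_left).to_sup_of_normal_left' N.two
        (normalizer_inf_le hTO (hTX.trans le_normalizer))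
    exact le_inf inf_le_left (le_sup_left.trans (N.max _ h3 le_sup_right (sup_le inf_le_right hTX)))
  · exact inf_le_inf le_rfl hTX

/-- A 2-group `O` normalised by `T` and `C` lies in `Q`. -/
theorem le_Q {O : Subgroup G} (hO : IsPGroup 2 O) (hTO : T ≤ normalizer (O : Set G))
    (hCO : C ≤ normalizer (O : Set G)) : O ≤ Q := by
  have hCX : C ≤ normalizer (X : Set G) := D.C_X.trans (centralizer_le_normalizer _)
  have h2 := N.inf_eq D.S_X hO hTO
  have h3 : C ≤ normalizer ((O ⊓ T : Subgroup G) : Set G) := by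
    rw [← h2]
    exact normalizer_inf_le hCO (hCX.trans le_normalizer)
  have h4 : O ⊓ T ≤ Q := le_of_fld N.two D.S_C D.Q_max D.fld inf_le_right h3
  by_cases h5 : O ≤ T
  · rwa [inf_of_le_left h5] at h4
  exfalso
  have hlt : O ⊓ T < O := lt_of_le_of_ne inf_le_left fun h => h5 (inf_eq_left.1 h)
  have hf : Fact (Nat.Prime 2) := ⟨Nat.prime_two⟩
  have hlt' := Lib.GoldschmidtFusion.lt_inf_normalizer hO hlt
  set M := O ⊓ T with hM
  set R := O ⊓ normalizer (M : Set G) with hR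
  have hQR : Q ≤ normalizer (R : Set G) := (D.Q_C.trans (normalizer_inf_le hCO (h3.trans le_normalizer)))
  have hR2 : IsPGroup 2 R := hO.to_le inf_le_left
  have hS2 : IsPGroup 2 ↥(R ⊔ Q) := hR2.to_sup_of_normal_left' (N.two.to_le D.Q_S) hQR
  obtain ⟨w, hw, hwM, hws⟩ := NLFree.exists_fix_mod (S := R ⊔ Q) (M := M) (Q := R) hS2
    (hlt'.le.trans le_sup_left) le_sup_left (sup_le inf_le_right (D.Q_C.trans h3))
    (sup_le le_normalizer hQR) (fun h => absurd hlt' (not_lt_of_ge h))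
  -- `w` normalises `Q`
  have h6 : w ∈ normalizer (Q : Set G) := by
    have key : ∀ q ∈ Q, w * q * w⁻¹ ∈ Q := by
      intro q hq
      have h7 := h4 (hws q⁻¹ (mem_sup_right (inv_mem hq)))
      have e2 : q * (q⁻¹ * w * q⁻¹⁻¹ * w⁻¹) = w * q * w⁻¹ := by group
      rw [← e2]
      exact mul_mem hq h7
    have key2 : cj w Q ≤ Q := by
      rintro _ ⟨q, hq, rfl⟩
      exact key q hq
    rw [mem_normalizer_iff_cj]
    exact (eq_of_le_of_card_ge key2 (card_cj w Q).ge)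
  exact hwM (h2 ▸ mem_inf.2 ⟨hw.1, D.norm_Q_le h6⟩)

include hCQ

/-- **(A)** for an element centralised by `T`. -/
theorem o2_eq_zc (hc : IsCharacteristicTwoType G) {z : G} (hz : ∀ t ∈ T, t * z = z * t) (hX : z ∈ X)
    (h1 : z ≠ 1) : o2 (centralizer ({z} : Set G)) = Q := by
  have hHO := le_normalizer_o2 (centralizer ({z} : Set G))
  have hTH : T ≤ centralizer ({z} : Set G) := fun t ht => mem_centralizer_singleton_iff.2 (hz t ht)
  have hC : C ≤ centralizer ({z} : Set G) := D.C_X.trans (centralizer_le (by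
    intro w hw
    rw [Set.mem_singleton_iff] at hw
    rw [hw]; exact hX))
  have h7 := N.le_Q D (o2_isPGroup _) (hTH.trans hHO) (hC.trans hHO)
  refine D.irr _ h7 (hC.trans hHO) ?_
  exact le_trans (inf_le_inf (D.Q_C.trans hC) le_rfl) (char2_centralizer hc (by
    have := D.X_el.2 z hX
    rwa [pow_two] at this ⊢) h1)

/-- **(A)**: `O₂(C_G(x)) = Q` for `1 ≠ x ∈ X`. -/
theorem o2_eq (hc : IsCharacteristicTwoType G) {x : G} (hx : x ∈ X) (h1 : x ≠ 1) :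
    o2 (centralizer ({x} : Set G)) = Q := by
  obtain ⟨z, hz, hX, hz1⟩ := N.exists_z D
  obtain ⟨y, hy, h2, h3, h4⟩ := D.trans x hx z hX h1 hz1
  have h7 := N.o2_eq_zc D hCQ hc (fun t ht => (mem_zc.1 hz).2.1 t ht) hX hz1
  rw [← h4] at h7
  have key : ∀ (a g : G), (o2 (centralizer ({a} : Set G))).map (MulAut.conj g).toMonoidHom ≤
      o2 (centralizer ({g * a * g⁻¹} : Set G)) := by
    intro a g
    refine le_o2 ?_ ((o2_isPGroup _).map _) ?_
    · rintro _ ⟨w, hw, rfl⟩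
      exact normalizer_centralizer_singleton w (o2_le _ hw)
    · refine le_normalizer_of fun l hl w hw => ?_
      obtain ⟨v, hv, rfl⟩ := hw
      have h8 : g⁻¹ * l * g ∈ centralizer ({a} : Set G) := by
        have := normalizer_centralizer_singleton (g := g⁻¹) l hl
        have e : g⁻¹ * (g * a * g⁻¹) * g⁻¹⁻¹ = a := by group
        rwa [e, inv_inv] at this
      refine ⟨_, conj_mem_of_normalizer (le_normalizer_o2 _ h8) hv, ?_⟩
      show g * ((g⁻¹ * l * g) * v * (g⁻¹ * l * g)⁻¹) * g⁻¹ = l * (g * v * g⁻¹) * l⁻¹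
      group
  apply le_antisymm
  · intro w hw
    have h8 := key x y ⟨w, hw, rfl⟩
    rw [h7] at h8
    have h9 := conj_mem_of_normalizer' h3 h8
    have e : y⁻¹ * ((MulAut.conj y).toMonoidHom w) * y = w := by
      show y⁻¹ * (y * w * y⁻¹) * y = w
      group
    rwa [e] at h9
  · intro w hw
    have h8 := conj_mem_of_normalizer h3 hw
    rw [← h7] at h8
    have h9 := key (y * x * y⁻¹) y⁻¹ ⟨_, h8, rfl⟩
    have e : y⁻¹ * (y * x * y⁻¹) * y⁻¹⁻¹ = x := by group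
    rw [e] at h9
    have e2 : (MulAut.conj y⁻¹).toMonoidHom (y * w * y⁻¹) = w := by
      show y⁻¹ * (y * w * y⁻¹) * y⁻¹⁻¹ = w
      group
    rwa [e2] at h9

/-- **(A)**: `C_G(x) ≤ N_G(Q)` for `1 ≠ x ∈ X`. -/
theorem cen_le (hc : IsCharacteristicTwoType G) {x : G} (hx : x ∈ X) (h1 : x ≠ 1) :
    centralizer ({x} : Set G) ≤ normalizer (Q : Set G) := by
  rw [← N.o2_eq D hCQ hc hx h1]
  exact le_normalizer_o2 _

/-- **(A)**: `C_G(x) ≤ N_G(X)` for `1 ≠ x ∈ X`. -/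
theorem cen_le_X (hc : IsCharacteristicTwoType G) {x : G} (hx : x ∈ X) (h1 : x ≠ 1) :
    centralizer ({x} : Set G) ≤ normalizer (X : Set G) := (N.cen_le D hCQ hc hx h1).trans D.norm_Q_le

end side

section swap

variable [Finite G] {T Y Ca Xa Qa Ua : Subgroup G} (N : SylM T Xa)
  (D : Side T Y Ca Xa Qa Ua) (hCQ : Ca ≤ normalizer (Qa : Set G)) (hG : IsCharacteristicTwoType G)
  {s r : G} (hs : s ∈ normalizer (T : Set G)) (hr : r ∈ Xa) (hr1 : r ≠ 1) {Cb Xb Qb : Subgroup G}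
  (hrb : s * r * s⁻¹ ∈ Xb) (hCX : Cb ≤ centralizer (Xb : Set G))

include N D hCQ hG hr hr1 hrb hCX in
/-- `C_b` normalises `Q_a^s` -/
theorem swap_norm : Cb ≤ normalizer ((cj s Qa : Subgroup G) : Set G) := by
  refine le_normalizer_of fun c hc x hx => ?_
  rw [mem_cj] at hx ⊢
  have h1 := N.cen_le D hCQ hG hr hr1 (conj_mem_cen hrb hCX hc)
  have h2 := conj_mem_of_normalizer h1 hx
  have e : s⁻¹ * c * s * (s⁻¹ * x * s) * (s⁻¹ * c * s)⁻¹ = s⁻¹ * (c * x * c⁻¹) * s := by group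
  rwa [e] at h2

include N D hCQ hG hs hr hr1 hrb hCX in
/-- **(2)** `Q_a^s ≤ Q_b` -/
theorem swap_le (hTC : T ≤ normalizer (Cb : Set G))
    (hmax : ∀ K : Subgroup G, IsPGroup 2 K → K ≤ Cb → Cb ≤ normalizer (K : Set G) → K ≤ Qb)
    (hfld : ∀ t ∈ T, (∀ c ∈ Cb, t * c * t⁻¹ * c⁻¹ ∈ Qb) → t ∈ Qb) : cj s Qa ≤ Qb := by
  refine le_of_fld N.two hTC hmax hfld ?_ (swap_norm N D hCQ hG hr hr1 hrb hCX)
  have h1 := cj_mono s D.Q_S
  rwa [cj_eq_of_mem_normalizer hs] at h1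

include N D hCQ hG hs hr hr1 hrb hCX in
/-- `Q_b` is not abelian: the end for `Sp_{2n}(q)`. -/
theorem swap_false (hTC : T ≤ normalizer (Cb : Set G))
    (hmax : ∀ K : Subgroup G, IsPGroup 2 K → K ≤ Cb → Cb ≤ normalizer (K : Set G) → K ≤ Qb)
    (hfld : ∀ t ∈ T, (∀ c ∈ Cb, t * c * t⁻¹ * c⁻¹ ∈ Qb) → t ∈ Qb)
    (hab : Qb ≤ centralizer (Qb : Set G)) : False := by
  have h1 := swap_le N D hCQ hG hs hr hr1 hrb hCX hTC hmax hfld
  have h2 : cj s Xa = ⊥ := by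
    rw [cj_X D s, commutator_eq_bot_iff_le_centralizer]
    exact h1.trans (hab.trans (centralizer_le h1))
  apply D.X_ne
  rw [← cj_inv_cj s Xa, h2]
  exact Subgroup.map_bot _

variable {Ub : Subgroup G} (Db : Side T Y Cb Xb Qb Ub)

include N D hCQ hG hs hr hr1 hrb Db in
/-- **(3)** `Q_a^s = Q_b` -/
theorem swap_eq : cj s Qa = Qb := by
  have h1 := swap_le N D hCQ hG hs hr hr1 hrb Db.C_X Db.S_C Db.Q_max Db.fld
  refine Db.irr _ h1 (swap_norm N D hCQ hG hr hr1 hrb Db.C_X) ?_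
  rintro x ⟨hx, hx1⟩
  rw [mem_cj]
  have h2 := conj_mem_cen hrb Db.C_X (Db.Q_C hx)
  have h3 := char2_centralizer hG (by
    have := D.X_el.2 r hr
    rwa [pow_two] at this ⊢) hr1
  rw [N.o2_eq D hCQ hG hr hr1] at h3
  refine h3 ⟨h2, mem_centralizer_iff.2 fun y hy => ?_⟩
  have h4 := mem_centralizer_iff.1 hx1 (s * y * s⁻¹) (by
    rw [SetLike.mem_coe, mem_cj]
    have e : s⁻¹ * (s * y * s⁻¹) * s = y := by group
    rw [e]; exact hy)
  calc y * (s⁻¹ * x * s) = s⁻¹ * (s * y * s⁻¹ * x) * s := by group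
    _ = s⁻¹ * x * s * y := by rw [h4]; group

include N D hCQ hG hs hr hr1 hrb Db in
/-- **(3)** `X_a^s = X_b` -/
theorem swap_X : cj s Xa = Xb := by
  rw [cj_X D s, swap_eq N D hCQ hG hs hr hr1 hrb Db, Db.comm]

include N D hCQ hG hs hr hr1 hrb Db in
/-- **(4)** `s ∈ N_G(G₀)` -/
theorem swap_mem {G₀ W X₁ L₁ : Subgroup G} (hsimple : IsSimpleGroup ↥G₀)
    (hN : normalizer (Xa : Set G) ≤ normalizer (G₀ : Set G))
    (hmax : ∀ M ≤ G₀, G₀ ⊓ normalizer (Xb : Set G) < M → M = G₀) (hCa : Ca ≤ G₀) (hCb : Cb ≤ G₀)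
    (hX₁ : X₁ ≤ G₀) (hX₁n : ¬ X₁ ≤ normalizer (Xa : Set G))
    (hgen : ∀ K : Subgroup G, W ≤ K → L₁ ≤ normalizer (K : Set G) → X₁ ≤ K) (hW : W ≤ Qa)
    (hL : cj s L₁ ≤ normalizer (G₀ : Set G)) : s ∈ normalizer (G₀ : Set G) := by
  have hQ := swap_eq N D hCQ hG hs hr hr1 hrb Db
  have hX := swap_X N D hCQ hG hs hr hr1 hrb Db
  -- `X₁^s ≤ G₀`
  have h1 : cj s X₁ ≤ G₀ := by
    rw [cj_le_iff]
    refine hgen _ ?_ ?_
    · rw [← cj_le_iff]
      refine (cj_mono s hW).trans ?_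
      rw [hQ]
      exact Db.Q_C.trans hCb
    · rw [← cj_normalizer, ← cj_le_iff]
      exact hL
  -- `G₀ ≤ N_G(G₀^s)`
  have h2 : G₀ ⊓ normalizer ((cj s G₀ : Subgroup G) : Set G) = G₀ := by
    refine hmax _ inf_le_left (lt_of_le_of_ne ?_ ?_)
    · refine le_inf inf_le_left (inf_le_right.trans ?_)
      rw [← hX, ← cj_normalizer, ← cj_normalizer]
      exact cj_mono s hN
    · intro h3
      apply hX₁n
      have h4 : cj s X₁ ≤ normalizer (Xb : Set G) := by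
        have h5 : cj s X₁ ≤ G₀ ⊓ normalizer ((cj s G₀ : Subgroup G) : Set G) :=
          le_inf h1 ((cj_mono s hX₁).trans le_normalizer)
        rw [← h3] at h5
        exact h5.trans inf_le_right
      rw [← hX, ← cj_normalizer] at h4
      have h5 := cj_mono s⁻¹ h4
      rwa [cj_inv_cj, cj_inv_cj] at h5
  have h3 : G₀ ≤ normalizer ((cj s G₀ : Subgroup G) : Set G) := by
    conv_lhs => rw [← h2]
    exact inf_le_right
  -- `G₀ ∩ G₀^s` is normal in `G₀`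
  have h4 : ((cj s G₀).subgroupOf G₀).Normal := by
    constructor
    intro x hx g
    rw [mem_subgroupOf] at hx ⊢
    exact conj_mem_of_normalizer (h3 g.2) hx
  have h5 : G₀ ≤ cj s G₀ := by
    rcases hsimple.eq_bot_or_eq_top_of_normal _ h4 with h6 | h6
    · exfalso
      obtain ⟨z, -, hzX, hz1⟩ := N.exists_z D
      apply hz1
      have hzQ : s * z * s⁻¹ ∈ cj s Qa := by
        rw [mem_cj]
        have e : s⁻¹ * (s * z * s⁻¹) * s = z := by group
        rw [e]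
        exact D.X_Q hzX
      have hz2 : s * z * s⁻¹ ∈ G₀ := by
        rw [hQ] at hzQ
        exact hCb (Db.Q_C hzQ)
      have hz3 : s * z * s⁻¹ ∈ cj s G₀ := cj_mono s (D.Q_C.trans hCa) hzQ
      have h7 : (⟨s * z * s⁻¹, hz2⟩ : G₀) ∈ (cj s G₀).subgroupOf G₀ := mem_subgroupOf.2 hz3
      rw [h6, mem_bot] at h7
      have h8 : s * z * s⁻¹ = 1 := congrArg Subtype.val h7
      have h9 : z = s⁻¹ * (s * z * s⁻¹) * s := by group
      rw [h9, h8]; group
    · exact subgroupOf_eq_top.1 h6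
  rw [mem_normalizer_iff_cj]
  exact (eq_of_le_of_card_ge h5 (card_cj s G₀).le).symm

include N D hCQ hG hs hr hr1 hrb Db in
theorem swap_U : cj s Ua = Ub := by
  rw [D.U_eq, Db.U_eq, ZN.ChoiceBase.cj_inf, ZN.ChoiceBase.cj_centralizer, swap_eq N D hCQ hG hs hr hr1 hrb Db]

include N D hCQ hG hs hr hr1 hrb Db in
/-- `X_b^s = X_a` -/
theorem swap_X' (hs2 : s * s ∈ T) : cj s Xb = Xa := by
  rw [← swap_X N D hCQ hG hs hr hr1 hrb Db, ZN.ChoiceBase.cj_cj]
  exact cj_eq_of_mem_normalizer (D.S_X hs2)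

include N D hCQ hG in
/-- `T ≤ N_G(Q_a)` -/
theorem T_Q : T ≤ normalizer (Qa : Set G) := by
  obtain ⟨z, hz, hX, h1⟩ := N.exists_z D
  refine le_trans (fun t ht => ?_) (N.cen_le D hCQ hG hX h1)
  exact mem_centralizer_singleton_iff.2 ((mem_zc.1 hz).2.1 t ht)

include N D hCQ hG hs hr hr1 hrb Db in
/-- `Q_b^s = Q_a` -/
theorem swap_Q' (hs2 : s * s ∈ T) : cj s Qb = Qa := by
  rw [← swap_eq N D hCQ hG hs hr hr1 hrb Db, ZN.ChoiceBase.cj_cj]
  exact cj_eq_of_mem_normalizer (T_Q N D hCQ hG hs2)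

include N D hCQ hG hs hr hr1 hrb Db in
theorem swap_U' (hs2 : s * s ∈ T) : cj s Ub = Ua := by
  rw [D.U_eq, Db.U_eq, ZN.ChoiceBase.cj_inf, ZN.ChoiceBase.cj_centralizer, swap_Q' N D hCQ hG hs hr hr1 hrb Db hs2]

include N D hCQ hG hs hr hr1 hrb Db in
/-- `C_a^s = C_b` -/
theorem swap_C {G₀ : Subgroup G} (hCa : Ca = G₀ ⊓ centralizer (Xa : Set G))
    (hCb : Cb = G₀ ⊓ centralizer (Xb : Set G)) (hsG : s ∈ normalizer (G₀ : Set G)) : cj s Ca = Cb := by
  rw [hCa, hCb, ZN.ChoiceBase.cj_inf, ZN.ChoiceBase.cj_centralizer, swap_X N D hCQ hG hs hr hr1 hrb Db,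
    cj_eq_of_mem_normalizer hsG]

include N D hCQ hG hs hr hr1 hrb Db in
/-- `C_b^s = C_a` -/
theorem swap_C' (hs2 : s * s ∈ T) {G₀ : Subgroup G} (hCa : Ca = G₀ ⊓ centralizer (Xa : Set G))
    (hCb : Cb = G₀ ⊓ centralizer (Xb : Set G)) (hsG : s ∈ normalizer (G₀ : Set G)) : cj s Cb = Ca := by
  rw [hCa, hCb, ZN.ChoiceBase.cj_inf, ZN.ChoiceBase.cj_centralizer, swap_X' N D hCQ hG hs hr hr1 hrb Db hs2,
    cj_eq_of_mem_normalizer hsG]

end swap

end SylM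

end Cfsg.Agent.Omega.IId.Cv
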