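import Cfsg.Agent.Omega.All.SpN.Long

/-!
# `BigU4`, piece (T3): `TypU` for `Sp_2n(q)`, `q` even

The elements which conjugate `U_s` into a group containing some `x_12(a) ≠ 1` and some `y_1(b) ≠ 1` (`typ_US` of
`SpN/Inner3.lean`) normalise `X_12`.

* `typ_USN` : inside `Sp_2n(F)`;
* `Hyp0.typN` : in `G`.
-/

set_option autoImplicit false
set_option linter.unusedSectionVars false

namespace Cfsg.Agent.Omega.IId.CvBig.TypSp

open Cfsg Cfsg.Agent.ClassicalGeometry.SympBasic Cfsg.Agent.ClassicalGeometry.SympAutSemi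
open Cfsg.Agent.OddHalf.SpN Cfsg.Agent.OddHalf.SpN.Out
open Cfsg.Agent.Omega.All.SpN
open scoped Matrix commutatorElement

variable {n : ℕ} {F : Type*} [Field F] [CharP F 2] {hn : 3 ≤ n} [Finite F] {A B : Sy n F}

/-- the normaliser of `X_12` -/
noncomputable abbrev NX (hn : 3 ≤ n) : Subgroup (Sy n F) :=
  Subgroup.normalizer ((X12 hn : Subgroup (Sy n F)) : Set (Sy n F))

theorem mem_NX {A : Sy n F} (h : ∀ c : F, A * zz hn c 0 * A⁻¹ ∈ X12 hn) : A ∈ (NX hn : Subgroup (Sy n F)) := by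
  refine Subgroup.mem_normalizer_fintype fun x hx => ?_
  obtain ⟨c, rfl⟩ := hx
  exact h c

theorem tor_NX (l0 l1 : Fˣ) : tor hn l0 l1 ∈ (NX hn : Subgroup (Sy n F)) :=
  mem_NX fun c => ⟨l0 * l1 * c, by rw [conj_zz_tor, mul_zero]⟩

theorem typ_zzN {Z : Subgroup (Sy n F)} {a0 b0 : F} (ha0 : a0 ≠ 0) (hb0 : b0 ≠ 0) (h1 : zz hn a0 0 ∈ Z)
    (h2 : zz hn 0 b0 ∈ Z) (a b : F) : ∃ g ∈ (NX hn : Subgroup (Sy n F)), g * zz hn a b * g⁻¹ ∈ Z := by
  have h3 : zz hn a0 b0 ∈ Z := by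
    have := mul_mem h1 h2
    rwa [zz_mul, add_zero, zero_add] at this
  by_cases hb : b = 0
  · subst hb
    by_cases ha : a = 0
    · subst ha
      exact ⟨1, one_mem _, by rw [zz_zero]; simp [one_mem]⟩
    · refine ⟨tor hn (Units.mk0 (a0 / a) (div_ne_zero ha0 ha)) 1, tor_NX _ _, ?_⟩
      rw [conj_zz_tor, Units.val_mk0, Units.val_one, mul_one, mul_zero, div_mul_cancel₀ _ ha]
      exact h1
  · obtain ⟨l, hl⟩ := exists_sqrt (F := F) (b0 / b)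
    have hl0 : l ≠ 0 := by
      rintro rfl
      rw [mul_zero] at hl
      exact div_ne_zero hb0 hb hl.symm
    have e : l ^ 2 * b = b0 := by rw [pow_two, hl, div_mul_cancel₀ _ hb]
    by_cases ha : a = 0
    · subst ha
      refine ⟨tor hn (Units.mk0 l hl0) 1, tor_NX _ _, ?_⟩
      rw [conj_zz_tor, Units.val_mk0, mul_zero, e]
      exact h2
    · refine ⟨tor hn (Units.mk0 l hl0) (Units.mk0 (a0 / (l * a)) (div_ne_zero ha0 (mul_ne_zero hl0 ha))),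
        tor_NX _ _, ?_⟩
      rw [conj_zz_tor, Units.val_mk0, Units.val_mk0, e]
      have e' : l * (a0 / (l * a)) * a = a0 := by field_simp
      rw [e']
      exact h3

theorem sx_NX (s : F) : sx (neg (i0 hn)) (i1 hn) s ∈ (NX hn : Subgroup (Sy n F)) :=
  mem_NX fun c => ⟨c, by
    have c1 : Commute (sx (i0 hn) (i1 hn) c) (sx (neg (i0 hn)) (i1 hn) s) := sx_comm' _ _
    rw [zz_eq0, ← c1.eq, mul_inv_cancel_right]⟩

theorem sw_NX : sw (w01 hn) ∈ (NX hn : Subgroup (Sy n F)) :=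
  mem_NX fun c => ⟨c, by rw [zz_eq0, sw_sx, w01_0, w01_1, sx_symm]⟩

theorem typ_USN {Z : Subgroup (Sy n F)} {a0 b0 : F} (ha0 : a0 ≠ 0) (hb0 : b0 ≠ 0) (h1 : zz hn a0 0 ∈ Z)
    (h2 : zz hn 0 b0 ∈ Z) (hA : A ∈ US (i0 hn) (i1 hn)) :
    ∃ g ∈ (NX hn : Subgroup (Sy n F)), g * A * g⁻¹ ∈ Z := by
  obtain ⟨a, b, c, rfl⟩ := exists_US (d01 hn) hA
  have key : ∀ a b c : F, a ≠ 0 → ∃ g ∈ (NX hn : Subgroup (Sy n F)),
      g * (sx (i0 hn) (i1 hn) c * sy (i0 hn) a * sy (i1 hn) b) * g⁻¹ ∈ Z := by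
    intro a b c ha
    obtain ⟨s, hs⟩ := exists_sqrt (F := F) (b / a)
    have hs' : a * s ^ 2 = b := by rw [pow_two, hs, mul_div_cancel₀ _ ha]
    obtain ⟨g, hgN, hg⟩ := typ_zzN ha0 hb0 h1 h2 (c + a * s) a
    have hd := d01 hn
    have hd' : Dj (neg (i0 hn)) (i1 hn) := dj_neg_left.2 hd
    set x := sx (neg (i0 hn)) (i1 hn) s with hx
    have hxN : x ∈ (NX hn : Subgroup (Sy n F)) := sx_NX s
    have r1 : x⁻¹ * sy (i0 hn) a * x = sx (i0 hn) (i1 hn) (a * s) * sy (i1 hn) b * sy (i0 hn) a := by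
      have h := sy_rel hd a s
      rw [hs', ← hx] at h
      have c1 : Commute (sx (i0 hn) (i1 hn) (a * s)) x := sx_comm' _ _
      have c2 : Commute (sy (i1 hn) b) x := sy_sx_comm
        (fun e => hd.1 (OddHalf.SpN.neg_inj.1 e)) (fun e => (ne_neg (i1 hn)) e) _ _
      have c3 : Commute (sx (i0 hn) (i1 hn) (a * s) * sy (i1 hn) b) x := c1.mul_left c2
      calc x⁻¹ * sy (i0 hn) a * x = x⁻¹ * (sy (i0 hn) a * x) := by group
        _ = x⁻¹ * ((sx (i0 hn) (i1 hn) (a * s) * sy (i1 hn) b) * x * sy (i0 hn) a) := by rw [h]; group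
        _ = x⁻¹ * (x * (sx (i0 hn) (i1 hn) (a * s) * sy (i1 hn) b) * sy (i0 hn) a) := by rw [c3.eq]
        _ = _ := by group
    have r2 : x⁻¹ * sx (i0 hn) (i1 hn) c * x = sx (i0 hn) (i1 hn) c := by
      have c1 : Commute (sx (i0 hn) (i1 hn) c) x := sx_comm' _ _
      rw [mul_assoc, c1.eq]; group
    have r3 : x⁻¹ * sy (i1 hn) b * x = sy (i1 hn) b := by
      have c2 : Commute (sy (i1 hn) b) x := sy_sx_comm
        (fun e => hd.1 (OddHalf.SpN.neg_inj.1 e)) (fun e => (ne_neg (i1 hn)) e) _ _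
      rw [mul_assoc, c2.eq]; group
    refine ⟨g * x⁻¹, mul_mem hgN (inv_mem hxN), ?_⟩
    have e : g * x⁻¹ * (sx (i0 hn) (i1 hn) c * sy (i0 hn) a * sy (i1 hn) b) * (g * x⁻¹)⁻¹ =
        g * ((x⁻¹ * sx (i0 hn) (i1 hn) c * x) * (x⁻¹ * sy (i0 hn) a * x) * (x⁻¹ * sy (i1 hn) b * x)) * g⁻¹ := by
      group
    have c4 : Commute (sy (i1 hn) b) (sy (i0 hn) a) := sy_comm (fun e => hd.2 e) _ _
    have e2 : sx (i0 hn) (i1 hn) c * (sx (i0 hn) (i1 hn) (a * s) * sy (i1 hn) b * sy (i0 hn) a) * sy (i1 hn) b =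
        zz hn (c + a * s) a := by
      rw [zz_eq, sx_add]
      calc sx (i0 hn) (i1 hn) c * (sx (i0 hn) (i1 hn) (a * s) * sy (i1 hn) b * sy (i0 hn) a) * sy (i1 hn) b
          = sx (i0 hn) (i1 hn) c * sx (i0 hn) (i1 hn) (a * s) * (sy (i1 hn) b * sy (i0 hn) a) * sy (i1 hn) b := by
            group
        _ = sx (i0 hn) (i1 hn) c * sx (i0 hn) (i1 hn) (a * s) * (sy (i0 hn) a * sy (i1 hn) b) * sy (i1 hn) b := by
            rw [c4.eq]
        _ = sx (i0 hn) (i1 hn) c * sx (i0 hn) (i1 hn) (a * s) * sy (i0 hn) a * (sy (i1 hn) b * sy (i1 hn) b) := by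
            group
        _ = _ := by rw [sy_sq, mul_one]
    rw [e, r1, r2, r3, e2]
    exact hg
  by_cases ha : a = 0
  · by_cases hb : b = 0
    · rw [ha, hb, sy_zero, sy_zero, mul_one, mul_one, ← zz_eq0]
      exact typ_zzN ha0 hb0 h1 h2 c 0
    · obtain ⟨g, hgN, hg⟩ := key b a c hb
      refine ⟨g * sw (w01 hn), mul_mem hgN sw_NX, ?_⟩
      have e : g * sw (w01 hn) * (sx (i0 hn) (i1 hn) c * sy (i0 hn) a * sy (i1 hn) b) * (g * sw (w01 hn))⁻¹ =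
          g * ((sw (w01 hn) * sx (i0 hn) (i1 hn) c * (sw (w01 hn))⁻¹) *
            ((sw (w01 hn) * sy (i0 hn) a * (sw (w01 hn))⁻¹) * (sw (w01 hn) * sy (i1 hn) b * (sw (w01 hn))⁻¹))) *
            g⁻¹ := by group
      have c4 : Commute (sy (i1 hn) a) (sy (i0 hn) b) := sy_comm (fun e => (d01 hn).2 e) _ _
      rw [e, sw_sx, sw_sy, sw_sy, w01_0, w01_1, sx_symm, c4.eq, ← mul_assoc (sx (i0 hn) (i1 hn) c)]
      exact hg
  · exact key a b c ha

open Subgroup Cfsg.Agent.ZN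

/-- **`TypU` in `G`.** -/
theorem typN {G : Type*} [Group G] [Finite G] {ι : Sy n F →* G} {S : Subgroup G} (H : Hyp0 ι S) (hn : 3 ≤ n) {u : G}
    (hu : u ∈ (US (i0 hn) (i1 hn)).map ι) :
    ∃ y ∈ normalizer (ι.range : Set G), y ∈ normalizer (((X12 hn).map ι : Subgroup G) : Set G) ∧
      y * u * y⁻¹ ∈ zc S := by
  obtain ⟨a, b, ha, hb, hza, hzb⟩ := H.exists_ab hn
  obtain ⟨A, hA, rfl⟩ := hu
  obtain ⟨g, hgN, hg⟩ := typ_USN (Z := (zc S).comap ι) ha hb hza hzb hA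
  refine ⟨ι g, Subgroup.le_normalizer ⟨g, rfl⟩, ?_, by rw [← map_inv, ← map_mul, ← map_mul]; exact hg⟩
  refine Subgroup.mem_normalizer_fintype fun x hx => ?_
  obtain ⟨x, hx, rfl⟩ := hx
  exact ⟨g * x * g⁻¹, (Subgroup.mem_normalizer_iff.1 hgN x).1 hx, by rw [map_mul, map_mul, map_inv]⟩

end Cfsg.Agent.Omega.IId.CvBig.TypSp
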