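import Cfsg.Agent.Omega.IId.CvBig.U2Par

/-!
# `BigU2`: the end of II.0h1 over `T` with the second line `V^w`, `w ∈ N_G(T)` (bb OMEGA 22450)

`Par.false_of` : `BTS V R`, `OtD` and `Par T V X r`, `X ≥ ⟨W_i⟩`, LEMMA E, an element `w ∈ N(T)` with `r^w ≠ r`, and the
module `Y` of `C(c r)` for every `c ∈ Ω₁Z(T) ∩ C(⟨W_i⟩)`, `c ≠ 1`, with `Sig V R o c`: contradiction.
-/

set_option autoImplicit false
set_option linter.unusedSectionVars false

namespace Cfsg.Agent.Omega.HT.OtCore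

open Subgroup Cfsg Cfsg.Agent.MinSimple.VModule Cfsg.Agent.Omega.HOneTwo Cfsg.Agent.Omega.HT.TComp Cfsg.Agent.Omega.BTwo
open Cfsg.Agent.ZN (zc o2)
open Cfsg.Agent.Omega.HTwo.ThmA (LE)
open Cfsg.Agent.Omega.HTwo.AlphaP (MP)

universe u

variable {G : Type u} [Group G] [Finite G] {ι : Type*} {T V : Subgroup G} {R : ι → Subgroup G} {o : ι} {r : G}

namespace Par

variable {X : Subgroup G} (h : Par T V X r)
include h

/-- `Ω₁Z(T) ≤ O₂(C(u))` for `u ∈ V#` -/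
theorem zc_le_q {u : G} (hu : u ∈ V) (hu1 : u ≠ 1) : zc T ≤ o2 (centralizer ({u} : Set G)) := by
  intro z hz
  obtain ⟨hzT, hTz, hzz⟩ := ZN.mem_zc.1 hz
  rw [pow_two] at hzz
  rcases h.dec z hzT hzz hTz with h1 | h1
  · exact ZN.zc_le _ (h.mem_zcq hzT hzz hTz h1 hu hu1)
  · have hrT : r ∈ T := h.ot.V_T h.ot.r_mem
    have hrr := h.sq h.ot.r_mem
    have hzr : z * r = r * z := h.ot.T_r z hzT
    have h2 : z * r ∈ zc (o2 (centralizer ({u} : Set G))) := by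
      refine h.mem_zcq (mul_mem hzT hrT) ?_ (fun t ht => ?_) h1 hu hu1
      · calc z * r * (z * r) = z * (r * z) * r := by group
          _ = z * z * (r * r) := by rw [← hzr]; group
          _ = 1 := by rw [hzz, hrr, one_mul]
      · calc t * (z * r) = (t * z) * r := by group
          _ = z * (t * r) := by rw [hTz t ht]; group
          _ = z * r * t := by rw [h.ot.T_r t ht]; group
    have e : z = z * r * r := by rw [mul_assoc, hrr, mul_one]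
    rw [e]
    exact mul_mem (ZN.zc_le _ h2) (h.V_le_q hu hu1 h.ot.r_mem)

end Par

/-- **`BigU2`, the end.** -/
theorem Par.false_of (b : BTS V R) (hr : ∀ x, x ∈ R o ↔ x = 1 ∨ x = r) (h0 : OtD T V (XX V R) r)
    {X : Subgroup G} (h : Par T V X r) (hX : XX V R ≤ X)
    (hLE : ∀ i, LE V R i) {w : G} (hw : w ∈ normalizer (T : Set G)) (hwr : w * r * w⁻¹ ≠ r)
    (hY : ∀ c ∈ zc T, c ∈ CenX V R → c ≠ 1 → Sig V R o c →
      ∃ Y ≤ centralizer ({c * r} : Set G), GSysW (centralizer ({c * r} : Set G)) Y r) : False := by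
  have hb := OtD.htt b hr h0 h.hG fun v hv hv1 => h.zc_le_q hv hv1
  have hmem : ∀ {x : G}, x ∈ T → x * x = 1 → (∀ t ∈ T, t * x = x * t) → (∀ g ∈ X, g * x = x * g) →
      x ∈ zc T ⊓ centralizer ((T ⊔ XX V R : Subgroup G) : Set G) := fun {x} h1 h2 h3 h4 =>
    OtD.mem_Z0 (ZN.mem_zc.2 ⟨h1, h3, by rw [pow_two]; exact h2⟩) (mem_centralizer_iff.2 fun g hg => h4 g (hX hg))
  obtain ⟨x, hx, y, hy, ⟨hxx, hx1, hxT, hxX⟩, ⟨hyy, hy1, hyT, hyX⟩, hne⟩ := h.two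
  apply hne
  refine EndCore.main hb hLE hr h0 (fun _ c hcz hs => ?_) x (hmem hx hxx hxT hxX) y (hmem hy hyy hyT hyX) hx1 hy1
  by_cases hc1 : c = 1
  · obtain ⟨z, hzT, hzz, hz1, hTz, hXz, hXwz⟩ := h.exists_x hw
    obtain ⟨h2, hXr⟩ := h.otD hw hwr
    refine ⟨z, hmem hzT hzz hTz hXz, hz1, Or.inl hc1, EndCore.not_alpha hb hr h0 hLE (hmem hzT hzz hTz hXz) hz1 h2
      hXr ?_ fun _ hT hX _ _ => h2.ot hT hX⟩
    rintro _ ⟨g, hg, rfl⟩
    exact hXwz g hg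
  · have hcX : c ∈ CenX V R := centralizer_le (fun x hx => mem_sup_right hx) hcz.2
    exact ⟨c, hcz, hc1, Or.inr rfl, Main.not_alpha hb hLE hr hcz hc1 (EndCore.core hb hr h0 hcz)
      (hY c hcz.1 hcX hc1 hs)⟩

end Cfsg.Agent.Omega.HT.OtCore
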