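import Cfsg.Agent.Omega.HT.OtHtt
import Cfsg.Agent.Omega.IId.Triangle
import Cfsg.Agent.ZN.Facts

/-!
# `BigU2`: two conjugate lines `V`, `V^w`, `w ∈ N_G(T)`, over a 2-group `T` (bb OMEGA 21949 (II) / 21813 (1), (2))

`Par T V X v` : `OtD T V X v` (a line `V ∋ v` over `T`), `W_u ≤ X` moves `V` (`u ∈ V#`), `Ω₁Z(Q_u) ≤ T`,
`Ω₁Z(T) = ⟨v⟩ × C(X)` (`dec`), and `Ω₁Z(T) ∩ C(X)` has two elements `≠ 1` (`two`).

* `OtD.cjN` : `OtD T V^w X^w v^w` for `w ∈ N(T)`; `OtD.le_zc` : `V ≤ Ω₁Z(O₂(C(y)))` for an involution `y` centralised by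
  `T`, `X`; `tool` : TOOL (0) of 20837;
* `Par.cen` : `X` centralises `v^w`; `Par.cen'` : `X^w` centralises `v`, for `w ∈ N(T)`, `v^w ≠ v`;
* `Par.mem_zc` : `V^w ≤ Ω₁Z(O₂(C(v)))`; `Par.mem_zc'` : `V ≤ Ω₁Z(O₂(C(v^w)))`.
-/

set_option autoImplicit false
set_option linter.unusedSectionVars false

namespace Cfsg.Agent.Omega.HT.OtCore

open Subgroup Cfsg Cfsg.Agent.MinSimple.VModule
open Cfsg.Agent.ZN (zc o2)
open Cfsg.Agent.ZN.ChoiceBase (cj mem_cj cj_mono cj_eq_of_mem_normalizer)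
open Cfsg.Agent.Omega.IId.Triangle (KK mem_KK KK_conj KK_le_o2 mem_cent mem_zpowers_iff_of_sq cent_conj o2_cent_conj)
open Cfsg.Agent.MinSimple.Basic (char2_centralizer)

universe u

local notation "cz" v:max => centralizer ({v} : Set _)
local notation "qz" v:max => ZN.o2 (centralizer ({v} : Set _))

variable {G : Type u} [Group G]

theorem cz_cj (g v : G) : cj g (cz v) = cz (g * v * g⁻¹) := (cent_conj g v).symm

theorem mem_cj_mk {g x : G} {H : Subgroup G} (hx : x ∈ H) : g * x * g⁻¹ ∈ cj g H := ⟨x, hx, rfl⟩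

/-- **the data of a line, moved by `w ∈ N(T)`** -/
theorem OtD.cjN {T V X : Subgroup G} {r : G} (h : OtD T V X r) {w : G} (hw : w ∈ normalizer (T : Set G)) :
    OtD T (cj w V) (cj w X) (w * r * w⁻¹) := by
  have hT : cj w T = T := cj_eq_of_mem_normalizer hw
  have hTi : ∀ t ∈ T, w⁻¹ * t * w ∈ T := fun t ht => by
    rw [← hT, mem_cj] at ht
    exact ht
  have hnor : ∀ {A B : Subgroup G}, A ≤ normalizer (B : Set G) → cj w A ≤ normalizer (cj w B : Set G) := by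
    intro A B hAB
    rw [← ZN.ChoiceBase.cj_normalizer]
    exact cj_mono w hAB
  refine
    { T_p := h.T_p
      T_r := fun t ht => ?_
      odd := ?_
      V_T := ?_
      V_sq := ?_
      V_four := ?_
      r_mem := mem_cj_mk h.r_mem
      r_ne := fun e => h.r_ne (conj_eq_one_iff.1 e)
      T_V := ?_
      X_V := hnor h.X_V
      trans := ?_
      zt := ?_ }
  · calc t * (w * r * w⁻¹) = w * ((w⁻¹ * t * w) * r) * w⁻¹ := by group
      _ = w * r * w⁻¹ * t := by rw [h.T_r _ (hTi t ht)]; group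
  · have e : T.relIndex (cz (w * r * w⁻¹)) = T.relIndex (cz r) := by
      conv_lhs => rw [← hT, ← cz_cj]
      exact Subgroup.relIndex_map_map_of_injective _ _ (MulAut.conj w).injective
    rw [e]
    exact h.odd
  · rw [← hT]
    exact cj_mono w h.V_T
  · rintro _ ⟨x, hx, rfl⟩
    show (w * x * w⁻¹) * (w * x * w⁻¹) = 1
    calc (w * x * w⁻¹) * (w * x * w⁻¹) = w * (x * x) * w⁻¹ := by group
      _ = 1 := by rw [h.V_sq x hx]; group
  · rintro _ ⟨x, hx, rfl⟩ h1 h2 _ ⟨y, hy, rfl⟩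
    have h3 : x ≠ 1 := fun e => h1 (by
      show w * x * w⁻¹ = 1
      rw [e]; group)
    have h4 : x ≠ r := fun e => h2 (by
      show w * x * w⁻¹ = w * r * w⁻¹
      rw [e])
    show w * y * w⁻¹ = 1 ∨ w * y * w⁻¹ = w * r * w⁻¹ ∨ w * y * w⁻¹ = w * x * w⁻¹ ∨
      w * y * w⁻¹ = w * x * w⁻¹ * (w * r * w⁻¹)
    rcases h.V_four x hx h3 h4 y hy with e | e | e | e
    · left; rw [e]; group
    · right; left; rw [e]
    · right; right; left; rw [e]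
    · right; right; right; rw [e]; group
  · have := hnor h.T_V
    rwa [hT] at this
  · rintro _ ⟨x, hx, rfl⟩ h1
    obtain ⟨g, hg, e⟩ := h.trans x hx (fun e => h1 (by
      show w * x * w⁻¹ = 1
      rw [e]; group))
    refine ⟨w * g * w⁻¹, mem_cj_mk hg, ?_⟩
    show w * g * w⁻¹ * (w * r * w⁻¹) * (w * g * w⁻¹)⁻¹ = w * x * w⁻¹
    rw [← e]; group
  · obtain ⟨a, ha, b, hb, e, hz⟩ := h.zt
    refine ⟨w * a * w⁻¹, by rw [← hT]; exact mem_cj_mk ha, w * b * w⁻¹, mem_cj_mk hb, ?_, ?_⟩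
    · calc w * a * w⁻¹ * (w * b * w⁻¹) * (w * a * w⁻¹)⁻¹ = w * (a * b * a⁻¹) * w⁻¹ := by group
        _ = w * b * w⁻¹ * (w * r * w⁻¹) := by rw [e]; group
    · intro c hc hcc hcV
      have h1 := hz (w⁻¹ * c * w) (hTi c hc) (by
        calc w⁻¹ * c * w * (w⁻¹ * c * w) = w⁻¹ * (c * c) * w := by group
          _ = 1 := by rw [hcc]; group) (by
        intro t ht htV
        have h2 : w * t * w⁻¹ ∈ T := by rw [← hT]; exact mem_cj_mk ht
        have h3 := hcV _ h2 (mem_centralizer_iff.2 (by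
          rintro _ ⟨y, hy, rfl⟩
          have h4 := mem_centralizer_iff.1 htV y hy
          show w * y * w⁻¹ * (w * t * w⁻¹) = w * t * w⁻¹ * (w * y * w⁻¹)
          calc w * y * w⁻¹ * (w * t * w⁻¹) = w * (y * t) * w⁻¹ := by group
            _ = w * t * w⁻¹ * (w * y * w⁻¹) := by rw [h4]; group))
        calc t * (w⁻¹ * c * w) = w⁻¹ * (w * t * w⁻¹ * c) * w := by group
          _ = w⁻¹ * c * w * t := by rw [h3]; group)
      rcases h1 with h1 | h1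
      · left
        calc w * a * w⁻¹ * c * (w * a * w⁻¹)⁻¹ = w * (a * (w⁻¹ * c * w) * a⁻¹) * w⁻¹ := by group
          _ = c := by rw [h1]; group
      · right
        calc w * a * w⁻¹ * c * (w * a * w⁻¹)⁻¹ = w * (a * (w⁻¹ * c * w) * a⁻¹) * w⁻¹ := by group
          _ = c * (w * r * w⁻¹) := by rw [h1]; group

variable [Finite G]

/-- `V ≤ Ω₁Z(O₂(C(y)))` for an involution `y` centralised by `T`, `X` -/
theorem OtD.le_zc {T V X : Subgroup G} {r : G} (h : OtD T V X r) (hG : IsCharacteristicTwoType G) {y : G}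
    (hyy : y * y = 1) (hy1 : y ≠ 1) (hT : ∀ t ∈ T, t * y = y * t) (hX : ∀ x ∈ X, x * y = y * x) :
    V ≤ zc (qz y) := by
  have h1 := h.ot (H := cz y) (fun t ht => mem_cent.2 (hT t ht)) (fun t ht => mem_cent.2 (hX t ht))
  intro v hv
  have h2 : v ∈ centralizer (qz y : Set G) := mem_centralizer_iff.2 fun q hq =>
    (mem_centralizer_iff.1 (h1 hq) v hv).symm
  have h3 : v ∈ qz y := char2_centralizer hG (by rw [pow_two]; exact hyy) hy1
    ⟨mem_cent.2 (hT v (h.V_T hv)), h2⟩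
  exact mem_zc.2 ⟨h3, fun q hq => mem_centralizer_iff.1 h2 q hq, by rw [pow_two]; exact h.V_sq v hv⟩

/-- `O₂(C(r)) ≤ T` -/
theorem OtD.q_le {T V X : Subgroup G} {r : G} (h : OtD T V X r) : qz r ≤ T := o2_le_of_sylow h.T_p h.odd

/-- `[V, T] ≤ ⟨r⟩` -/
theorem OtD.act {T V X : Subgroup G} {r : G} (h : OtD T V X r) {t v : G} (ht : t ∈ T) (hv : v ∈ V) :
    t * v * t⁻¹ = v ∨ t * v * t⁻¹ = v * r := by
  have hr := h.T_r t ht
  by_cases h1 : v = 1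
  · left; rw [h1]; group
  by_cases h2 : v = r
  · left; rw [h2, hr]; group
  rcases h.V_four v hv h1 h2 _ (h.cj_mem ht hv) with e | e | e | e
  · exact absurd (conj_eq_one_iff.1 e) h1
  · exfalso
    apply h2
    calc v = t⁻¹ * (t * v * t⁻¹) * t := by group
      _ = t⁻¹ * (r * t) := by rw [e]; group
      _ = r := by rw [← hr]; group
  · exact Or.inl e
  · exact Or.inr e

/-- TOOL (0): `A ≤ C(y)`, `A ≤ O₂(C(ξ))`, `A` centralises `ξ^{C(y)}` ⟹ `A ≤ O₂(C(y))`. -/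
theorem tool {y ξ : G} {A : Subgroup G} (hA : A ≤ cz y) (hξ : A ≤ qz ξ)
    (hc : ∀ a ∈ A, ∀ d ∈ cz y, a * (d * ξ * d⁻¹) = d * ξ * d⁻¹ * a) : A ≤ qz y := by
  obtain ⟨C, hC⟩ : ∃ C, C = cz y ⊓ centralizer ({z | ∃ d ∈ cz y, z = d * ξ * d⁻¹} : Set G) := ⟨_, rfl⟩
  have hmem : ∀ a, a ∈ C ↔ a ∈ cz y ∧ ∀ d ∈ cz y, a * (d * ξ * d⁻¹) = d * ξ * d⁻¹ * a := by
    intro a
    rw [hC, mem_inf, mem_centralizer_iff]
    refine and_congr_right fun _ => ⟨fun h d hd => (h _ ⟨d, hd, rfl⟩).symm, ?_⟩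
    rintro h _ ⟨d, hd, rfl⟩
    exact (h d hd).symm
  have hCξ : C ≤ cz ξ := fun a ha => by
    have h1 := ((hmem a).1 ha).2 1 (one_mem _)
    rw [one_mul, inv_one, mul_one] at h1
    exact mem_cent.2 h1
  have hyC : cz y ≤ normalizer (C : Set G) := by
    refine HOne.TvHSide.le_normalizer_of fun g hg a ha => ?_
    obtain ⟨h1, h2⟩ := (hmem a).1 ha
    refine (hmem _).2 ⟨mul_mem (mul_mem hg h1) (inv_mem hg), fun d hd => ?_⟩
    have h3 := h2 (g⁻¹ * d) (mul_mem (inv_mem hg) hd)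
    calc g * a * g⁻¹ * (d * ξ * d⁻¹) = g * (a * (g⁻¹ * d * ξ * (g⁻¹ * d)⁻¹)) * g⁻¹ := by group
      _ = d * ξ * d⁻¹ * (g * a * g⁻¹) := by rw [h3]; group
  have h1 : qz ξ ⊓ C ≤ o2 C := by
    refine le_o2 inf_le_right ((o2_isPGroup _).to_le inf_le_left) ?_
    refine HOne.TvHSide.le_normalizer_of fun g hg a ha => mem_inf.2 ⟨?_, mul_mem (mul_mem hg ha.2) (C.inv_mem hg)⟩
    exact (mem_normalizer_iff.1 (le_normalizer_o2 (cz ξ) (hCξ hg)) a).1 ha.1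
  have h2 : o2 C ≤ qz y := by
    refine le_o2 ((o2_le C).trans fun a ha => ((hmem a).1 ha).1) (o2_isPGroup _) ?_
    exact hyC.trans (ZN.normalizer_le_normalizer_o2 C)
  exact fun a ha => h2 (h1 ⟨hξ ha, (hmem a).2 ⟨hA ha, hc a ha⟩⟩)

/-- **the frame**: a line `V ∋ v` over the 2-group `T` -/
structure Par (T V X : Subgroup G) (v : G) : Prop where
  hG : IsCharacteristicTwoType G
  ot : OtD T V X v
  WV : ∀ u ∈ V, u ≠ 1 → ∃ g ∈ KK u, ∃ y ∈ V, g * y ≠ y * g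
  zT : ∀ u ∈ V, u ≠ 1 → zc (qz u) ≤ T
  /-- `Ω₁Z(T) = ⟨v⟩ C(X)` -/
  dec : ∀ c ∈ T, c * c = 1 → (∀ t ∈ T, t * c = c * t) →
    (∀ x ∈ X, x * c = c * x) ∨ ∀ x ∈ X, x * (c * v) = c * v * x
  /-- `|Ω₁Z(T) ∩ C(X)| ≥ 4` -/
  two : ∃ x₁ ∈ T, ∃ x₂ ∈ T, (x₁ * x₁ = 1 ∧ x₁ ≠ 1 ∧ (∀ t ∈ T, t * x₁ = x₁ * t) ∧ ∀ g ∈ X, g * x₁ = x₁ * g) ∧
    (x₂ * x₂ = 1 ∧ x₂ ≠ 1 ∧ (∀ t ∈ T, t * x₂ = x₂ * t) ∧ ∀ g ∈ X, g * x₂ = x₂ * g) ∧ x₁ ≠ x₂

namespace Par

variable {T V X : Subgroup G} {v : G} (h : Par T V X v)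
include h

theorem sq {u : G} (hu : u ∈ V) : u * u = 1 := h.ot.V_sq u hu

theorem KK_le_q {u : G} (hu : u ∈ V) (hu1 : u ≠ 1) : KK u ≤ qz u :=
  KK_le_o2 (h.sq hu) (char2_centralizer h.hG (by rw [pow_two]; exact h.sq hu) hu1)

/-- `KK u`, `u ∈ V#`, centralises everything centralised by `T` and `X` -/
theorem KK_comm {c : G} (hT : ∀ t ∈ T, t * c = c * t) (hX : ∀ x ∈ X, x * c = c * x) {u : G} (hu : u ∈ V)
    (hu1 : u ≠ 1) {k : G} (hk : k ∈ KK u) : k * c = c * k := by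
  obtain ⟨g, hg, e⟩ := h.ot.trans u hu hu1
  have h1 : g⁻¹ * k * g ∈ KK v := by
    have h2 := KK_conj (h := g⁻¹) hk
    have e2 : g⁻¹ * u * g⁻¹⁻¹ = v := by rw [← e]; group
    rwa [e2, inv_inv] at h2
  have h3 := hT _ (h.ot.q_le (h.KK_le_q h.ot.r_mem h.ot.r_ne h1))
  have h4 := hX g hg
  have h5 := hX _ (inv_mem hg)
  calc k * c = g * (g⁻¹ * k * g) * (g⁻¹ * c) := by group
    _ = g * ((g⁻¹ * k * g) * c) * g⁻¹ := by rw [h5]; group
    _ = (g * c) * (g⁻¹ * k * g) * g⁻¹ := by rw [h3]; group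
    _ = c * k := by rw [h4]; group

/-- an involution of `Z(T)` centralised by `X` lies in `Z(O₂(C(u)))`, `u ∈ V#` -/
theorem mem_zcq {x u : G} (hxT : x ∈ T) (hxx : x * x = 1) (hTx : ∀ t ∈ T, t * x = x * t)
    (hXx : ∀ g ∈ X, g * x = x * g) (hu : u ∈ V) (hu1 : u ≠ 1) : x ∈ zc (qz u) := by
  have h1 : x ∈ zc (qz v) := by
    have h2 : x ∈ centralizer (qz v : Set G) := mem_centralizer_iff.2 fun q hq => hTx q (h.ot.q_le hq)
    have h3 : x ∈ qz v := char2_centralizer h.hG (by rw [pow_two]; exact h.sq h.ot.r_mem) h.ot.r_ne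
      ⟨mem_cent.2 (h.ot.T_r x hxT), h2⟩
    exact mem_zc.2 ⟨h3, fun q hq => mem_centralizer_iff.1 h2 q hq, by rw [pow_two]; exact hxx⟩
  obtain ⟨g, hg, e⟩ := h.ot.trans u hu hu1
  have e2 : x = g * x * g⁻¹ := by rw [hXx g hg]; group
  have h4 : ∀ q ∈ qz u, g⁻¹ * q * g ∈ qz v := by
    intro q hq
    rw [← e, o2_cent_conj] at hq
    exact mem_cj.1 hq
  obtain ⟨h5, h6, h7⟩ := mem_zc.1 h1
  refine mem_zc.2 ⟨?_, fun q hq => ?_, h7⟩
  · rw [e2, ← e, o2_cent_conj]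
    exact mem_cj_mk h5
  · have h8 := h6 _ (h4 q hq)
    calc q * x = g * (g⁻¹ * q * g * (g⁻¹ * x * g)) * g⁻¹ := by group
      _ = g * (g⁻¹ * q * g * x) * g⁻¹ := by
          have e3 : g⁻¹ * x * g = x := by
            calc g⁻¹ * x * g = g⁻¹ * (g * x) := by rw [hXx g hg]; group
              _ = x := by group
          rw [e3]
      _ = (g * x * g⁻¹) * q := by rw [h8]; group
      _ = x * q := by rw [← e2]

/-- `v ∉ Z(O₂(C(u)))` for `u ∈ V#`, `u ≠ v` -/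
theorem v_notMem {u : G} (hu : u ∈ V) (hu1 : u ≠ 1) (huv : u ≠ v) : v ∉ zc (qz u) := by
  intro hv
  obtain ⟨g, hg, y, hy, hne⟩ := h.WV u hu hu1
  apply hne
  have h1 := (mem_zc.1 hv).2.1 g (h.KK_le_q hu hu1 hg)
  have h2 := (mem_KK.1 hg).1
  rcases h.ot.V_four u hu hu1 huv y hy with e | e | e | e
  · rw [e, mul_one, one_mul]
  · rw [e]; exact h1
  · rw [e]; exact h2
  · rw [e]
    calc g * (u * v) = (g * u) * v := by group
      _ = u * (g * v) := by rw [h2]; group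
      _ = u * v * g := by rw [h1]; group

/-- an element `u ≠ 1, v` of `V` -/
theorem exists_u : ∃ u ∈ V, u ≠ 1 ∧ u ≠ v := by
  obtain ⟨a, -, b, hb, e, -⟩ := h.ot.zt
  refine ⟨b, hb, fun h1 => h.ot.r_ne ?_, fun h1 => h.ot.r_ne ?_⟩
  · rw [h1] at e
    calc v = 1 * v := (one_mul v).symm
      _ = a * 1 * a⁻¹ := e.symm
      _ = 1 := by group
  · -- `a v a⁻¹ = v v = 1`
    rw [h1, h.sq h.ot.r_mem] at e
    exact conj_eq_one_iff.1 e

/-- `V ≤ O₂(C(u))` for `u ∈ V#` -/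
theorem V_le_q {u : G} (hu : u ∈ V) (hu1 : u ≠ 1) : V ≤ qz u := by
  -- first for some `u ≠ v`
  obtain ⟨x, hxT, x₂, -, ⟨hxx, hx1, hTx, hXx⟩, -, -⟩ := h.two
  obtain ⟨b, hb, hb1, hbv⟩ := h.exists_u
  have key : V ≤ qz b := by
    refine tool (ξ := x) (fun y hy => mem_cent.2 (h.ot.V_comm hy hb))
      ((h.ot.le_zc h.hG hxx hx1 hTx hXx).trans (zc_le _)) ?_
    intro y hy d hd
    have hn : d * x * d⁻¹ ∈ zc (qz b) := by
      have h1 := h.mem_zcq hxT hxx hTx hXx hb hb1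
      exact (mem_normalizer_iff.1 (normalizer_le_normalizer_zc _ (le_normalizer_o2 (cz b) hd)) x).1 h1
    rcases h.ot.act (h.zT b hb hb1 hn) hy with e | e
    · exact (mul_inv_eq_iff_eq_mul.1 e).symm
    · exfalso
      apply h.v_notMem hb hb1 hbv
      have h2 : y⁻¹ * (d * x * d⁻¹) * y ∈ zc (qz b) := by
        have h3 : y ∈ cz b := mem_cent.2 (h.ot.V_comm hy hb)
        have h4 := (mem_normalizer_iff.1 (normalizer_le_normalizer_zc _ (le_normalizer_o2 (cz b) (inv_mem h3))) _).1 hn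
        rwa [inv_inv] at h4
      have e2 : v = y⁻¹ * (d * x * d⁻¹) * y * (d * x * d⁻¹)⁻¹ := by
        calc v = y⁻¹ * (y * v) := by group
          _ = y⁻¹ * (d * x * d⁻¹ * y * (d * x * d⁻¹)⁻¹) := by rw [e]
          _ = _ := by group
      rw [e2]
      exact mul_mem h2 (inv_mem hn)
  obtain ⟨g, hg, e⟩ := h.ot.trans2 hb hu hb1 hu1
  intro y hy
  have h1 : g⁻¹ * y * g ∈ V := by
    have h2 := (mem_normalizer_iff.1 (h.ot.X_V (inv_mem hg)) y).1 hy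
    rwa [inv_inv] at h2
  rw [← e, o2_cent_conj]
  exact mem_cj.2 (key h1)

/-- an element of `W_u`, `u ∈ V#`, acts on `O₂(C(u))` as `1` or with commutator `u` -/
theorem KK_act {u k y : G} (hu : u ∈ V) (hk : k ∈ KK u) (hy : y ∈ qz u) :
    k * y * k⁻¹ = y ∨ k * y * k⁻¹ = u * y := by
  rcases (mem_zpowers_iff_of_sq (h.sq hu)).1 ((mem_KK.1 hk).2 y hy) with e | e
  · exact Or.inl (mul_inv_eq_one.1 e)
  · exact Or.inr (mul_inv_eq_iff_eq_mul.1 e)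

/-- an element of `W_u` which moves `V` maps `y ∈ V - ⟨u⟩` to `u y` -/
theorem KK_move {u k y : G} (hu : u ∈ V) (hu1 : u ≠ 1) (hk : k ∈ KK u) {b : G} (hb : b ∈ V) (hkb : k * b ≠ b * k)
    (hy : y ∈ V) (hy1 : y ≠ 1) (hyu : y ≠ u) : k * y * k⁻¹ = u * y := by
  rcases h.KK_act hu hk (h.V_le_q hu hu1 hy) with e | e
  · exfalso
    apply hkb
    have h1 := (mem_KK.1 hk).1
    have h2 : k * y = y * k := mul_inv_eq_iff_eq_mul.1 e
    -- `V = {1, u, y, y u}`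
    have h3 : b = 1 ∨ b = u ∨ b = y ∨ b = y * u := by
      obtain ⟨x, hx, ex⟩ := h.ot.trans u hu hu1
      have hxi : x⁻¹ ∈ X := inv_mem hx
      have hb' : x⁻¹ * b * x ∈ V := by
        have := (mem_normalizer_iff.1 (h.ot.X_V hxi) b).1 hb
        rwa [inv_inv] at this
      have hy' : x⁻¹ * y * x ∈ V := by
        have := (mem_normalizer_iff.1 (h.ot.X_V hxi) y).1 hy
        rwa [inv_inv] at this
      rcases h.ot.V_four (x⁻¹ * y * x) hy' (fun e0 => hy1 (by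
        calc y = x * (x⁻¹ * y * x) * x⁻¹ := by group
          _ = 1 := by rw [e0]; group)) (fun e0 => hyu (by
        calc y = x * (x⁻¹ * y * x) * x⁻¹ := by group
          _ = u := by rw [e0, ex])) (x⁻¹ * b * x) hb' with e0 | e0 | e0 | e0
      · left
        calc b = x * (x⁻¹ * b * x) * x⁻¹ := by group
          _ = 1 := by rw [e0]; group
      · right; left
        calc b = x * (x⁻¹ * b * x) * x⁻¹ := by group
          _ = u := by rw [e0, ex]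
      · right; right; left
        calc b = x * (x⁻¹ * b * x) * x⁻¹ := by group
          _ = y := by rw [e0]; group
      · right; right; right
        calc b = x * (x⁻¹ * b * x) * x⁻¹ := by group
          _ = y * (x * v * x⁻¹) := by rw [e0]; group
          _ = y * u := by rw [ex]
    rcases h3 with rfl | rfl | rfl | rfl
    · rw [mul_one, one_mul]
    · exact h1
    · exact h2
    · calc k * (y * u) = (k * y) * u := by group
        _ = y * (k * u) := by rw [h2]; group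
        _ = y * u * k := by rw [h1]; group
  · exact e

section two

variable {w x : G} (hw : w ∈ normalizer (T : Set G)) (hp : w * v * w⁻¹ ≠ v) (hxT : x ∈ T) (hxx : x * x = 1)
  (hx1 : x ≠ 1) (hTx : ∀ t ∈ T, t * x = x * t) (hXx : ∀ g ∈ X, g * x = x * g)
  (hXx' : ∀ g ∈ X, w * g * w⁻¹ * x = x * (w * g * w⁻¹))
include hw hxT hxx hx1 hTx hXx hXx'

theorem cj_X_cen {g : G} (hg : g ∈ cj w X) : g * x = x * g := by
  obtain ⟨y, hy, rfl⟩ := hg
  exact hXx' y hy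

/-- `V`, `V^w` commute -/
theorem comm {y z : G} (hy : y ∈ V) (hz : z ∈ cj w V) : y * z = z * y := by
  have h1 := h.ot.le_zc h.hG hxx hx1 hTx hXx hy
  have h2 := (h.ot.cjN hw).le_zc h.hG hxx hx1 hTx
    (fun g hg => h.cj_X_cen hw hxT hxx hx1 hTx hXx hXx' hg) hz
  exact zc_comm _ _ h1 _ h2

include hp

/-- `V^w ≤ O₂(C(u))` for `u ∈ V - ⟨v⟩`, if `X` does not centralise `p = v^w` -/
theorem V₂_le_q (hm : ∀ g ∈ X, g * (w * v * w⁻¹ * v) = w * v * w⁻¹ * v * g) {u : G} (hu : u ∈ V) (hu1 : u ≠ 1)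
    (huv : u ≠ v) : cj w V ≤ qz u := by
  have hot' := h.ot.cjN hw
  have hcomm : ∀ y ∈ V, ∀ z ∈ cj w V, y * z = z * y := fun y hy z hz =>
    h.comm hw hxT hxx hx1 hTx hXx hXx' hy hz
  have hpT : w * v * w⁻¹ ∈ T := hot'.V_T hot'.r_mem
  have hpp : w * v * w⁻¹ * (w * v * w⁻¹) = 1 := hot'.V_sq _ hot'.r_mem
  have hvT : v ∈ T := h.ot.V_T h.ot.r_mem
  have hvp : v * (w * v * w⁻¹) = w * v * w⁻¹ * v := hcomm v h.ot.r_mem _ hot'.r_mem
  -- `m = p v ∈ Z(O₂(C(u)))`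
  have hmz : w * v * w⁻¹ * v ∈ zc (qz u) := by
    refine h.mem_zcq (mul_mem hpT hvT) ?_ ?_ hm hu hu1
    · calc w * v * w⁻¹ * v * (w * v * w⁻¹ * v) = w * v * w⁻¹ * (v * (w * v * w⁻¹)) * v := by group
        _ = w * v * w⁻¹ * (w * v * w⁻¹) * (v * v) := by rw [hvp]; group
        _ = 1 := by rw [hpp, h.sq h.ot.r_mem, one_mul]
    · intro t ht
      calc t * (w * v * w⁻¹ * v) = (t * (w * v * w⁻¹)) * v := by group
        _ = w * v * w⁻¹ * (t * v) := by rw [hot'.T_r t ht]; group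
        _ = w * v * w⁻¹ * v * t := by rw [h.ot.T_r t ht]; group
  refine tool (ξ := x) (fun z hz => mem_cent.2 (hcomm u hu z hz).symm)
    ((hot'.le_zc h.hG hxx hx1 hTx
      (fun g hg => h.cj_X_cen hw hxT hxx hx1 hTx hXx hXx' hg)).trans (zc_le _)) ?_
  intro y hy d hd
  have hn : d * x * d⁻¹ ∈ zc (qz u) := by
    have h1 := h.mem_zcq hxT hxx hTx hXx hu hu1
    exact (mem_normalizer_iff.1 (normalizer_le_normalizer_zc _ (le_normalizer_o2 (cz u) hd)) x).1 h1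
  rcases hot'.act (h.zT u hu hu1 hn) hy with e | e
  · exact (mul_inv_eq_iff_eq_mul.1 e).symm
  · exfalso
    apply h.v_notMem hu hu1 huv
    have h2 : y⁻¹ * (d * x * d⁻¹) * y ∈ zc (qz u) := by
      have h3 : y ∈ cz u := mem_cent.2 (hcomm u hu y hy).symm
      have h4 := (mem_normalizer_iff.1 (normalizer_le_normalizer_zc _ (le_normalizer_o2 (cz u) (inv_mem h3))) _).1 hn
      rwa [inv_inv] at h4
    have e2 : w * v * w⁻¹ = y⁻¹ * (d * x * d⁻¹) * y * (d * x * d⁻¹)⁻¹ := by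
      calc w * v * w⁻¹ = y⁻¹ * (y * (w * v * w⁻¹)) := by group
        _ = y⁻¹ * (d * x * d⁻¹ * y * (d * x * d⁻¹)⁻¹) := by rw [e]
        _ = _ := by group
    have h5 : w * v * w⁻¹ ∈ zc (qz u) := by
      rw [e2]
      exact mul_mem h2 (inv_mem hn)
    have e3 : v = (w * v * w⁻¹)⁻¹ * (w * v * w⁻¹ * v) := by group
    rw [e3]
    exact mul_mem (inv_mem h5) hmz

/-- **`X` centralises `p = v^w`** -/
theorem cen_aux : ∀ g ∈ X, g * (w * v * w⁻¹) = w * v * w⁻¹ * g := by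
  have hot' := h.ot.cjN hw
  have hT : cj w T = T := cj_eq_of_mem_normalizer hw
  have hcomm : ∀ y ∈ V, ∀ z ∈ cj w V, y * z = z * y := fun y hy z hz =>
    h.comm hw hxT hxx hx1 hTx hXx hXx' hy hz
  have hpT : w * v * w⁻¹ ∈ T := hot'.V_T hot'.r_mem
  have hpp : w * v * w⁻¹ * (w * v * w⁻¹) = 1 := hot'.V_sq _ hot'.r_mem
  have hvT : v ∈ T := h.ot.V_T h.ot.r_mem
  have hvp : v * (w * v * w⁻¹) = w * v * w⁻¹ * v := hcomm v h.ot.r_mem _ hot'.r_mem
  obtain ⟨p, hpdef⟩ : ∃ p, p = w * v * w⁻¹ := ⟨_, rfl⟩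
  by_contra hcon
  have hm := (h.dec (w * v * w⁻¹) hpT hpp hot'.T_r).resolve_left hcon
  have hV₂q := fun {u : G} (hu : u ∈ V) (hu1 : u ≠ 1) (huv : u ≠ v) =>
    h.V₂_le_q hw hp hxT hxx hx1 hTx hXx hXx' hm hu hu1 huv
  rw [← hpdef] at hp hpT hpp hvp hm
  have hpV : p ∈ cj w V := by rw [hpdef]; exact hot'.r_mem
  have hvv := h.sq h.ot.r_mem
  have hv1 := h.ot.r_ne
  have hvV := h.ot.r_mem
  have hp1 : p ≠ 1 := by rw [hpdef]; exact hot'.r_ne
  obtain ⟨u, hu, hu1, huv⟩ := h.exists_u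
  have huu := h.sq hu
  have huvc : u * v = v * u := h.ot.V_comm hu hvV
  obtain ⟨u', hu'⟩ : ∃ u', u' = u * v := ⟨_, rfl⟩
  have hu'V : u' ∈ V := by rw [hu']; exact mul_mem hu hvV
  have hu'1 : u' ≠ 1 := by
    intro e
    rw [hu'] at e
    exact huv (by
      calc u = u * v * v := by rw [mul_assoc, hvv, mul_one]
        _ = v := by rw [e, one_mul])
  have hu'v : u' ≠ v := by
    intro e
    rw [hu'] at e
    exact hu1 (by
      calc u = u * v * v := by rw [mul_assoc, hvv, mul_one]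
        _ = 1 := by rw [e, hvv])
  have hu'u : u' ≠ u := by
    intro e
    rw [hu'] at e
    exact hv1 (mul_eq_left.1 e)
  -- `g ∈ W_{u'}` with `u^g = v`
  obtain ⟨g, hg, b, hb, hgb⟩ := h.WV u' hu'V hu'1
  have hgu : g * u * g⁻¹ = v := by
    rw [h.KK_move hu'V hu'1 hg hb hgb hu hu1 hu'u.symm, hu', huvc, mul_assoc, huu, mul_one]
  have hguv : ∀ y ∈ V, g * y * g⁻¹ ∈ V := fun y hy => by
    rcases h.KK_act hu'V hg (h.V_le_q hu'V hu'1 hy) with e | e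
    · rw [e]; exact hy
    · rw [e]; exact mul_mem hu'V hy
  -- `V^w ≤ O₂(C(v))`
  have hV₂v : cj w V ≤ qz v := by
    intro z hz
    have h1 : g⁻¹ * z * g ∈ qz u := by
      rcases h.KK_act hu'V (inv_mem hg) (hV₂q hu'V hu'1 hu'v hz) with e | e
      · rw [inv_inv] at e
        rw [e]; exact hV₂q hu hu1 huv hz
      · rw [inv_inv] at e
        rw [e]; exact mul_mem (h.V_le_q hu hu1 hu'V) (hV₂q hu hu1 huv hz)
    rw [← hgu, o2_cent_conj]
    exact mem_cj.2 h1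
  -- `W_v` centralises `V^w`
  have hKv : ∀ k ∈ KK v, ∀ z ∈ cj w V, k * z = z * k := by
    intro k hk z hz
    have hkT : k ∈ T := h.ot.q_le (h.KK_le_q hvV hv1 hk)
    rcases hot'.act hkT hz with e | e
    · exact mul_inv_eq_iff_eq_mul.1 e
    · exfalso
      rw [← hpdef] at e
      rcases h.KK_act hvV hk (hV₂v hz) with e2 | e2
      · rw [e2] at e
        exact hp1 (mul_eq_left.1 e.symm)
      · rw [e2] at e
        apply hp
        have e3 : z * p = z * v := by rw [← e, hcomm v hvV z hz]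
        exact mul_left_cancel e3
  -- an element of `W_u` which centralises `V` centralises `V^w`
  have hKu : ∀ c ∈ KK u, (∀ y ∈ V, c * y = y * c) → ∀ z ∈ cj w V, c * z = z * c := by
    intro c hc hcV z hz
    have h1 : g * c * g⁻¹ ∈ KK v := by rw [← hgu]; exact KK_conj hc
    have hguvi : ∀ y ∈ V, g⁻¹ * y * g ∈ V := fun y hy => by
      rcases h.KK_act hu'V (inv_mem hg) (h.V_le_q hu'V hu'1 hy) with e | e
      · rw [inv_inv] at e; rw [e]; exact hy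
      · rw [inv_inv] at e; rw [e]; exact mul_mem hu'V hy
    have h2 : ∀ y ∈ V, g * c * g⁻¹ * y = y * (g * c * g⁻¹) := by
      intro y hy
      have h3 := hcV _ (hguvi y hy)
      calc g * c * g⁻¹ * y = g * (c * (g⁻¹ * y * g)) * g⁻¹ := by group
        _ = y * (g * c * g⁻¹) := by rw [h3]; group
    have h3 : g * c * g⁻¹ * (g * z * g⁻¹) = g * z * g⁻¹ * (g * c * g⁻¹) := by
      rcases h.KK_act hu'V hg (hV₂q hu'V hu'1 hu'v hz) with e | e
      · rw [e]; exact hKv _ h1 z hz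
      · rw [e]
        calc g * c * g⁻¹ * (u' * z) = (g * c * g⁻¹ * u') * z := by group
          _ = u' * (g * c * g⁻¹ * z) := by rw [h2 u' hu'V]; group
          _ = u' * z * (g * c * g⁻¹) := by rw [hKv _ h1 z hz]; group
    calc c * z = g⁻¹ * (g * c * g⁻¹ * (g * z * g⁻¹)) * g := by group
      _ = z * c := by rw [h3]; group
  -- (T1)
  have hT1 : ∀ ρ ∈ T, (∃ z ∈ cj w V, ρ * z ≠ z * ρ) → ∃ y ∈ V, ρ * y ≠ y * ρ := by
    rintro ρ hρ ⟨z, hz, hρz⟩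
    by_contra hcV
    push Not at hcV
    have hez : ρ * z * ρ⁻¹ = z * p := by
      rcases hot'.act hρ hz with e | e
      · exact absurd (mul_inv_eq_iff_eq_mul.1 e) hρz
      · rw [hpdef]; exact e
    have hρp : ρ * p = p * ρ := by rw [hpdef]; exact hot'.T_r ρ hρ
    obtain ⟨k, hk, b, hb, hkb⟩ := h.WV u hu hu1
    have hρu := hcV u hu
    have hk' : ρ * k * ρ⁻¹ ∈ KK u := by
      have h1 : ρ * k * ρ⁻¹ ∈ KK (ρ * u * ρ⁻¹) := KK_conj hk
      have e : ρ * u * ρ⁻¹ = u := by rw [hρu]; group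
      rwa [e] at h1
    have hkv : k * v * k⁻¹ = u * v := h.KK_move hu hu1 hk hb hkb hvV hv1 huv.symm
    -- `k p k⁻¹ = u p`
    have hkp : k * p * k⁻¹ = u * p := by
      have hkm := h.KK_comm (c := p * v) (fun t ht => by
        have h1 := h.ot.T_r t ht
        have h2 : t * p = p * t := by rw [hpdef]; exact hot'.T_r t ht
        calc t * (p * v) = t * p * v := by group
          _ = p * (t * v) := by rw [h2]; group
          _ = p * v * t := by rw [h1]; group) hm hu hu1 hk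
      calc k * p * k⁻¹ = (k * (p * v)) * v⁻¹ * k⁻¹ := by group
        _ = p * v * (k * v⁻¹ * k⁻¹) := by rw [hkm]; group
        _ = p * v * (k * v * k⁻¹)⁻¹ := by group
        _ = p * v * (u * v)⁻¹ := by rw [hkv]
        _ = p * u⁻¹ := by group
        _ = p * u := by rw [inv_eq_of_mul_eq_one_left huu]
        _ = u * p := (hcomm u hu p hpV).symm
    -- `c = k' k⁻¹` centralises `V`, so `V^w`
    have hc : ρ * k * ρ⁻¹ * k⁻¹ ∈ KK u := mul_mem hk' (inv_mem hk)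
    have hcV2 : ∀ y ∈ V, ρ * k * ρ⁻¹ * k⁻¹ * y = y * (ρ * k * ρ⁻¹ * k⁻¹) := by
      intro y hy
      have h1 : k⁻¹ * y * k ∈ V := by
        rcases h.KK_act hu (inv_mem hk) (h.V_le_q hu hu1 hy) with e | e
        · rw [inv_inv] at e; rw [e]; exact hy
        · rw [inv_inv] at e; rw [e]; exact mul_mem hu hy
      have h2 := hcV _ h1
      have h3 := hcV _ hy
      have h4 : ρ⁻¹ * (k⁻¹ * y * k) * ρ = k⁻¹ * y * k := by
        calc ρ⁻¹ * (k⁻¹ * y * k) * ρ = ρ⁻¹ * (k⁻¹ * y * k * ρ) := by group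
          _ = k⁻¹ * y * k := by rw [← h2]; group
      calc ρ * k * ρ⁻¹ * k⁻¹ * y = ρ * k * (ρ⁻¹ * (k⁻¹ * y * k) * ρ) * ρ⁻¹ * k⁻¹ := by group
        _ = (ρ * y) * k * ρ⁻¹ * k⁻¹ := by rw [h4]; group
        _ = y * (ρ * k * ρ⁻¹ * k⁻¹) := by rw [h3]; group
    have hcz := hKu _ hc hcV2
    -- both `k`, `k'` map `z` to the same element
    have hkz : ∃ e : G, e ∈ V ∧ k * z * k⁻¹ = z * e := by
      rcases h.KK_act hu hk (hV₂q hu hu1 huv hz) with e | e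
      · exact ⟨1, one_mem _, by rw [e, mul_one]⟩
      · exact ⟨u, hu, by rw [e]; exact hcomm u hu z hz⟩
    obtain ⟨e, heV, hke⟩ := hkz
    have h5 : ρ * k * ρ⁻¹ * z * (ρ * k * ρ⁻¹)⁻¹ = k * z * k⁻¹ := by
      have h6 := hcz z hz
      have h6' := hcV2 e heV
      calc ρ * k * ρ⁻¹ * z * (ρ * k * ρ⁻¹)⁻¹
          = (ρ * k * ρ⁻¹ * k⁻¹) * (k * z * k⁻¹) * (ρ * k * ρ⁻¹ * k⁻¹)⁻¹ := by group
        _ = ((ρ * k * ρ⁻¹ * k⁻¹ * z) * e) * (ρ * k * ρ⁻¹ * k⁻¹)⁻¹ := by rw [hke]; group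
        _ = (z * (ρ * k * ρ⁻¹ * k⁻¹ * e)) * (ρ * k * ρ⁻¹ * k⁻¹)⁻¹ := by rw [h6]; group
        _ = z * e := by rw [h6']; group
        _ = k * z * k⁻¹ := hke.symm
    have h7 : ρ⁻¹ * z * ρ = z * p := by
      have h8 : ρ * (z * p) * ρ⁻¹ = z := by
        calc ρ * (z * p) * ρ⁻¹ = ρ * z * ρ⁻¹ * (ρ * p * ρ⁻¹) := by group
          _ = z * p * p := by rw [hez, hρp]; group
          _ = z := by rw [mul_assoc, hpp, mul_one]
      calc ρ⁻¹ * z * ρ = ρ⁻¹ * (ρ * (z * p) * ρ⁻¹) * ρ := by rw [h8]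
        _ = z * p := by group
    have hρe := hcV e heV
    have h9 : ρ * k * ρ⁻¹ * z * (ρ * k * ρ⁻¹)⁻¹ = z * e * u := by
      calc ρ * k * ρ⁻¹ * z * (ρ * k * ρ⁻¹)⁻¹ = ρ * (k * (ρ⁻¹ * z * ρ) * k⁻¹) * ρ⁻¹ := by group
        _ = ρ * ((k * z * k⁻¹) * (k * p * k⁻¹)) * ρ⁻¹ := by rw [h7]; group
        _ = ρ * (z * e * (u * p)) * ρ⁻¹ := by rw [hke, hkp]
        _ = (ρ * z * ρ⁻¹) * (ρ * e) * ρ⁻¹ * (ρ * u) * ρ⁻¹ * (ρ * p) * ρ⁻¹ := by group
        _ = z * p * e * u * p := by rw [hez, hρe, hρu, hρp]; group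
        _ = z * e * u * (p * p) := by
            have h10 := hcomm e heV p hpV
            have h11 := hcomm u hu p hpV
            calc z * p * e * u * p = z * (p * e) * u * p := by group
              _ = z * e * (p * u) * p := by rw [← h10]; group
              _ = z * e * u * (p * p) := by rw [← h11]; group
        _ = z * e * u := by rw [hpp, mul_one]
    rw [h5, hke] at h9
    exact hu1 (mul_eq_left.1 h9.symm)
  -- `ρ ∈ W_p` moves `V^w`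
  obtain ⟨ρ₀, hρ₀, y₀, hy₀, hne₀⟩ := h.WV v hvV hv1
  obtain ⟨ρ, hρdef⟩ : ∃ ρ, ρ = w * ρ₀ * w⁻¹ := ⟨_, rfl⟩
  have hρK : ρ ∈ KK p := by rw [hρdef, hpdef]; exact KK_conj hρ₀
  have hρT : ρ ∈ T := by
    rw [← hT, hρdef]
    exact mem_cj_mk (h.ot.q_le (h.KK_le_q hvV hv1 hρ₀))
  have hρz : ρ * (w * y₀ * w⁻¹) ≠ w * y₀ * w⁻¹ * ρ := by
    rw [hρdef]
    intro e
    apply hne₀
    calc ρ₀ * y₀ = w⁻¹ * (w * ρ₀ * w⁻¹ * (w * y₀ * w⁻¹)) * w := by group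
      _ = y₀ * ρ₀ := by rw [e]; group
  have hz₀ : w * y₀ * w⁻¹ ∈ cj w V := mem_cj_mk hy₀
  have hV₂p : cj w V ≤ qz p := by
    rw [hpdef, o2_cent_conj]
    exact cj_mono w (h.V_le_q hvV hv1)
  have hqpT : qz p ≤ T := by rw [hpdef]; exact hot'.q_le
  have hxp : x ∈ zc (qz p) := by
    have h2 : x ∈ centralizer (qz p : Set G) := mem_centralizer_iff.2 fun q hq => hTx q (hqpT hq)
    have h3 : x ∈ qz p := char2_centralizer h.hG (by rw [pow_two]; exact hpp) hp1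
      ⟨mem_cent.2 (by rw [hpdef]; exact hot'.T_r x hxT), h2⟩
    exact mem_zc.2 ⟨h3, fun q hq => mem_centralizer_iff.1 h2 q hq, by rw [pow_two]; exact hxx⟩
  -- `V ≤ O₂(C(p))`
  have hVp : V ≤ qz p := by
    refine tool (ξ := x) (fun y hy => mem_cent.2 (hcomm y hy p hpV))
      ((h.ot.le_zc h.hG hxx hx1 hTx hXx).trans (zc_le _)) ?_
    intro y hy d hd
    have hn : d * x * d⁻¹ ∈ zc (qz p) :=
      (mem_normalizer_iff.1 (normalizer_le_normalizer_zc _ (le_normalizer_o2 (cz p) hd)) x).1 hxp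
    obtain ⟨n, hndef⟩ : ∃ n, n = d * x * d⁻¹ := ⟨_, rfl⟩
    rw [← hndef] at hn ⊢
    obtain ⟨hn1, hn2, -⟩ := mem_zc.1 hn
    have hnT := hqpT hn1
    by_contra hny
    have hny' : n * y ≠ y * n := fun e => hny e.symm
    -- `ρ` moves `V`
    obtain ⟨y', hy', hρy'⟩ := hT1 ρ hρT ⟨_, hz₀, hρz⟩
    -- every element of `T` moving something in `V` maps `y` to `y v` for `y ∉ ⟨v⟩`
    have hact : ∀ t ∈ T, (∃ a ∈ V, t * a ≠ a * t) → ∀ a ∈ V, a ≠ 1 → a ≠ v → t * a * t⁻¹ = a * v := by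
      rintro t ht ⟨a', ha', hta'⟩ a ha ha1 hav
      rcases h.ot.act ht ha with e | e
      · exfalso
        apply hta'
        have h1 : t * a = a * t := mul_inv_eq_iff_eq_mul.1 e
        rcases h.ot.V_four a ha ha1 hav a' ha' with e' | e' | e' | e'
        · rw [e', mul_one, one_mul]
        · rw [e']; exact h.ot.T_r t ht
        · rw [e']; exact h1
        · rw [e']
          calc t * (a * v) = (t * a) * v := by group
            _ = a * (t * v) := by rw [h1]; group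
            _ = a * v * t := by rw [h.ot.T_r t ht]; group
      · exact e
    have hρn : ∀ a ∈ V, ρ * n * a = a * (ρ * n) := by
      intro a ha
      by_cases ha1 : a = 1
      · rw [ha1, mul_one, one_mul]
      by_cases hav : a = v
      · rw [hav]
        calc ρ * n * v = ρ * (n * v) := by group
          _ = (ρ * v) * n := by rw [h.ot.T_r n hnT]; group
          _ = v * (ρ * n) := by rw [h.ot.T_r ρ hρT]; group
      · have h1 := hact n hnT ⟨y, hy, hny'⟩ a ha ha1 hav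
        have h2 := hact ρ hρT ⟨y', hy', hρy'⟩ a ha ha1 hav
        have h3 := h.ot.T_r ρ hρT
        have h4 : ρ * n * a * (ρ * n)⁻¹ = a := by
          calc ρ * n * a * (ρ * n)⁻¹ = ρ * (n * a * n⁻¹) * ρ⁻¹ := by group
            _ = (ρ * a * ρ⁻¹) * (ρ * v) * ρ⁻¹ := by rw [h1]; group
            _ = a * v * (v * ρ) * ρ⁻¹ := by rw [h2, h3]
            _ = a * (v * v) := by group
            _ = a := by rw [hvv, mul_one]
        exact mul_inv_eq_iff_eq_mul.1 h4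
    have hρnz : ρ * n * (w * y₀ * w⁻¹) ≠ w * y₀ * w⁻¹ * (ρ * n) := by
      intro e
      apply hρz
      have h1 := hn2 _ (hV₂p hz₀)
      have h2 : ρ * (w * y₀ * w⁻¹) * n = w * y₀ * w⁻¹ * ρ * n := by
        calc ρ * (w * y₀ * w⁻¹) * n = ρ * ((w * y₀ * w⁻¹) * n) := by group
          _ = ρ * n * (w * y₀ * w⁻¹) := by rw [h1]; group
          _ = w * y₀ * w⁻¹ * ρ * n := by rw [e]; group
      exact mul_right_cancel h2
    obtain ⟨a, ha, hne⟩ := hT1 (ρ * n) (mul_mem hρT hnT) ⟨_, hz₀, hρnz⟩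
    exact hne (hρn a ha)
  -- the end
  obtain ⟨a, ha, hρa⟩ := hT1 ρ hρT ⟨_, hz₀, hρz⟩
  rcases h.ot.act hρT ha with e | e
  · exact hρa (mul_inv_eq_iff_eq_mul.1 e)
  · rcases (mem_zpowers_iff_of_sq hpp).1 ((mem_KK.1 hρK).2 a (hVp ha)) with e2 | e2
    · exact hρa (mul_inv_eq_iff_eq_mul.1 (mul_inv_eq_one.1 e2))
    · apply hp
      have e3 : ρ * a * ρ⁻¹ = p * a := mul_inv_eq_iff_eq_mul.1 e2
      rw [e3, hcomm a ha p hpV |>.symm] at e
      exact mul_left_cancel e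

end two

section main

variable {w : G} (hw : w ∈ normalizer (T : Set G))
include hw

/-- a common element of `Ω₁Z(T) ∩ C(X)` and `Ω₁Z(T) ∩ C(X^w)` -/
theorem exists_x : ∃ x ∈ T, x * x = 1 ∧ x ≠ 1 ∧ (∀ t ∈ T, t * x = x * t) ∧ (∀ g ∈ X, g * x = x * g) ∧
    ∀ g ∈ X, w * g * w⁻¹ * x = x * (w * g * w⁻¹) := by
  have hT : cj w T = T := cj_eq_of_mem_normalizer hw
  have hTi : ∀ t ∈ T, w⁻¹ * t * w ∈ T := fun t ht => by
    rw [← hT, mem_cj] at ht
    exact ht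
  have hTw : ∀ t ∈ T, w * t * w⁻¹ ∈ T := fun t ht => by rw [← hT]; exact mem_cj_mk ht
  have key : ∀ x ∈ T, x * x = 1 → (∀ t ∈ T, t * x = x * t) →
      (∀ g ∈ X, w * g * w⁻¹ * x = x * (w * g * w⁻¹)) ∨ ∀ g ∈ X, g * (w⁻¹ * x * w * v) = w⁻¹ * x * w * v * g := by
    intro x hx hxx hTx
    rcases h.dec (w⁻¹ * x * w) (hTi x hx) (by
      calc w⁻¹ * x * w * (w⁻¹ * x * w) = w⁻¹ * (x * x) * w := by group
        _ = 1 := by rw [hxx]; group) (fun t ht => by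
      calc t * (w⁻¹ * x * w) = w⁻¹ * (w * t * w⁻¹ * x) * w := by group
        _ = w⁻¹ * x * w * t := by rw [hTx _ (hTw t ht)]; group) with e | e
    · left
      intro g hg
      calc w * g * w⁻¹ * x = w * (g * (w⁻¹ * x * w)) * w⁻¹ := by group
        _ = x * (w * g * w⁻¹) := by rw [e g hg]; group
    · exact Or.inr e
  obtain ⟨x₁, hx₁T, x₂, hx₂T, ⟨h₁₁, h₁₂, h₁₃, h₁₄⟩, ⟨h₂₁, h₂₂, h₂₃, h₂₄⟩, hne⟩ := h.two
  rcases key x₁ hx₁T h₁₁ h₁₃ with e₁ | e₁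
  · exact ⟨x₁, hx₁T, h₁₁, h₁₂, h₁₃, h₁₄, e₁⟩
  rcases key x₂ hx₂T h₂₁ h₂₃ with e₂ | e₂
  · exact ⟨x₂, hx₂T, h₂₁, h₂₂, h₂₃, h₂₄, e₂⟩
  have h12 : x₁ * x₂ = x₂ * x₁ := h₂₃ x₁ hx₁T
  have hvv := h.sq h.ot.r_mem
  refine ⟨x₁ * x₂, mul_mem hx₁T hx₂T, ?_, ?_, ?_, ?_, ?_⟩
  · calc x₁ * x₂ * (x₁ * x₂) = x₁ * x₂ * (x₂ * x₁) := by rw [h12]
      _ = x₁ * (x₂ * x₂) * x₁ := by group
      _ = 1 := by rw [h₂₁, mul_one, h₁₁]
  · intro e
    apply hne
    calc x₁ = x₁ * (x₂ * x₂) := by rw [h₂₁, mul_one]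
      _ = x₁ * x₂ * x₂ := by group
      _ = x₂ := by rw [e, one_mul]
  · intro t ht
    calc t * (x₁ * x₂) = (t * x₁) * x₂ := by group
      _ = x₁ * (t * x₂) := by rw [h₁₃ t ht]; group
      _ = x₁ * x₂ * t := by rw [h₂₃ t ht]; group
  · intro t ht
    calc t * (x₁ * x₂) = (t * x₁) * x₂ := by group
      _ = x₁ * (t * x₂) := by rw [h₁₄ t ht]; group
      _ = x₁ * x₂ * t := by rw [h₂₄ t ht]; group
  · intro g hg
    -- `(x₁^{w⁻¹} v)(x₂^{w⁻¹} v) = (x₁ x₂)^{w⁻¹}`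
    have hv1 : v * (w⁻¹ * x₂ * w) = w⁻¹ * x₂ * w * v := by
      exact (h.ot.T_r _ (hTi x₂ hx₂T)).symm
    have e3 : w⁻¹ * x₁ * w * v * (w⁻¹ * x₂ * w * v) = w⁻¹ * (x₁ * x₂) * w := by
      calc w⁻¹ * x₁ * w * v * (w⁻¹ * x₂ * w * v) = w⁻¹ * x₁ * w * (v * (w⁻¹ * x₂ * w)) * v := by group
        _ = w⁻¹ * x₁ * w * (w⁻¹ * x₂ * w) * (v * v) := by rw [hv1]; group
        _ = w⁻¹ * (x₁ * x₂) * w := by rw [hvv]; group
    have e4 : g * (w⁻¹ * (x₁ * x₂) * w) = w⁻¹ * (x₁ * x₂) * w * g := by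
      rw [← e3]
      calc g * (w⁻¹ * x₁ * w * v * (w⁻¹ * x₂ * w * v)) = (g * (w⁻¹ * x₁ * w * v)) * (w⁻¹ * x₂ * w * v) := by group
        _ = w⁻¹ * x₁ * w * v * (g * (w⁻¹ * x₂ * w * v)) := by rw [e₁ g hg]; group
        _ = w⁻¹ * x₁ * w * v * (w⁻¹ * x₂ * w * v) * g := by rw [e₂ g hg]; group
    calc w * g * w⁻¹ * (x₁ * x₂) = w * (g * (w⁻¹ * (x₁ * x₂) * w)) * w⁻¹ := by group
      _ = x₁ * x₂ * (w * g * w⁻¹) := by rw [e4]; group

variable (hp : w * v * w⁻¹ ≠ v)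
include hp

/-- **NOT PARALLEL: `X` centralises `v^w`** -/
theorem cen {g : G} (hg : g ∈ X) : g * (w * v * w⁻¹) = w * v * w⁻¹ * g := by
  obtain ⟨x, h1, h2, h3, h4, h5, h6⟩ := h.exists_x hw
  exact h.cen_aux hw hp h1 h2 h3 h4 h5 h6 g hg

/-- **`X^w` centralises `v`** -/
theorem cen' {g : G} (hg : g ∈ X) : w * g * w⁻¹ * v = v * (w * g * w⁻¹) := by
  have h1 := h.cen (inv_mem hw) (fun e => hp (by
    rw [inv_inv] at e
    calc w * v * w⁻¹ = w * (w⁻¹ * v * w) * w⁻¹ := by rw [e]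
      _ = v := by group)) hg
  rw [inv_inv] at h1
  calc w * g * w⁻¹ * v = w * (g * (w⁻¹ * v * w)) * w⁻¹ := by group
    _ = v * (w * g * w⁻¹) := by rw [h1]; group

/-- **`V^w ≤ Ω₁Z(O₂(C(v)))`** -/
theorem mem_zc {y : G} (hy : y ∈ V) : w * y * w⁻¹ ∈ zc (qz v) := by
  refine (h.ot.cjN hw).le_zc h.hG (h.sq h.ot.r_mem) h.ot.r_ne h.ot.T_r ?_ (mem_cj_mk hy)
  rintro _ ⟨g, hg, rfl⟩
  exact h.cen' hw hp hg

/-- **`V ≤ Ω₁Z(O₂(C(v^w)))`** -/
theorem mem_zc' {y : G} (hy : y ∈ V) : y ∈ zc (qz (w * v * w⁻¹)) :=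
  h.ot.le_zc h.hG ((h.ot.cjN hw).V_sq _ (h.ot.cjN hw).r_mem) (h.ot.cjN hw).r_ne (h.ot.cjN hw).T_r
    (fun _ hg => h.cen hw hp hg) hy

/-- the second line over `T`, with `X^w ≤ C(v)` -/
theorem otD : OtD T (cj w V) (cj w X) (w * v * w⁻¹) ∧ ∀ g ∈ cj w X, g * v = v * g := by
  refine ⟨h.ot.cjN hw, ?_⟩
  rintro _ ⟨g, hg, rfl⟩
  exact h.cen' hw hp hg

end main

end Par

end Cfsg.Agent.Omega.HT.OtCore
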