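import Cfsg.Agent.Omega.IId.CvBig.Over
import Cfsg.Agent.Omega.IId.CvBig.U2Par
import Cfsg.Agent.Omega.IId.BigD.Surv.Plug

/-!
# `BigU2`: the instance of `Par` (CvBig/U2Par.lean) over the frame `InsT` (CvBig/Over.lean)

* `Sit0.zc_q_le` : `Ω₁Z(O₂(C(u))) ≤ O₂(P)` for `u ∈ V_l#`;
* `InsT.par` : `Par T V_i X v` for `T` not Sylow in `G`, `D ≠ 1`;
* `InsT.hU`, `InsT.hU'` : `V_i^w ≤ Ω₁Z(O₂(C(v)))`, `V_i ≤ Ω₁Z(O₂(C(v^w)))` for `w ∈ N(T)` moving `v`;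
* `InsT.cenw`, `InsT.cenw'` : `X^w` centralises `v`, `X` centralises `v^w`;
* `InsT.vw_mem` : `v^w ∈ Z₀`; `InsT.exists_z` : `1 ≠ z ∈ Z₀` centralised by `X^w`; `InsT.otdW` : the second line.
-/

set_option autoImplicit false
set_option linter.unusedSectionVars false

namespace Cfsg.Agent.Omega.IId.NV.BigD

open Subgroup Pointwise Cfsg Cfsg.Agent.ZN Cfsg.Agent.ZN.ChoiceBase
open Cfsg.Agent.Omega.MinPar Cfsg.Agent.Omega.FFThm
open Cfsg.Agent.Omega.IId.NV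
open Cfsg.Agent.Omega.IId.Big (conj_mem norm_of comm_of_conj conj_of_comm)
open Triangle (KK KK_conj KK_le_o2 mem_cent mem_KK mem_zpowers_iff_of_sq cent_conj o2_cent_conj)

universe u

local notation "cz" v:max => centralizer ({v} : Set _)
local notation "qz" v:max => ZN.o2 (centralizer ({v} : Set _))

variable {G : Type u} [Group G] [Finite G] {F : Type} [Field F] [Finite F] [CharP F 2] {S : Sylow 2 G}
  {P V D : Subgroup G} {k : ℕ} {M : NatD F S P V D k}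

/-- `Ω₁Z(O₂(C(u))) ≤ O₂(P)` for `u ∈ V_l#` -/
theorem Sit0.zc_q_le {i : Fin k} (h : Sit0 M i) {l : Fin k} {u : G} (hu : u ∈ fac M.toNatV l) (hu1 : u ≠ 1) :
    zc (qz u) ≤ o2 P := by
  obtain ⟨v₁, hv₁, hv₁1⟩ := exists_line M i
  obtain ⟨v, -, hs⟩ := h.exists_sd hv₁ hv₁1
  exact hs.zc_le_Q hu hu1

namespace InsT

variable {i : Fin k} {T : Subgroup G} {κ : Type*} {R : κ → Subgroup G} {o : κ} (h : InsT M i T R o)
include h

theorem mem_Ro {v : G} (hv : v ∈ line M.toNatV i) (hv1 : v ≠ 1) (x : G) : x ∈ R o ↔ x = 1 ∨ x = v := by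
  rw [h.ro]
  refine ⟨eq_of_line h.two hv hv1, ?_⟩
  rintro (rfl | rfl)
  · exact one_mem _
  · exact hv

variable (hS : ∀ S₁ : Sylow 2 G, (S₁ : Subgroup G) ≠ T) (hD : D ≠ ⊥) {v : G} (hv : v ∈ line M.toNatV i) (hv1 : v ≠ 1)
include hS hD hv hv1

/-- **the instance** -/
theorem par : HT.OtCore.Par T (fac M.toNatV i) (BTwo.XX (fac M.toNatV i) R) v where
  hG := h.c2
  ot := h.otdT (h.mem_Ro hv hv1) hv1
  WV := h.WV i
  zT _ hu hu1 := (h.zc_q_le hu hu1).trans h.o2_T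
  dec c hc hcc hct := by
    have hcz : c ∈ zc T := ZN.mem_zc.2 ⟨hc, hct, by rw [pow_two]; exact hcc⟩
    obtain ⟨u, hu, hz⟩ := h.decT hv hv1 hcz
    have hvc : v * c = c * v := hct v (h.fac_T (line_le _ i hv))
    rcases hu with rfl | rfl
    · left
      intro x hx
      have := mem_centralizer_iff.1 hz.2 x (mem_sup_right hx)
      rwa [one_mul] at this
    · right
      intro x hx
      have := mem_centralizer_iff.1 hz.2 x (mem_sup_right hx)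
      rwa [hvc] at this
  two := by
    obtain ⟨x, hx, y, hy, hx1, hy1, hxy⟩ := h.twoT hS hD
    have key : ∀ {z : G}, z ∈ zc T ⊓ centralizer ((T ⊔ BTwo.XX (fac M.toNatV i) R : Subgroup G) : Set G) →
        z ≠ 1 → z * z = 1 ∧ z ≠ 1 ∧ (∀ t ∈ T, t * z = z * t) ∧
          ∀ g ∈ BTwo.XX (fac M.toNatV i) R, g * z = z * g := by
      intro z hz hz1
      obtain ⟨-, h2, h3⟩ := ZN.mem_zc.1 hz.1
      exact ⟨by rw [← pow_two]; exact h3, hz1, h2, fun g hg => mem_centralizer_iff.1 hz.2 g (mem_sup_right hg)⟩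
    exact ⟨x, ZN.zc_le _ hx.1, y, ZN.zc_le _ hy.1, key hx hx1, key hy hy1, hxy⟩

variable {w : G} (hw : w ∈ normalizer (T : Set G)) (hwv : w * v * w⁻¹ ≠ v)
include hw hwv

/-- **`V_i^w ≤ Ω₁Z(O₂(C(v)))`** -/
theorem hU {x : G} (hx : x ∈ fac M.toNatV i) : w * x * w⁻¹ ∈ zc (qz v) := (h.par hS hD hv hv1).mem_zc hw hwv hx

/-- `V_i ≤ Ω₁Z(O₂(C(v^w)))` -/
theorem hU' {x : G} (hx : x ∈ fac M.toNatV i) : x ∈ zc (qz (w * v * w⁻¹)) :=
  (h.par hS hD hv hv1).mem_zc' hw hwv hx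

/-- `X` centralises `v^w` -/
theorem cenw {g : G} (hg : g ∈ BTwo.XX (fac M.toNatV i) R) : g * (w * v * w⁻¹) = w * v * w⁻¹ * g :=
  (h.par hS hD hv hv1).cen hw hwv hg

/-- `X^w` centralises `v` -/
theorem cenw' {g : G} (hg : g ∈ BTwo.XX (fac M.toNatV i) R) : w * g * w⁻¹ * v = v * (w * g * w⁻¹) :=
  (h.par hS hD hv hv1).cen' hw hwv hg

/-- `v^w ∈ Z₀` -/
theorem vw_mem : w * v * w⁻¹ ∈
    zc T ⊓ centralizer ((T ⊔ BTwo.XX (fac M.toNatV i) R : Subgroup G) : Set G) := by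
  have h1 : w * v * w⁻¹ ∈ zc T :=
    (mem_normalizer_iff.1 ((normalizer_le_normalizer_zc T) hw) v).1 (h.line_zcT hv)
  refine ⟨h1, ?_⟩
  have h2 : T ⊔ BTwo.XX (fac M.toNatV i) R ≤ cz (w * v * w⁻¹) :=
    sup_le (fun t ht => mem_cent.2 ((ZN.mem_zc.1 h1).2.1 t ht))
      fun g hg => mem_cent.2 (h.cenw hS hD hv hv1 hw hwv hg)
  exact mem_centralizer_iff.2 fun x hx => mem_cent.1 (h2 hx)

/-- the second line `V_i^w` -/
theorem otdW : HT.OtCore.OtD T (cj w (fac M.toNatV i)) (cj w (BTwo.XX (fac M.toNatV i) R)) (w * v * w⁻¹) ∧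
    ∀ g ∈ cj w (BTwo.XX (fac M.toNatV i) R), g * v = v * g :=
  (h.par hS hD hv hv1).otD hw hwv

omit hwv in
/-- `1 ≠ z ∈ Z₀` centralised by `X^w` -/
theorem exists_z : ∃ z ∈ zc T ⊓ centralizer ((T ⊔ BTwo.XX (fac M.toNatV i) R : Subgroup G) : Set G), z ≠ 1 ∧
    ∀ g ∈ cj w (BTwo.XX (fac M.toNatV i) R), g * z = z * g := by
  obtain ⟨x, hxT, hxx, hx1, hTx, hXx, hXw⟩ := (h.par hS hD hv hv1).exists_x hw
  refine ⟨x, ⟨ZN.mem_zc.2 ⟨hxT, hTx, by rw [pow_two]; exact hxx⟩, ?_⟩, hx1, ?_⟩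
  · have h2 : T ⊔ BTwo.XX (fac M.toNatV i) R ≤ cz x :=
      sup_le (fun t ht => mem_cent.2 (hTx t ht)) fun g hg => mem_cent.2 (hXx g hg)
    exact mem_centralizer_iff.2 fun y hy => mem_cent.1 (h2 hy)
  · rintro _ ⟨g, hg, rfl⟩
    exact hXw g hg

end InsT

end Cfsg.Agent.Omega.IId.NV.BigD
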