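import Cfsg.Agent.Omega.IId.BigD.LeE
import Cfsg.Agent.Omega.IId.BigD.TwoA
import Cfsg.Agent.Omega.IId.CvBig.Bts
import Cfsg.Agent.Omega.IId.CvBig.U2Par
import Cfsg.Agent.Omega.IId.CvBig.U2W

/-!
# `BigU2`: the frame over `T ∈ Syl₂(C_G(v))`, `stab M i ≤ T ≤ N(V_i)`

* `Su M i T v` : the frame; `Su.mx`, `Su.otd`, `Su.exists_ins`, `Su.htt`;
* `Su.zc_dec` : `Ω₁Z(T) = ⟨v⟩ Z₀`; `Su.par` : 63's `Par` from two elements of `Z₀#`;
* `Su.wd` : my `Wd` from `Sig`; `Su.not_alpha_sig` : `not (α_c)` for `c ≠ 1`, `Sig V_i R o c`.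
-/

set_option autoImplicit false
set_option linter.unusedSectionVars false

namespace Cfsg.Agent.Omega.IId.NV.BigD.U2Sig

open Subgroup Pointwise Cfsg Cfsg.Agent.ZN Cfsg.Agent.ZN.ChoiceBase
open Cfsg.Agent.Omega.MinPar Cfsg.Agent.Omega.FFThm
open Cfsg.Agent.MinSimple.VModule (o2_isPGroup)
open Cfsg.Agent.Omega.IId.NV Cfsg.Agent.Omega.IId.NV.BigD Cfsg.Agent.Omega.IId.NV.BigD.Node
open Cfsg.Agent.Omega.IId.Big (Fr Vo conj_mem norm_of comm_of_conj conj_of_comm isPGroup_of_sq le_Vo Vo_le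
  cent_of_closure KK_le_XX XX_le cent_of_XX)
open Triangle (KK KK_conj KK_le_o2 mem_cent mem_KK mem_zpowers_iff_of_sq cent_conj o2_cent_conj)
open Cfsg.Agent.Omega.BTwo (BT BTS WW QQ CenX pt)
open Cfsg.Agent.Omega.NatPair (NatMod PreMod)
open Cfsg.Agent.Omega.HTwo.AlphaP (MP)

universe u

local notation "cz" v:max => centralizer ({v} : Set _)
local notation "qz" v:max => ZN.o2 (centralizer ({v} : Set _))

variable {G : Type u} [Group G] [Finite G] {F : Type} [Field F] [Finite F] [CharP F 2] {S : Sylow 2 G}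
  {P V D : Subgroup G} {k : ℕ}

/-- the frame over `T` -/
structure Su (M : NatD F S P V D k) (i : Fin k) (T : Subgroup G) (v : G) : Prop extends Sit0 M i where
  unm : Unm M i
  T2 : IsPGroup 2 T
  le : stab M.toNatV i ≤ T
  TV : T ≤ normalizer (fac M.toNatV i : Set G)
  vl : v ∈ line M.toNatV i
  v1 : v ≠ 1
  Tv : ∀ t ∈ T, t * v = v * t
  odd : ¬ 2 ∣ T.relIndex (centralizer ({v} : Set G))

namespace Su

variable {M : NatD F S P V D k} {i : Fin k} {T : Subgroup G} {v : G} (h : Su M i T v)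
include h

theorem vV : v ∈ fac M.toNatV i := line_le _ i h.vl

theorem T_cz : T ≤ cz v := fun t ht => mem_cent.2 (h.Tv t ht)

theorem q_le : qz v ≤ T := (h.q_T h.vl h.v1).trans h.le

theorem o2P_le : ZN.o2 P ≤ T := h.o2_le_stab.trans h.le

theorem V_le : V ≤ T := h.V_le_T.trans h.le

theorem Vi_le : fac M.toNatV i ≤ T := h.V_T.trans h.le

theorem vsq : v * v = 1 := h.fr.sq i v h.vV

/-- the mover `a ∈ W_v` -/
theorem exists_move : ∃ a ∈ KK v, ∃ b ∈ fac M.toNatV i, b ≠ 1 ∧ b ≠ v ∧ a * b * a⁻¹ = b * v := by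
  obtain ⟨b, hb, hb1, hvb⟩ := h.fr.exists_other (i := i) v
  obtain ⟨a, ha, hab⟩ := h.fr.move h.vV hb h.v1 hb1 hvb
  exact ⟨a, ha, b, hb, hb1, Ne.symm hvb, by rw [hab, h.fr.comm i i v h.vV b hb]⟩

theorem mx : Mx (fac M.toNatV) i T v where
  vV := h.vV
  v1 := h.v1
  T2 := h.T2
  TV := h.TV
  Tv := h.Tv
  qT := h.q_le
  mx A hA hTA hAV := by
    have hV2 : IsPGroup 2 (fac M.toNatV i) := isPGroup_of_sq fun x hx => h.fr.sq i x hx
    have hne : fac M.toNatV i ≠ ⊥ := fun h0 => h.v1 (by have := h.vV; rwa [h0, mem_bot] at this)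
    obtain ⟨u, hu, hu1, huA⟩ := Half.exists_fixed hV2 hne hA hAV
    have huv : u = v := by
      by_contra hne
      obtain ⟨a, ha, hau⟩ := h.fr.move h.vV hu h.v1 hu1 (Ne.symm hne)
      rw [huA a (hTA (h.q_le (h.fr.KK_le_q h.vV h.v1 ha)))] at hau
      exact h.v1 (right_eq_mul.1 hau)
    refine HT.LemE.le_of_odd h.T2 h.T_cz h.odd hA (fun a ha => mem_cent.2 ?_) (hTA.trans le_normalizer)
    rw [← huv]
    exact comm_of_conj (huA a ha)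

/-- `(zt)` over `T` -/
theorem zt : ∃ a ∈ T, ∃ b ∈ fac M.toNatV i, a * b * a⁻¹ = b * v ∧ ∀ c ∈ T, c * c = 1 →
    (∀ t ∈ T, t ∈ centralizer (fac M.toNatV i : Set G) → t * c = c * t) →
      a * c * a⁻¹ = c ∨ a * c * a⁻¹ = c * v := by
  obtain ⟨a, ha, b, hb, -, -, hab⟩ := h.exists_move
  refine ⟨a, h.q_le (h.fr.KK_le_q h.vV h.v1 ha), b, hb, hab, ?_⟩
  intro c hc hc2 hcc
  have hQc : ∀ q ∈ o2 P, q * c = c * q := fun q hq => hcc q (h.o2P_le hq)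
    (mem_centralizer_iff.2 fun u hu => ((ZN.mem_zc.1 (V_le_zz M (NV.fac_le _ i hu))).2.1 q hq).symm)
  have hcz : c ∈ zc (o2 P) := ZN.mem_zc.2 ⟨h.cent_o2P (mem_centralizer_iff.2 hQc), hQc, by rw [pow_two]; exact hc2⟩
  have hcq := h.zz_q h.vV h.v1 hcz
  rcases h.fr.KK_act h.vV ha hcq with h1 | h1
  · exact Or.inl h1
  · right
    rw [h1]
    exact (mem_cent.1 ((o2_le _) hcq)).symm

/-- `OtD` over `T` -/
theorem otd {X : Subgroup G} (hXV : X ≤ normalizer (fac M.toNatV i : Set G))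
    (htr : ∀ w ∈ fac M.toNatV i, w ≠ 1 → ∃ x ∈ X, x * v * x⁻¹ = w) :
    HT.OtCore.OtD T (fac M.toNatV i) X v where
  T_p := h.T2
  T_r := h.Tv
  odd := h.odd
  V_T := h.Vi_le
  V_sq := h.fr.sq i
  V_four := by
    intro x hx hx1 hxv w hw
    rcases h.fr.cases4 h.vV hx h.v1 hx1 (Ne.symm hxv) hw with e | e | e | e
    · exact Or.inl e
    · exact Or.inr (Or.inl e)
    · exact Or.inr (Or.inr (Or.inl e))
    · refine Or.inr (Or.inr (Or.inr ?_))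
      rw [e]; exact h.fr.comm i i v h.vV x hx
  r_mem := h.vV
  r_ne := h.v1
  T_V := h.TV
  X_V := hXV
  trans := htr
  zt := h.zt

/-- `OtD` for `⟨W_u : u ∈ V_i#⟩` -/
theorem otd_XX : HT.OtCore.OtD T (fac M.toNatV i) (Big.XX (fac M.toNatV) i) v :=
  h.otd (XX_V h.fr i) fun _ hw hw1 => XX_trans h.fr h.vV hw h.v1 hw1

/-- an involution centralised by `T` is in `Ω₁Z(O₂(P))` -/
theorem mem_zz {c : G} (hcc : c * c = 1) (hc : ∀ t ∈ T, t * c = c * t) : c ∈ zc (o2 P) :=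
  h.toSit0.mem_zz hcc fun t ht => hc t (h.le ht)

theorem zc_le : zc T ≤ zc (o2 P) := fun c hc => h.mem_zz (by rw [← pow_two]; exact (ZN.mem_zc.1 hc).2.2)
  (ZN.mem_zc.1 hc).2.1

/-- `Ω₁Z(Q_u) ≤ O₂(P)`, `u ∈ V_i#` -/
theorem zcq_le {u : G} (hu : u ∈ fac M.toNatV i) (hu1 : u ≠ 1) : zc (qz u) ≤ o2 P := by
  have key : ∀ z ∈ zc (qz v), z ∈ o2 P := by
    intro z hz
    rw [← MinPar.IsParS.inf_centralizer S h.c2 h.par]
    refine ⟨stab_le _ i (h.q_T h.vl h.v1 (ZN.zc_le _ hz)), mem_centralizer_iff.2 fun x hx => ?_⟩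
    exact (ZN.mem_zc.1 hz).2.1 x (h.zz_q h.vV h.v1 (zl_le_zz M hx))
  intro z hz
  obtain ⟨g, hg, hgv, -⟩ := exists_P_conj hu hu1 h.vV h.v1
  have h1 : g * z * g⁻¹ ∈ zc (qz v) := by
    have hz' := ZN.mem_zc.1 hz
    have hq : ∀ x, x ∈ qz v → g⁻¹ * x * g ∈ qz u := by
      intro x hx
      have e : u = g⁻¹ * v * g⁻¹⁻¹ := by rw [← hgv]; group
      rw [e, o2_cent_conj]
      refine ⟨x, hx, ?_⟩
      show g⁻¹ * x * g⁻¹⁻¹ = g⁻¹ * x * g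
      rw [inv_inv]
    refine ZN.mem_zc.2 ⟨?_, fun x hx => ?_, ?_⟩
    · rw [← hgv, o2_cent_conj]
      exact ⟨z, hz'.1, rfl⟩
    · have h2 := hz'.2.1 _ (hq x hx)
      calc x * (g * z * g⁻¹) = g * ((g⁻¹ * x * g) * z) * g⁻¹ := by group
        _ = g * z * g⁻¹ * x := by rw [h2]; group
    · have h3 := hz'.2.2
      rw [pow_two] at h3 ⊢
      calc g * z * g⁻¹ * (g * z * g⁻¹) = g * (z * z) * g⁻¹ := by group
        _ = 1 := by rw [h3]; group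
  have h2 := conj_mem (MinSimple.VModule.le_normalizer_o2 P) (inv_mem hg) (key _ h1)
  have e : g⁻¹ * (g * z * g⁻¹) * g⁻¹⁻¹ = z := by group
  rwa [e] at h2

/-- `Ω₁Z(T) = ⟨v⟩ Z₀` -/
theorem zc_dec {c : G} (hcc : c * c = 1) (hc : ∀ t ∈ T, t * c = c * t) :
    (∀ x ∈ Big.XX (fac M.toNatV) i, x * c = c * x) ∨ ∀ x ∈ Big.XX (fac M.toNatV) i, x * (c * v) = c * v * x := by
  rcases h.mcov h.mx (h.mem_zz hcc hc) hc with h1 | h1
  · exact Or.inl (cent_of_XX h1)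
  · right
    have e : v * c = c * v := hc v (h.Vi_le h.vV)
    rw [← e]
    exact cent_of_XX h1

/-- **63's frame** -/
theorem par (two : ∃ x₁ ∈ T, ∃ x₂ ∈ T, (x₁ * x₁ = 1 ∧ x₁ ≠ 1 ∧ (∀ t ∈ T, t * x₁ = x₁ * t) ∧
      ∀ g ∈ Big.XX (fac M.toNatV) i, g * x₁ = x₁ * g) ∧
    (x₂ * x₂ = 1 ∧ x₂ ≠ 1 ∧ (∀ t ∈ T, t * x₂ = x₂ * t) ∧ ∀ g ∈ Big.XX (fac M.toNatV) i, g * x₂ = x₂ * g) ∧
      x₁ ≠ x₂) : HT.OtCore.Par T (fac M.toNatV i) (Big.XX (fac M.toNatV) i) v where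
  hG := M.hG
  ot := h.otd_XX
  WV := h.WV i
  zT _ hu hu1 := (h.zcq_le hu hu1).trans h.o2P_le
  dec _ _ hcc hc := h.zc_dec hcc hc
  two := two

section ins

variable {κ : Type*} {R : κ → Subgroup G} {o : κ} (b : Ins0 M i R o)
include b

theorem hr (x : G) : x ∈ R o ↔ x = 1 ∨ x = v := by
  rw [b.ro]
  refine ⟨eq_of_line h.two h.vl h.v1, ?_⟩
  rintro (rfl | rfl)
  · exact one_mem _
  · exact h.vl

theorem norm_Ro : normalizer (R o : Set G) = cz v := b.norm_R ((h.hr b v).2 (Or.inr rfl)) h.v1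

theorem XX_le_XX : BTwo.XX (fac M.toNatV i) R ≤ Big.XX (fac M.toNatV) i := by
  refine iSup_le fun j => ?_
  obtain ⟨u, hu, hu1⟩ := b.bts.exists_ne j
  exact (b.WW_le hu hu1).trans (KK_le_XX (b.bts.R_le j hu) hu1)

/-- `OtD` for `X` -/
theorem otd_X : HT.OtCore.OtD T (fac M.toNatV i) (BTwo.XX (fac M.toNatV i) R) v :=
  h.otd b.bts.X_le_NV fun _ hw hw1 => b.trans_V h.vV hw h.v1 hw1

/-- **The instance over `T`.** -/
theorem htt : HT.HTT T (T ⊔ BTwo.XX (fac M.toNatV i) R) (fac M.toNatV i) R o where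
  toBT := b.bts.toBT
  card_R := b.card_R
  char2 := h.c2
  S_p := h.T2
  S_odd := by rw [h.norm_Ro b]; exact h.odd
  S_V := h.TV
  S_R := by rw [h.norm_Ro b]; exact h.T_cz
  S_P := le_sup_left
  P_V := sup_le h.TV b.bts.X_le_NV
  P_trans j := by
    obtain ⟨x, hx, e⟩ := b.trans_X o j
    exact ⟨x, mem_sup_right hx, e⟩
  P_Z x hx z hz := by
    have h1 : T ⊔ BTwo.XX (fac M.toNatV i) R ≤ BTwo.cenMod (fac M.toNatV i) (zc T) := by
      refine sup_le (fun t ht => ⟨h.TV ht, fun z hz => ?_⟩) fun x hx =>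
        ⟨b.bts.X_le_NV hx, fun z hz => b.comm_zc hx (h.zc_le hz)⟩
      rw [((ZN.mem_zc.1 hz).2.1 t ht), mul_inv_cancel_right, mul_inv_cancel]
      exact one_mem _
    exact (h1 hx).2 z hz
  loc _ hT hX _ _ := (h.otd_X b).ot hT hX

/-- `Sig`: `N_G(V_i)` centralises `c` -/
theorem cN {c : G} (hc : c ∈ zc T ⊓ centralizer ((T ⊔ BTwo.XX (fac M.toNatV i) R : Subgroup G) : Set G))
    (hS : HT.Sig (fac M.toNatV i) R o c) {g : G} (hg : ∀ x ∈ fac M.toNatV i, g * x * g⁻¹ ∈ fac M.toNatV i) :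
    g * c = c * g := by
  have hgn : g ∈ normalizer (fac M.toNatV i : Set G) := CvBig.U2W.mem_norm hg
  have hgv : g * v * g⁻¹ ≠ 1 := cj_ne_one h.v1
  obtain ⟨x, hx, e⟩ := b.trans_V (hg v h.vV) h.vV hgv h.v1
  -- `x g ∈ C(v)`
  have h1 : x * g ∈ normalizer (R o : Set G) := by
    rw [h.norm_Ro b]
    refine mem_cent.2 (comm_of_conj ?_)
    calc x * g * v * (x * g)⁻¹ = x * (g * v * g⁻¹) * x⁻¹ := by group
      _ = v := e
  have h2 := hS.comm (h.htt b) (h.hr b) hc h1 (mul_mem (b.bts.X_le_NV hx) hgn)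
  have h3 : x * c = c * x := mem_centralizer_iff.1 hc.2 x (mem_sup_right hx)
  calc g * c = x⁻¹ * (x * g * c) := by group
    _ = x⁻¹ * (c * x) * g := by rw [h2]; group
    _ = c * g := by rw [← h3]; group

omit b in
/-- my frame `Wd` -/
theorem exists_wd (two : ∃ x₁ ∈ T, ∃ x₂ ∈ T, (x₁ * x₁ = 1 ∧ x₁ ≠ 1 ∧ (∀ t ∈ T, t * x₁ = x₁ * t) ∧
      ∀ g ∈ Big.XX (fac M.toNatV) i, g * x₁ = x₁ * g) ∧
    (x₂ * x₂ = 1 ∧ x₂ ≠ 1 ∧ (∀ t ∈ T, t * x₂ = x₂ * t) ∧ ∀ g ∈ Big.XX (fac M.toNatV) i, g * x₂ = x₂ * g) ∧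
      x₁ ≠ x₂) {c : G} (hcQ : c ∈ zc (o2 P))
    (hcN : ∀ g : G, (∀ x ∈ fac M.toNatV i, g * x * g⁻¹ ∈ fac M.toNatV i) → g * c = c * g) :
    ∃ v' : Fin k → G, v' i = v ∧ CvBig.U2W.Wd S (o2 P) (fac M.toNatV) v' i T c := by
  obtain ⟨v', hv', hsd⟩ := h.exists_sd h.vl h.v1
  refine ⟨v', hv', ?_⟩
  subst hv'
  exact
    { sd := hsd
      Tp := h.T2
      T1T := by
        rintro t ⟨ht, htv⟩
        refine h.le (mem_inf.2 ⟨ht, CvBig.U2W.mem_norm fun x hx => hsd.fix_line ht (mem_cent.1 htv) hx⟩)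
      TV := fun t ht x hx => conj_mem h.TV ht hx
      Tc := h.T_cz
      odd := h.odd
      cQ := hcQ
      cN := hcN
      hU := fun w hw _ hwv x hx => (h.par two).mem_zc hw (fun e => hwv (mem_cent.2 (comm_of_conj e))) hx }

/-- **`not (α_c)` for `c ≠ 1`** -/
theorem not_alpha_sig (two : ∃ x₁ ∈ T, ∃ x₂ ∈ T, (x₁ * x₁ = 1 ∧ x₁ ≠ 1 ∧ (∀ t ∈ T, t * x₁ = x₁ * t) ∧
      ∀ g ∈ Big.XX (fac M.toNatV) i, g * x₁ = x₁ * g) ∧
    (x₂ * x₂ = 1 ∧ x₂ ≠ 1 ∧ (∀ t ∈ T, t * x₂ = x₂ * t) ∧ ∀ g ∈ Big.XX (fac M.toNatV) i, g * x₂ = x₂ * g) ∧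
      x₁ ≠ x₂) {c : G}
    (hc : c ∈ zc T ⊓ centralizer ((T ⊔ BTwo.XX (fac M.toNatV i) R : Subgroup G) : Set G)) (hc1 : c ≠ 1)
    (hS : HT.Sig (fac M.toNatV i) R o c) :
    ¬ HOneTwo.UM (fac M.toNatV i) (MP (fac M.toNatV i) R o c) ≤ QQ (R o) := by
  obtain ⟨v', hv', hw⟩ := h.exists_wd two (h.zc_le hc.1) (fun g hg => h.cN b hc hS hg)
  have hY := hw.exists_Y M.hG
  rw [hv'] at hY
  exact HT.Main.not_alpha (h.htt b) (b.le h.unm) (h.hr b) hc hc1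
    (HT.EndCore.core (h.htt b) (h.hr b) (h.otd_X b) hc) hY

end ins

end Su

end Cfsg.Agent.Omega.IId.NV.BigD.U2Sig
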