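import Cfsg.Agent.Omega.IId.CvBig.U4Def
import Cfsg.Agent.Omega.IId.CvBig.Bts
import Cfsg.Agent.Omega.IId.Cv.Sit

/-!
# `BigUS4` (`k > 2`, `q ≥ 4`, `T₁` a Sylow 2-subgroup of `G`) from `ChainT`, `EndL`, LEMMA NORM

`bigUS4_of : ChainT → EndL → NmBig → BigUS4 K`.
-/

set_option autoImplicit false
set_option linter.unusedSectionVars false

namespace Cfsg.Agent.Omega.IId.Cv

open Subgroup Pointwise Cfsg Cfsg.Agent.ZN Cfsg.Agent.ZN.ChoiceBase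
open Cfsg.Agent.Omega.MinPar Cfsg.Agent.Omega.Frame Cfsg.Agent.Omega.FFThm Cfsg.Agent.Omega.FrameMulti
open Cfsg.Agent.Omega.NatPair (NatMod)
open Cfsg.Agent.Omega.HOne.Cut (EndL)

universe u

/-- **`T₁` is a Sylow 2-subgroup of `G`, `q ≥ 4`, `k > 2`** -/
theorem bigUS4_of {K : Cls.{u}} (hCh : ChainT.{u}) (hE : EndL.{u}) (hNm : NmBig.{u}) : BigUS4 K := by
  intro G _ _ S hH P F _ _ _ V D k M _ hC hD i hu T₁ hT h4
  obtain ⟨N, e⟩ := NV.bts_big M hC (hNm G S P F V D k M hC i hu h4) hu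
  obtain ⟨o, ho⟩ : ∃ o, BTwo.pt N o = NV.line M.toNatV i := ⟨⟨N.line ![1, 0], _, vec_one_ne, rfl⟩, e.line⟩
  refine known_four hCh hE (hH.conj T₁).toHyp h4 N e.bts (o := o) hT.fac ?_
    fun h => hD (le_bot_iff.1 (e.cenD.trans h.le))
  rw [ho]
  exact hT.line

end Cfsg.Agent.Omega.IId.Cv
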